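import Cfsg.Agent.S0056
import Cfsg.Agent.S0205
import Mathlib

/-!
Burnside's transfer theorem for an abelian Sylow `2`-subgroup with a small normaliser.
-/

set_option autoImplicit false

namespace Cfsg.Agent.H45.Pyramidal

variable {G : Type*} [Group G] [Finite G]

/-- An element is a product of a `2`-power and an odd-order power of itself. -/
theorem exists_two_odd_parts (g : G) :
    ∃ a ∈ Subgroup.zpowers g, ∃ b ∈ Subgroup.zpowers g,
      g = a * b ∧ (∃ s, a ^ 2 ^ s = 1) ∧ Odd (orderOf b) := by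
  obtain ⟨s, m, hm, hsm⟩ := Nat.exists_eq_pow_mul_and_not_dvd (orderOf_pos g).ne' 2 (by norm_num)
  have hcop : Nat.Coprime (2 ^ s) m :=
    Nat.Coprime.pow_left _ ((Nat.Prime.coprime_iff_not_dvd Nat.prime_two).2 hm)
  have hbez := Nat.gcd_eq_gcd_ab (2 ^ s) m
  rw [hcop.gcd_eq_one] at hbez
  set u := (2 ^ s).gcdA m
  set v := (2 ^ s).gcdB m
  refine ⟨g ^ ((m : ℤ) * v), Subgroup.zpow_mem _ (Subgroup.mem_zpowers g) _,
    g ^ ((2 ^ s : ℕ) * u : ℤ), Subgroup.zpow_mem _ (Subgroup.mem_zpowers g) _, ?_, ⟨s, ?_⟩, ?_⟩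
  · rw [← zpow_add, add_comm, ← hbez, Nat.cast_one, zpow_one]
  · rw [← zpow_natCast, ← zpow_mul,
      show (m : ℤ) * v * ((2 ^ s : ℕ) : ℤ) = ((2 ^ s * m : ℕ) : ℤ) * v by push_cast; ring,
      zpow_mul, zpow_natCast, ← hsm, pow_orderOf_eq_one, one_zpow]
  · refine Odd.of_dvd_nat (n := m) ?_ (orderOf_dvd_of_pow_eq_one ?_)
    · rw [← Nat.not_even_iff_odd, even_iff_two_dvd]; exact hm
    · rw [← zpow_natCast, ← zpow_mul,
        show ((2 ^ s : ℕ) : ℤ) * u * (m : ℤ) = ((2 ^ s * m : ℕ) : ℤ) * u by push_cast; ring,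
        zpow_mul, zpow_natCast, ← hsm, pow_orderOf_eq_one, one_zpow]

/-- A `2`-element normalising a Sylow `2`-subgroup lies in it. -/
theorem mem_sylow_of_normalize (S : Sylow 2 G) {a : G}
    (ha : a ∈ Subgroup.normalizer ((S : Subgroup G) : Set G)) (h : ∃ s, a ^ 2 ^ s = 1) :
    a ∈ (S : Subgroup G) := by
  haveI : Fact (Nat.Prime 2) := ⟨Nat.prime_two⟩
  obtain ⟨s, hs⟩ := h
  have hp : IsPGroup 2 (Subgroup.zpowers a) := by
    obtain ⟨r, -, hr⟩ := (Nat.dvd_prime_pow Nat.prime_two).1 (orderOf_dvd_of_pow_eq_one hs)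
    exact IsPGroup.of_card (n := r) (by rw [Nat.card_zpowers, hr])
  have hsup := hp.to_sup_of_normal_right' S.isPGroup' (Subgroup.zpowers_le.2 ha)
  rw [← S.is_maximal' hsup le_sup_right]
  exact Subgroup.mem_sup_left (Subgroup.mem_zpowers a)

/-- A group with abelian Sylow `2`-subgroup whose normaliser fixes its involutions is solvable. -/
theorem isSolvable_of_abelian_sylow (S : Sylow 2 G) [IsMulCommutative (S : Subgroup G)]
    (h : ∀ b ∈ Subgroup.normalizer ((S : Subgroup G) : Set G), Odd (orderOf b) →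
      ∀ v ∈ (S : Subgroup G), v * v = 1 → b * v = v * b) :
    Group.IsSolvable G := by
  haveI : Fact (Nat.Prime 2) := ⟨Nat.prime_two⟩
  have hle : Subgroup.normalizer ((S : Subgroup G) : Set G) ≤
      Subgroup.centralizer ((S : Subgroup G) : Set G) := by
    intro g hg
    obtain ⟨a, ha, b, hb, hgab, ha2, hbodd⟩ := exists_two_odd_parts g
    have haS := mem_sylow_of_normalize S (Subgroup.zpowers_le.2 hg ha) ha2
    have hbN := Subgroup.zpowers_le.2 hg hb
    obtain ⟨r, hr⟩ := IsPGroup.iff_card.1 S.isPGroup'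
    have h1 := Cfsg.Agent.S0056.result (Subgroup.zpowers b) (S : Subgroup G)
      (Subgroup.zpowers_le.2 hbN) (by
        rw [Nat.card_zpowers, hr]
        exact Nat.Coprime.pow_right _ (Nat.coprime_two_right.2 hbodd))
      (fun v hv hvp c hc => by
        have hv2 : orderOf v = 2 := by
          have h3 := Subgroup.orderOf_dvd_natCard _ hv
          rw [hr] at h3
          exact (Nat.prime_dvd_prime_iff_eq hvp Nat.prime_two).1 (hvp.dvd_of_dvd_pow h3)
        have hcomm : Commute b v := h b hbN hbodd v hv (by rw [← sq, ← hv2, pow_orderOf_eq_one])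
        obtain ⟨i, rfl⟩ := hc
        exact (hcomm.zpow_left i).eq)
    rw [hgab]
    exact mul_mem (Subgroup.le_centralizer (S : Subgroup G) haS) (h1 (Subgroup.mem_zpowers b))
  have hcomp := MonoidHom.ker_transferSylow_isComplement' S hle
  have hodd : Odd (Nat.card (MonoidHom.transferSylow S hle).ker) := by
    rw [← hcomp.index_eq_card, ← Nat.not_even_iff_odd, even_iff_two_dvd]
    exact S.not_dvd_index
  haveI := Cfsg.Agent.S0205.result hodd
  haveI : Group.IsNilpotent (S : Subgroup G) := S.isPGroup'.isNilpotent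
  exact Group.isSolvable_of_ker_le_range (MonoidHom.transferSylow S hle).ker.subtype
    (MonoidHom.transferSylow S hle) (by rw [Subgroup.range_subtype])

end Cfsg.Agent.H45.Pyramidal
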