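import Mathlib

/-!
Anisotropic quadratic maps between elementary abelian `2`-groups and character sums.
-/

set_option autoImplicit false

namespace Cfsg.Agent.H45.Pyramidal

/-- The sign of an element of `ZMod 2`. -/
def sgn (a : ZMod 2) : ℤ := if a = 0 then 1 else -1

theorem sgn_zero : sgn 0 = 1 := rfl

theorem sgn_add : ∀ a b : ZMod 2, sgn (a + b) = sgn a * sgn b := by decide

theorem sgn_eq : ∀ a : ZMod 2, sgn a = 1 ∨ sgn a = -1 := by decide

theorem sum_sgn_hom {W : Type*} [AddCommGroup W] [Fintype W] (g : W →+ ZMod 2) (hg : g ≠ 0) :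
    ∑ w, sgn (g w) = 0 := by
  obtain ⟨a, ha⟩ : ∃ a, g a ≠ 0 := by
    by_contra hh
    push Not at hh
    exact hg (AddMonoidHom.ext hh)
  have ha' : sgn (g a) = -1 := by
    rw [sgn, if_neg ha]
  have h : ∑ w, sgn (g w) = ∑ w, sgn (g (a + w)) :=
    (Fintype.sum_equiv (Equiv.addLeft a) _ _ fun _ => rfl).symm
  simp only [map_add, sgn_add, ha', neg_one_mul, Finset.sum_neg_distrib] at h
  linarith

/-- The square of a quadratic character sum. -/
theorem sum_sgn_sq {W : Type*} [AddCommGroup W] [Fintype W] (g : W → ZMod 2)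
    (b : W →+ W →+ ZMod 2) (hg : ∀ v w, g (v + w) = g v + g w + b v w) :
    (∑ w, sgn (g w)) ^ 2 = 0 ∨
      (∑ w, sgn (g w)) ^ 2 = (Nat.card W : ℤ) * Nat.card b.flip.ker := by
  classical
  set S := ∑ w, sgn (g w) with hS
  have h1 : S ^ 2 = ∑ u, sgn (g u) * ∑ v, sgn (b v u) := by
    rw [sq, hS, Finset.sum_mul]
    have : ∀ v, sgn (g v) * ∑ w, sgn (g w) = ∑ u, sgn (g u) * sgn (b v u) := by
      intro v
      rw [Finset.mul_sum, ← Fintype.sum_equiv (Equiv.addLeft v)
        (fun u => sgn (g v) * sgn (g (v + u))) (fun w => sgn (g v) * sgn (g w)) fun _ => rfl]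
      refine Finset.sum_congr rfl fun u _ => ?_
      rw [hg, sgn_add, sgn_add]
      rcases sgn_eq (g v) with e | e <;> rw [e] <;> ring
    simp only [this, Finset.mul_sum]
    rw [Finset.sum_comm]
  have h2 : ∀ u, ∑ v, sgn (b v u) = if u ∈ b.flip.ker then (Nat.card W : ℤ) else 0 := by
    intro u
    split_ifs with hu
    · have : ∀ v, b v u = 0 := fun v => DFunLike.congr_fun (AddMonoidHom.mem_ker.1 hu) v
      simp [this, sgn_zero]
    · exact sum_sgn_hom (b.flip u) fun hh => hu (AddMonoidHom.mem_ker.2 hh)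
  simp only [h2, mul_ite, mul_zero] at h1
  rw [← Finset.sum_filter, Finset.sum_subtype (p := fun u => u ∈ b.flip.ker) _ (by simp),
    ← Finset.sum_mul] at h1
  let g' : b.flip.ker →+ ZMod 2 := AddMonoidHom.mk' (fun u => g u) fun u v => by
    rw [AddSubgroup.coe_add, hg]
    have : b (u : W) (v : W) = 0 := DFunLike.congr_fun (AddMonoidHom.mem_ker.1 v.2) (u : W)
    rw [this, add_zero]
  by_cases hg' : g' = 0
  · right
    have : ∀ u : b.flip.ker, sgn (g u) = 1 := fun u => by
      show sgn (g' u) = 1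
      rw [hg']
      rfl
    rw [h1, Finset.sum_congr rfl fun u _ => this u]
    simp [mul_comm]
  · left
    rw [h1]
    have := sum_sgn_hom g' hg'
    exact mul_eq_zero_of_left this _

/-- Two powers of two differing by the stated amount. -/
theorem two_pow_eq {n w a : ℕ} (hn : 1 ≤ n)
    (h : 2 ^ w + 2 ^ a = 2 ^ n + 2 ^ (a + n)) : a = n ∧ w = 2 * n := by
  have inj : ∀ {x y : ℕ}, 2 ^ x = 2 ^ y → x = y := fun h => Nat.pow_right_injective le_rfl h
  have hw : n < w := by
    by_contra hle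
    have h1 : 2 ^ w ≤ 2 ^ n := Nat.pow_le_pow_right (by norm_num) (by omega)
    have h2 : 2 ^ a < 2 ^ (a + n) := Nat.pow_lt_pow_right (by norm_num) (by omega)
    omega
  rcases lt_trichotomy a n with hlt | heq | hgt
  · exfalso
    have d1 : 2 ^ (a + 1) ∣ 2 ^ n + 2 ^ (a + n) :=
      dvd_add (pow_dvd_pow 2 (by omega)) (pow_dvd_pow 2 (by omega))
    rw [← h] at d1
    have d2 := (Nat.dvd_add_right (pow_dvd_pow 2 (show a + 1 ≤ w by omega))).1 d1
    have := (Nat.pow_dvd_pow_iff_le_right (show 1 < 2 by norm_num)).1 d2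
    omega
  · refine ⟨heq, inj ?_⟩
    rw [heq] at h
    rw [two_mul]
    omega
  · exfalso
    have d1 : 2 ^ (n + 1) ∣ 2 ^ w + 2 ^ a :=
      dvd_add (pow_dvd_pow 2 (by omega)) (pow_dvd_pow 2 (by omega))
    rw [h] at d1
    have d2 := (Nat.dvd_add_left (pow_dvd_pow 2 (show n + 1 ≤ a + n by omega))).1 d1
    have := (Nat.pow_dvd_pow_iff_le_right (show 1 < 2 by norm_num)).1 d2
    omega

theorem exists_two_pow_card {A : Type*} [AddCommGroup A] [Finite A] (h : ∀ a : A, a + a = 0) :
    ∃ n, Nat.card A = 2 ^ n := by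
  let _ : Module (ZMod 2) A := AddCommGroup.zmodModule (fun a => by rw [two_nsmul, h])
  exact ⟨_, (Module.natCard_eq_pow_finrank (K := ZMod 2) (V := A)).trans (by rw [Nat.card_zmod])⟩

theorem card_dual {E : Type*} [AddCommGroup E] [Finite E] [Module (ZMod 2) E] :
    Nat.card (Module.Dual (ZMod 2) E) = Nat.card E := by
  haveI : Finite (Module.Dual (ZMod 2) E) :=
    Finite.of_injective (fun f => (f : E → ZMod 2)) DFunLike.coe_injective
  rw [Module.natCard_eq_pow_finrank (K := ZMod 2) (V := E),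
    Module.natCard_eq_pow_finrank (K := ZMod 2) (V := Module.Dual (ZMod 2) E),
    Subspace.dual_finrank_eq]

theorem exists_dual_one {E : Type*} [AddCommGroup E] [Module (ZMod 2) E] {e : E} (he : e ≠ 0) :
    ∃ f : Module.Dual (ZMod 2) E, f e = 1 := by
  obtain ⟨f, hf⟩ : ∃ f : Module.Dual (ZMod 2) E, f e ≠ 0 := by
    by_contra hh
    push Not at hh
    exact he ((Module.forall_dual_apply_eq_zero_iff (ZMod 2) e).1 hh)
  exact ⟨f, ((by decide : ∀ x : ZMod 2, x = 0 ∨ x = 1) (f e)).resolve_left hf⟩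

/-- An anisotropic quadratic map between elementary abelian `2`-groups. -/
structure Quad {W E : Type*} [AddCommGroup W] [AddCommGroup E] (q : W → E)
    (c : W →+ W →+ E) : Prop where
  two_W : ∀ w : W, w + w = 0
  two_E : ∀ e : E, e + e = 0
  add : ∀ v w, q (v + w) = q v + q w + c v w
  zero_iff : ∀ w, q w = 0 ↔ w = 0

namespace Quad

variable {W E : Type*} [AddCommGroup W] [AddCommGroup E] {q : W → E} {c : W →+ W →+ E}

theorem map_zero (h : Quad q c) : q 0 = 0 := (h.zero_iff 0).2 rfl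

theorem self (h : Quad q c) (v : W) : c v v = 0 := by
  have := h.add v v
  rwa [h.two_W, h.map_zero, h.two_E, zero_add, eq_comm] at this

theorem symm (h : Quad q c) (v w : W) : c v w = c w v := by
  have h1 := h.add v w
  have h2 := h.add w v
  rw [add_comm w v, h1, add_comm (q w)] at h2
  exact add_left_cancel h2

/-- The possible sizes of an anisotropic quadratic map with equally large fibres. -/
theorem dichotomy [Fintype W] [Fintype E] [Module (ZMod 2) E] (h : Quad q c)
    (hE : 2 ≤ Nat.card E) {F : ℕ} (hF1 : 1 ≤ F)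
    (hF : ∀ e : E, e ≠ 0 → Nat.card {w : W // q w = e} = F) :
    (F = 1 ∧ Nat.card W = Nat.card E) ∨
    (F = Nat.card E + 1 ∧ Nat.card W = Nat.card E ^ 2 ∧
      ∀ f : Module.Dual (ZMod 2) E, f ≠ 0 →
        (∑ w, sgn (f (q w))) = -(Nat.card E : ℤ) ∧ ∀ u, (∀ v, f (c v u) = 0) → u = 0) := by
  classical
  obtain ⟨n, hn⟩ := exists_two_pow_card h.two_E
  obtain ⟨w, hw⟩ := exists_two_pow_card h.two_W
  have hn1 : 1 ≤ n := by
    by_contra hh
    rw [hn, show n = 0 by omega] at hE
    norm_num at hE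
  have hfib : ∀ e : E, ((Finset.univ.filter fun v : W => q v = e).card : ℤ) =
      if e = 0 then 1 else (F : ℤ) := by
    intro e
    split_ifs with he
    · subst he
      rw [show (Finset.univ.filter fun v : W => q v = 0) = {0} by ext v; simp [h.zero_iff]]
      simp
    · rw [← hF e he, Nat.card_eq_fintype_card, Fintype.card_subtype]
  have hcard : (Nat.card W : ℤ) = 1 + F * ((Nat.card E : ℤ) - 1) := by
    have h1 := Finset.card_eq_sum_card_fiberwise (f := q) (s := Finset.univ) (t := Finset.univ)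
      (fun v _ => Finset.mem_univ _)
    rw [Finset.card_univ, ← Nat.card_eq_fintype_card] at h1
    rw [h1]
    push_cast
    have h3 : ∀ e : E, (if e = 0 then 1 else (F : ℤ)) = F + if e = 0 then (1 - (F : ℤ)) else 0 :=
      fun e => by split_ifs <;> ring
    rw [Finset.sum_congr rfl fun e _ => (hfib e).trans (h3 e), Finset.sum_add_distrib,
      Finset.sum_ite_eq', if_pos (Finset.mem_univ _), Finset.sum_const, Finset.card_univ,
      ← Nat.card_eq_fintype_card, nsmul_eq_mul]
    ring
  have hsum : ∀ f : Module.Dual (ZMod 2) E, f ≠ 0 → ∑ v, sgn (f (q v)) = 1 - (F : ℤ) := by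
    intro f hf
    have h1 : ∑ v, sgn (f (q v)) = ∑ e, (if e = 0 then 1 else (F : ℤ)) * sgn (f e) := by
      rw [← Finset.sum_fiberwise Finset.univ q]
      refine Finset.sum_congr rfl fun e _ => ?_
      rw [Finset.sum_congr rfl (g := fun _ => sgn (f e)) (fun v hv => by
        rw [(Finset.mem_filter.1 hv).2]), Finset.sum_const, nsmul_eq_mul, hfib]
    have h2 := sum_sgn_hom f.toAddMonoidHom (fun hh => hf (LinearMap.toAddMonoidHom_injective hh))
    have h3 : ∀ e : E, (if e = 0 then 1 else (F : ℤ)) * sgn (f e) =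
        (F : ℤ) * sgn (f e) + if e = 0 then (1 - (F : ℤ)) else 0 := fun e => by
      split_ifs with he
      · rw [he, _root_.map_zero, sgn_zero]; ring
      · ring
    simp only [h3, Finset.sum_add_distrib, ← Finset.mul_sum, Finset.sum_ite_eq', Finset.mem_univ,
      if_true] at h1
    rw [h1]
    have h4 : ∑ e, sgn (f e) = 0 := h2
    rw [h4]
    ring
  have hcardN : 2 ^ w = 1 + F * (2 ^ n - 1) := by
    have h1 : (Nat.card W : ℤ) = ((1 + F * (2 ^ n - 1) : ℕ) : ℤ) := by
      rw [hcard, hn, Nat.cast_add, Nat.cast_mul, Nat.cast_sub Nat.one_le_two_pow]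
      push_cast
      ring
    rw [← hw]
    exact_mod_cast h1
  rcases Nat.lt_or_ge 1 F with hFgt | hFle
  swap
  · have hF' : F = 1 := by omega
    refine Or.inl ⟨hF', ?_⟩
    rw [hw, hn, hcardN, hF']
    have := Nat.one_le_two_pow (n := n)
    omega
  right
  let bf : Module.Dual (ZMod 2) E → (W →+ W →+ ZMod 2) := fun f =>
    (AddMonoidHom.compHom f.toAddMonoidHom).comp c
  have hsq : ∀ f : Module.Dual (ZMod 2) E, f ≠ 0 →
      (1 - (F : ℤ)) ^ 2 = (Nat.card W : ℤ) * Nat.card (bf f).flip.ker := by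
    intro f hf
    have h1 := sum_sgn_sq (fun v => f (q v)) (bf f) (fun v u => by
      rw [h.add, _root_.map_add, _root_.map_add]; rfl)
    rw [hsum f hf] at h1
    refine h1.resolve_left fun h0 => ?_
    have h2 := sq_eq_zero_iff.1 h0
    omega
  haveI : Nontrivial E := Finite.one_lt_card_iff_nontrivial.1 (by omega)
  obtain ⟨e, he⟩ := exists_ne (0 : E)
  obtain ⟨f0, hf0⟩ := exists_dual_one he
  have hf0' : f0 ≠ 0 := fun hh => by simp [hh] at hf0
  obtain ⟨r, hr⟩ := exists_two_pow_card (A := (bf f0).flip.ker)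
    (fun a => Subtype.ext (h.two_W (a : W)))
  have h2 : (F - 1) ^ 2 = 2 ^ (w + r) := by
    have h1 := hsq f0 hf0'
    rw [hw, hr] at h1
    zify [hF1]
    rw [pow_add]
    push_cast at h1
    linear_combination h1
  obtain ⟨a, -, ha⟩ := (Nat.dvd_prime_pow Nat.prime_two).1
    (show F - 1 ∣ 2 ^ (w + r) from h2 ▸ dvd_pow_self _ two_ne_zero)
  have hFeq : F = 2 ^ a + 1 := by omega
  obtain ⟨han, hwn⟩ := two_pow_eq (w := w) (a := a) hn1 (by
    zify
    have h1 : (Nat.card W : ℤ) = (2 : ℤ) ^ w := by exact_mod_cast hw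
    rw [h1, hn, hFeq] at hcard
    push_cast at hcard
    rw [pow_add]
    linear_combination hcard)
  have hWE : Nat.card W = Nat.card E ^ 2 := by
    rw [hw, hn, hwn, ← pow_mul, mul_comm]
  have hFE : F = Nat.card E + 1 := by rw [hn, hFeq, han]
  refine ⟨hFE, hWE, fun f hf => ⟨?_, ?_⟩⟩
  · rw [hsum f hf, hFE]; push_cast; ring
  intro u hu
  have h1 := hsq f hf
  rw [hFE, hWE] at h1
  push_cast at h1
  have h3 : (Nat.card (bf f).flip.ker : ℤ) = 1 := by
    have h4 : (Nat.card E : ℤ) ^ 2 * Nat.card (bf f).flip.ker = (Nat.card E : ℤ) ^ 2 * 1 := by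
      linear_combination -h1
    exact mul_left_cancel₀ (pow_ne_zero 2 (by simp)) h4
  haveI : Subsingleton (bf f).flip.ker :=
    (Nat.card_eq_one_iff_unique.1 (by exact_mod_cast h3)).1
  have h4 : (⟨u, AddMonoidHom.mem_ker.2 (AddMonoidHom.ext hu)⟩ : (bf f).flip.ker) = 0 :=
    Subsingleton.elim _ _
  exact congrArg Subtype.val h4

/-- An automorphism of odd order of an anisotropic quadratic map with a non-zero fixed point is
trivial. -/
theorem semiregular [Fintype W] [Fintype E] [Module (ZMod 2) E] (h : Quad q c)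
    (hE : 2 ≤ Nat.card E) {F : ℕ} (hF1 : 1 ≤ F)
    (hF : ∀ e : E, e ≠ 0 → Nat.card {w : W // q w = e} = F)
    (a : W →+ W) {r : ℕ} (hr : Odd r) (har : ∀ v, (⇑a)^[r] v = v) (hq : ∀ v, q (a v) = q v)
    {w0 : W} (hw0 : w0 ≠ 0) (haw : a w0 = w0) : ∀ v, a v = v := by
  classical
  have hbij : ∀ v v', q v = q v' → F = 1 → v = v' := by
    intro v v' hvv hF'
    by_cases h0 : q v = 0
    · rw [(h.zero_iff v).1 h0, (h.zero_iff v').1 (hvv ▸ h0)]
    · have h1 := (Nat.card_eq_one_iff_unique.1 ((hF _ h0).trans hF')).1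
      exact congrArg Subtype.val
        (Subsingleton.elim (⟨v, rfl⟩ : {w : W // q w = q v}) ⟨v', hvv.symm⟩)
  rcases h.dichotomy hE hF1 hF with ⟨hF', -⟩ | ⟨-, hW, hS⟩
  · exact fun v => hbij _ _ (hq v) hF'
  have hcinv : ∀ v u, c (a v) (a u) = c v u := by
    intro v u
    have h1 := h.add (a v) (a u)
    rw [← _root_.map_add, hq, hq, hq, h.add] at h1
    exact (add_left_cancel h1).symm
  have hodd : ∀ v : W, r • v = v := by
    obtain ⟨k, rfl⟩ := hr
    intro v
    rw [add_smul, one_smul, mul_smul, two_nsmul, h.two_W, zero_add]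
  let e : W →+ W := AddMonoidHom.mk' (fun v => ∑ i ∈ Finset.range r, (⇑a)^[i] v) fun v u => by
    simp [iterate_map_add, Finset.sum_add_distrib]
  have hae : ∀ v, a (e v) = e v := by
    intro v
    show a (∑ i ∈ Finset.range r, (⇑a)^[i] v) = ∑ i ∈ Finset.range r, (⇑a)^[i] v
    rw [map_sum]
    have h1 : ∑ i ∈ Finset.range r, a ((⇑a)^[i] v) =
        ∑ i ∈ Finset.range r, (⇑a)^[i + 1] v :=
      Finset.sum_congr rfl fun i _ => (Function.iterate_succ_apply' _ _ _).symm
    rw [h1]
    have h2 := Finset.sum_range_succ' (fun i => (⇑a)^[i] v) r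
    have h3 := Finset.sum_range_succ (fun i => (⇑a)^[i] v) r
    rw [h3, har] at h2
    simpa using h2.symm
  have hefix : ∀ v, a v = v → e v = v := by
    intro v hv
    show ∑ i ∈ Finset.range r, (⇑a)^[i] v = v
    rw [Finset.sum_congr rfl fun i _ => Function.IsFixedPt.iterate (f := ⇑a) hv i, Finset.sum_const,
      Finset.card_range, hodd]
  let V : AddSubgroup W := e.range
  let U : AddSubgroup W := e.ker
  have hV : ∀ v ∈ V, a v = v ∧ e v = v := by
    rintro _ ⟨v, rfl⟩
    exact ⟨hae v, hefix _ (hae v)⟩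
  have horth : ∀ v ∈ V, ∀ u ∈ U, c v u = 0 := by
    intro v hv u hu
    have h1 : ∀ i, c v ((⇑a)^[i] u) = c v u := by
      intro i
      induction i with
      | zero => rfl
      | succ i ih =>
        rw [Function.iterate_succ_apply']
        conv_lhs => rw [← (hV v hv).1]
        rw [hcinv, ih]
    have h2 : c v (e u) = c v u := by
      show c v (∑ i ∈ Finset.range r, (⇑a)^[i] u) = _
      rw [map_sum, Finset.sum_congr rfl fun i _ => h1 i, Finset.sum_const, Finset.card_range]
      obtain ⟨k, rfl⟩ := hr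
      rw [add_smul, one_smul, mul_smul, two_nsmul, h.two_E, zero_add]
    rw [← h2, AddMonoidHom.mem_ker.1 hu, _root_.map_zero]
  let split : W ≃ V × U :=
    { toFun := fun v => (⟨e v, v, rfl⟩, ⟨v - e v, by
        rw [AddMonoidHom.mem_ker, map_sub, (hV _ ⟨v, rfl⟩).2, sub_self]⟩)
      invFun := fun p => (p.1 : W) + p.2
      left_inv := fun v => add_sub_cancel _ _
      right_inv := fun p => by
        have h1 : e ((p.1 : W) + p.2) = p.1 := by
          rw [_root_.map_add, AddMonoidHom.mem_ker.1 p.2.2, add_zero, (hV _ p.1.2).2]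
        refine Prod.ext (Subtype.ext h1) (Subtype.ext ?_)
        show (p.1 : W) + p.2 - e ((p.1 : W) + p.2) = p.2
        rw [h1, add_sub_cancel_left] }
  have hcardW : Nat.card W = Nat.card V * Nat.card U := by
    rw [Nat.card_congr split, Nat.card_prod]
  obtain ⟨b, hb⟩ := exists_two_pow_card (A := V) (fun v => Subtype.ext (h.two_W (v : W)))
  obtain ⟨d, hd⟩ := exists_two_pow_card (A := U) (fun v => Subtype.ext (h.two_W (v : W)))
  obtain ⟨n, hn⟩ := exists_two_pow_card h.two_E
  have hbd : b + d = 2 * n := by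
    rw [hW, hn, hb, hd, ← pow_mul, ← pow_add] at hcardW
    have := Nat.pow_right_injective le_rfl hcardW
    omega
  by_contra hne
  push Not at hne
  obtain ⟨v1, hv1⟩ := hne
  have hd1 : 1 ≤ d := by
    by_contra hh
    haveI : Subsingleton U := (Nat.card_eq_one_iff_unique.1 (by rw [hd, show d = 0 by omega]; rfl)).1
    have h1 := congrArg Subtype.val (Subsingleton.elim (split v1).2 0)
    have h2 : v1 = e v1 := sub_eq_zero.1 h1
    exact hv1 (by rw [h2, hae])
  have hb1 : 1 ≤ b := by
    by_contra hh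
    haveI : Subsingleton V := (Nat.card_eq_one_iff_unique.1 (by rw [hb, show b = 0 by omega]; rfl)).1
    have h1 := congrArg Subtype.val (Subsingleton.elim (⟨e w0, w0, rfl⟩ : V) 0)
    exact hw0 ((hefix w0 haw).symm.trans h1)
  let sV : Module.Dual (ZMod 2) E → ℤ := fun f => ∑ v : V, sgn (f (q v))
  have key : ∀ f : Module.Dual (ZMod 2) E, f ≠ 0 → sV f ^ 2 = 2 ^ b := by
    intro f hf
    let g : ∀ (X : AddSubgroup W), X → ZMod 2 := fun X x => f (q x)
    let bb : ∀ X : AddSubgroup W, (X →+ X →+ ZMod 2) := fun X =>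
      AddMonoidHom.mk' (fun x => AddMonoidHom.mk' (fun y => f (c x y))
        fun y y' => by simp) fun x x' => by
          ext y
          simp
    have hgb : ∀ X x y, g X (x + y) = g X x + g X y + bb X x y := fun X x y => by
      show f (q (x + y : W)) = f (q x) + f (q y) + f (c x y)
      rw [h.add, _root_.map_add, _root_.map_add]
    have hprod : (∑ v, sgn (f (q v))) = sV f * ∑ u : U, sgn (g U u) := by
      rw [Fintype.sum_equiv split (fun v => sgn (f (q v)))
        (fun p : V × U => sgn (f (q p.1)) * sgn (f (q p.2))) (fun v => ?_),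
        Fintype.sum_prod_type, Finset.sum_mul_sum]
      have h1 : c (e v) (v - e v) = 0 := horth _ (split v).1.2 _ (split v).2.2
      show sgn (f (q v)) = sgn (f (q (e v))) * sgn (f (q (v - e v)))
      conv_lhs => rw [← add_sub_cancel (e v) v]
      rw [h.add, h1, add_zero, _root_.map_add, sgn_add]
    rw [(hS f hf).1] at hprod
    have h2 : (sV f) ^ 2 * (∑ u : U, sgn (g U u)) ^ 2 = 2 ^ b * 2 ^ d := by
      rw [← mul_pow, ← hprod, neg_sq, hn, ← pow_add, hbd]
      push_cast
      rw [← pow_mul, mul_comm]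
    have h3 : (2 : ℤ) ^ b ≤ sV f ^ 2 := by
      rcases sum_sgn_sq (g V) (bb V) (hgb V) with h0 | h0
      · exfalso
        rw [show sV f ^ 2 = 0 from h0, zero_mul] at h2
        exact absurd h2.symm (by positivity)
      · rw [show sV f ^ 2 = _ from h0, hb]
        push_cast
        exact le_mul_of_one_le_right (by positivity) (by exact_mod_cast Nat.card_pos)
    have h4 : (2 : ℤ) ^ d ≤ (∑ u : U, sgn (g U u)) ^ 2 := by
      rcases sum_sgn_sq (g U) (bb U) (hgb U) with h0 | h0
      · exfalso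
        rw [h0, mul_zero] at h2
        exact absurd h2.symm (by positivity)
      · rw [h0, hd]
        push_cast
        exact le_mul_of_one_le_right (by positivity) (by exact_mod_cast Nat.card_pos)
    have h5 : (0 : ℤ) < 2 ^ b := by positivity
    have h6 : (0 : ℤ) < 2 ^ d := by positivity
    nlinarith
  haveI : Finite (Module.Dual (ZMod 2) E) :=
    Finite.of_injective (fun f => (f : E → ZMod 2)) DFunLike.coe_injective
  haveI : Fintype (Module.Dual (ZMod 2) E) := Fintype.ofFinite _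
  have htot : ∑ f : Module.Dual (ZMod 2) E, sV f = 2 ^ n := by
    rw [Finset.sum_comm]
    have h1 : ∀ v : V, ∑ f : Module.Dual (ZMod 2) E, sgn (f (q v)) =
        if v = 0 then (2 : ℤ) ^ n else 0 := by
      intro v
      split_ifs with hv
      · subst hv
        simp [h.map_zero, sgn_zero, ← Nat.card_eq_fintype_card, card_dual, hn]
      · have hqv : q v ≠ 0 := fun hh => hv (Subtype.ext ((h.zero_iff _).1 hh))
        obtain ⟨f, hf⟩ := exists_dual_one hqv
        exact sum_sgn_hom (AddMonoidHom.mk' (fun f : Module.Dual (ZMod 2) E => f (q v))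
          fun f g => by simp) (fun hh => by
            have := DFunLike.congr_fun hh f
            simp [hf] at this)
    simp only [h1, Finset.sum_ite_eq', Finset.mem_univ, if_true]
  -- `2`-adic valuations
  obtain ⟨b', hb'⟩ : ∃ b', b = 2 * b' := by
    haveI : Nontrivial E := Finite.one_lt_card_iff_nontrivial.1 (by omega)
    obtain ⟨x, hx⟩ := exists_ne (0 : E)
    obtain ⟨f, hf⟩ := exists_dual_one hx
    have h1 := key f (fun hh => by simp [hh] at hf)
    have h2 : (sV f).natAbs ^ 2 = 2 ^ b := by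
      rw [← Int.natAbs_pow, h1, Int.natAbs_pow]
      rfl
    obtain ⟨i, -, hi⟩ := (Nat.dvd_prime_pow Nat.prime_two).1
      (show (sV f).natAbs ∣ 2 ^ b from h2 ▸ dvd_pow_self _ two_ne_zero)
    rw [hi, ← pow_mul] at h2
    exact ⟨i, by rw [mul_comm]; exact (Nat.pow_right_injective le_rfl h2).symm⟩
  have hterm : ∀ f : Module.Dual (ZMod 2) E, f ≠ 0 →
      ∃ t : ℤ, sV f = 2 ^ b' * t ∧ (t = 1 ∨ t = -1) := by
    intro f hf
    have h1 := key f hf
    rw [hb', mul_comm, pow_mul] at h1
    rcases sq_eq_sq_iff_eq_or_eq_neg.1 h1 with h2 | h2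
    · exact ⟨1, by rw [h2, mul_one], Or.inl rfl⟩
    · exact ⟨-1, by rw [h2, mul_neg, mul_one], Or.inr rfl⟩
  choose t ht ht1 using hterm
  have hzero : sV 0 = 2 ^ b := by
    show ∑ v : V, sgn ((0 : Module.Dual (ZMod 2) E) (q v)) = 2 ^ b
    simp [sgn_zero, ← Nat.card_eq_fintype_card, hb]
  rw [← Finset.add_sum_erase _ _ (Finset.mem_univ (0 : Module.Dual (ZMod 2) E)), hzero] at htot
  obtain ⟨T, hT, hTodd⟩ : ∃ T : ℤ, (∑ f ∈ Finset.univ.erase 0, sV f) = 2 ^ b' * T ∧
      (T : ZMod 2) = 1 := by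
    let t' : Module.Dual (ZMod 2) E → ℤ := fun f => if hf : f ≠ 0 then t f hf else 0
    have ht' : ∀ f ∈ Finset.univ.erase (0 : Module.Dual (ZMod 2) E),
        sV f = 2 ^ b' * t' f ∧ (t' f : ZMod 2) = 1 := fun f hf => by
      simp only [t', dif_pos (Finset.ne_of_mem_erase hf)]
      refine ⟨ht f _, ?_⟩
      rcases ht1 f (Finset.ne_of_mem_erase hf) with e1 | e1 <;> rw [e1] <;> decide
    refine ⟨∑ f ∈ Finset.univ.erase (0 : Module.Dual (ZMod 2) E), t' f, ?_, ?_⟩
    · rw [Finset.mul_sum]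
      exact Finset.sum_congr rfl fun f hf => (ht' f hf).1
    · rw [Int.cast_sum, Finset.sum_congr rfl fun f hf => (ht' f hf).2, Finset.sum_const,
        Finset.card_erase_of_mem (Finset.mem_univ _), Finset.card_univ,
        ← Nat.card_eq_fintype_card, card_dual, hn, nsmul_one,
        Nat.cast_sub Nat.one_le_two_pow, Nat.cast_pow]
      have : n ≠ 0 := fun h0 => by rw [hn, h0] at hE; norm_num at hE
      rw [show ((2 : ℕ) : ZMod 2) = 0 from rfl, zero_pow this]
      decide
  rw [hT] at htot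
  have hlt : b' < n := by omega
  have hdvd : (2 : ℤ) ^ (b' + 1) ∣ 2 ^ b' * T := by
    have h1 : (2 : ℤ) ^ b' * T = 2 ^ n - 2 ^ b := by linear_combination htot
    rw [h1]
    exact dvd_sub (pow_dvd_pow 2 (by omega)) (pow_dvd_pow 2 (by omega))
  rw [pow_succ] at hdvd
  have h2 := (mul_dvd_mul_iff_left (pow_ne_zero b' (two_ne_zero' ℤ))).1 hdvd
  rw [show (2 : ℤ) = ((2 : ℕ) : ℤ) from rfl, ← ZMod.intCast_zmod_eq_zero_iff_dvd] at h2
  exact one_ne_zero (hTodd.symm.trans h2)

end Quad

end Cfsg.Agent.H45.Pyramidal
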