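import Cfsg.Agent.S3776
import Cfsg.Agent.H24.PGroupBasic
import Cfsg.Agent.H45.Pyramidal.QuadMap

/-!
The squaring map of a special `2`-group with a transitive group on its involutions.
-/

set_option autoImplicit false

namespace Cfsg.Agent.H45.Pyramidal

open scoped IsMulCommutative

/-- A non-abelian group whose centre is its derived group, equal to the set of elements squaring
to `1`, and containing all squares. -/
structure Special (S : Type*) [Group S] : Prop where
  comm_eq : commutator S = Subgroup.center S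
  mem_iff : ∀ x : S, x ∈ Subgroup.center S ↔ x * x = 1
  sq_mem : ∀ x : S, x * x ∈ Subgroup.center S
  nonabelian : ∃ x : S, x ∉ Subgroup.center S

theorem special_of_transitive {S : Type*} [Group S] [Finite S] (hS : IsPGroup 2 S)
    (hna : ¬ ∀ x y : S, x * y = y * x)
    (htwo : ∃ x y : S, x ≠ y ∧ x ≠ 1 ∧ x * x = 1 ∧ y ≠ 1 ∧ y * y = 1)
    (Y : Subgroup (MulAut S)) (hY : Group.IsSolvable Y)
    (htr : ∀ x y : S, x ≠ 1 → x * x = 1 → y ≠ 1 → y * y = 1 → ∃ a ∈ Y, a x = y) :
    Special S := by
  haveI : Fact (Nat.Prime 2) := ⟨Nat.prime_two⟩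
  obtain ⟨x, y, hxy, hx, hx2, hy, hy2⟩ := htwo
  obtain ⟨h1, h2, h3⟩ := Cfsg.Agent.S3776.result hS
    (fun h => hna fun a b => h.is_comm.comm a b)
    ⟨x, y, hxy, hx, (sq x).trans hx2, hy, (sq y).trans hy2⟩
    ⟨Y, hY, fun a b ha ha2 hb hb2 => htr a b ha (by rw [← sq, ha2]) hb (by rw [← sq, hb2])⟩
  refine ⟨h1.trans h2, fun z => by rw [h3, sq], fun z => ?_, ?_⟩
  · rw [← sq, ← h2]
    exact Cfsg.Agent.H24.pow_mem_frattini hS z
  · by_contra hh
    push Not at hh
    exact hna fun a b => (Subgroup.mem_center_iff.1 (hh b) a)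

/-- The additive group `S / S'`. -/
abbrev SW (S : Type*) [Group S] : Type _ := Additive (Abelianization S)

/-- The additive group `Z(S)`. -/
abbrev SE (S : Type*) [Group S] : Type _ := Additive (Subgroup.center S)

variable {S : Type*} [Group S]

/-- The class of an element of `S` in `S / S'`. -/
def cls (x : S) : SW S := Additive.ofMul (Abelianization.of x)

theorem cls_mul (x y : S) : cls (x * y) = cls x + cls y := by
  simp [cls]

theorem cls_surjective : Function.Surjective (cls : S → SW S) := fun w => by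
  obtain ⟨x, hx⟩ := QuotientGroup.mk_surjective (Additive.toMul w)
  exact ⟨x, congrArg Additive.ofMul hx⟩

namespace Special

theorem cls_eq_zero (h : Special S) {x : S} : cls x = 0 ↔ x ∈ Subgroup.center S := by
  rw [← h.comm_eq]
  exact (QuotientGroup.eq_one_iff x)

/-- The obstruction to multiplicativity of squaring. -/
theorem rel_mem (h : Special S) (x y : S) : y * x * y⁻¹ * x⁻¹ ∈ Subgroup.center S := by
  rw [← h.comm_eq, commutator_def]
  exact Subgroup.commutator_mem_commutator (Subgroup.mem_top y) (Subgroup.mem_top x)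

theorem sq_mul (h : Special S) (x y : S) :
    x * y * (x * y) = x * x * (y * y) * (y * x * y⁻¹ * x⁻¹) := by
  have hr := Subgroup.mem_center_iff.1 (h.rel_mem x y)
  calc x * y * (x * y) = x * ((y * x * y⁻¹ * x⁻¹) * (x * y)) * y := by group
    _ = x * ((x * y) * (y * x * y⁻¹ * x⁻¹)) * y := by rw [hr]
    _ = x * x * y * ((y * x * y⁻¹ * x⁻¹) * y) := by group
    _ = x * x * y * (y * (y * x * y⁻¹ * x⁻¹)) := by rw [hr]
    _ = _ := by group

/-- Squaring, as a map from `S / S'` to `Z(S)`. -/
def q (h : Special S) : SW S → SE S := fun w =>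
  Quotient.liftOn' (Additive.toMul w : S ⧸ commutator S)
    (fun x => Additive.ofMul (⟨x * x, h.sq_mem x⟩ : Subgroup.center S))
    (fun x y hxy => by
      refine congrArg Additive.ofMul (Subtype.ext ?_)
      have hz : x⁻¹ * y ∈ Subgroup.center S := h.comm_eq ▸ QuotientGroup.leftRel_apply.1 hxy
      have h1 := (h.mem_iff _).1 hz
      have h2 := Subgroup.mem_center_iff.1 hz x
      show x * x = y * y
      calc x * x = x * x * ((x⁻¹ * y) * (x⁻¹ * y)) := by rw [h1, mul_one]
        _ = x * (x * (x⁻¹ * y)) * (x⁻¹ * y) := by group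
        _ = x * ((x⁻¹ * y) * x) * (x⁻¹ * y) := by rw [h2]
        _ = y * y := by group)

theorem q_cls (h : Special S) (x : S) :
    h.q (cls x) = Additive.ofMul (⟨x * x, h.sq_mem x⟩ : Subgroup.center S) := rfl

/-- The commutator of representatives. -/
def rel (h : Special S) (x y : S) : SE S :=
  Additive.ofMul (⟨y * x * y⁻¹ * x⁻¹, h.rel_mem x y⟩ : Subgroup.center S)

theorem q_add (h : Special S) (x y : S) :
    h.q (cls x + cls y) = h.q (cls x) + h.q (cls y) + h.rel x y := by
  rw [← cls_mul]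
  exact congrArg Additive.ofMul (Subtype.ext (h.sq_mul x y))

theorem rel_mul_right (h : Special S) (x y y' : S) :
    h.rel x (y * y') = h.rel x y + h.rel x y' := by
  refine congrArg Additive.ofMul (Subtype.ext ?_)
  show y * y' * x * (y * y')⁻¹ * x⁻¹ = (y * x * y⁻¹ * x⁻¹) * (y' * x * y'⁻¹ * x⁻¹)
  have hr := Subgroup.mem_center_iff.1 (h.rel_mem x y')
  calc y * y' * x * (y * y')⁻¹ * x⁻¹ = y * ((y' * x * y'⁻¹ * x⁻¹) * (x * y⁻¹ * x⁻¹)) := by group
    _ = y * ((x * y⁻¹ * x⁻¹) * (y' * x * y'⁻¹ * x⁻¹)) := by rw [hr]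
    _ = _ := by group

/-- The polar form of squaring. -/
def c (h : Special S) : SW S →+ SW S →+ SE S :=
  AddMonoidHom.mk' (fun v => AddMonoidHom.mk' (fun w => h.q (v + w) - h.q v - h.q w)
    (fun w w' => by
      obtain ⟨x, rfl⟩ := cls_surjective v
      obtain ⟨y, rfl⟩ := cls_surjective w
      obtain ⟨y', rfl⟩ := cls_surjective w'
      rw [← cls_mul, h.q_add, h.q_add, h.q_add, h.rel_mul_right]
      abel))
    (fun v v' => AddMonoidHom.ext fun w => by
      obtain ⟨x, rfl⟩ := cls_surjective v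
      obtain ⟨x', rfl⟩ := cls_surjective v'
      obtain ⟨y, rfl⟩ := cls_surjective w
      show h.q (cls x + cls x' + cls y) - h.q (cls x + cls x') - h.q (cls y) =
        (h.q (cls x + cls y) - h.q (cls x) - h.q (cls y)) +
        (h.q (cls x' + cls y) - h.q (cls x') - h.q (cls y))
      rw [add_comm (cls x + cls x'), add_comm (cls x) (cls y), add_comm (cls x') (cls y),
        ← cls_mul, h.q_add, h.q_add, h.q_add, h.rel_mul_right]
      abel)

theorem c_apply (h : Special S) (v w : SW S) : h.c v w = h.q (v + w) - h.q v - h.q w := rfl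

theorem quad (h : Special S) : Quad h.q h.c where
  two_W w := by
    obtain ⟨x, rfl⟩ := cls_surjective w
    rw [← cls_mul, h.cls_eq_zero]
    exact h.sq_mem x
  two_E e := by
    exact congrArg Additive.ofMul (Subtype.ext ((h.mem_iff (e.toMul : S)).1 e.toMul.2) :
      e.toMul * e.toMul = 1)
  add v w := by rw [h.c_apply]; abel
  zero_iff w := by
    obtain ⟨x, rfl⟩ := cls_surjective w
    rw [h.q_cls, h.cls_eq_zero, h.mem_iff]
    exact ⟨fun hh => congrArg Subtype.val (congrArg Additive.toMul hh),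
      fun hh => congrArg Additive.ofMul (Subtype.ext hh)⟩

/-- The action of an automorphism on `S / S'`. -/
def wmap (a : MulAut S) : SW S →+ SW S :=
  MonoidHom.toAdditive (Abelianization.map a.toMonoidHom)

theorem wmap_cls (a : MulAut S) (x : S) : wmap a (cls x) = cls (a x) := rfl

theorem wmap_mul (a b : MulAut S) (w : SW S) : wmap (a * b) w = wmap a (wmap b w) := by
  obtain ⟨x, rfl⟩ := cls_surjective w
  rfl

theorem wmap_one (w : SW S) : wmap (1 : MulAut S) w = w := by
  obtain ⟨x, rfl⟩ := cls_surjective w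
  rfl

theorem wmap_pow (a : MulAut S) (r : ℕ) (w : SW S) :
    wmap (a ^ r) w = (⇑(wmap a))^[r] w := by
  induction r generalizing w with
  | zero => exact wmap_one w
  | succ r ih => rw [pow_succ, wmap_mul, ih, Function.iterate_succ_apply]

theorem center_map (h : Special S) (a : MulAut S) {x : S} (hx : x ∈ Subgroup.center S) :
    a x ∈ Subgroup.center S := by
  rw [h.mem_iff] at hx ⊢
  rw [← map_mul, hx, map_one]

/-- The action of an automorphism on `Z(S)`. -/
def emap (h : Special S) (a : MulAut S) : SE S →+ SE S :=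
  MonoidHom.toAdditive
    { toFun := fun z => (⟨a z, h.center_map a z.2⟩ : Subgroup.center S)
      map_one' := Subtype.ext (map_one a)
      map_mul' := fun z z' => Subtype.ext (map_mul a _ _) }

theorem q_wmap (h : Special S) (a : MulAut S) (w : SW S) :
    h.q (wmap a w) = h.emap a (h.q w) := by
  obtain ⟨x, rfl⟩ := cls_surjective w
  exact congrArg Additive.ofMul (Subtype.ext (map_mul a x x).symm)

theorem c_wmap (h : Special S) (a : MulAut S) (v w : SW S) :
    h.c (wmap a v) (wmap a w) = h.emap a (h.c v w) := by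
  rw [h.c_apply, h.c_apply, ← map_add (wmap a), h.q_wmap, h.q_wmap, h.q_wmap, map_sub, map_sub]

/-- Transitivity on `Z(S)` makes the fibres of squaring equal. -/
theorem fibres (h : Special S) [Finite S]
    (htr : ∀ x y : S, x ≠ 1 → x * x = 1 → y ≠ 1 → y * y = 1 → ∃ a : MulAut S, a x = y) :
    ∃ F, 1 ≤ F ∧ ∀ e : SE S, e ≠ 0 → Nat.card {w : SW S // h.q w = e} = F := by
  obtain ⟨x, hx⟩ := h.nonabelian
  set e0 := h.q (cls x)
  have he0 : e0 ≠ 0 := fun hh => hx (h.cls_eq_zero.1 ((h.quad.zero_iff _).1 hh))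
  haveI : Nonempty {w : SW S // h.q w = e0} := ⟨⟨_, rfl⟩⟩
  refine ⟨_, Nat.card_pos (α := {w : SW S // h.q w = e0}), fun e he => ?_⟩
  have key : ∀ e e' : SE S, e ≠ 0 → e' ≠ 0 → ∃ a : MulAut S, h.emap a e = e' := by
    intro e e' he he'
    obtain ⟨a, ha⟩ := htr (e.toMul : S) (e'.toMul : S)
      (fun hh => he (congrArg Additive.ofMul (Subtype.ext hh : e.toMul = 1)))
      ((h.mem_iff _).1 e.toMul.2)
      (fun hh => he' (congrArg Additive.ofMul (Subtype.ext hh : e'.toMul = 1)))
      ((h.mem_iff _).1 e'.toMul.2)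
    exact ⟨a, congrArg Additive.ofMul (Subtype.ext ha :
      (⟨a (e.toMul : S), h.center_map a e.toMul.2⟩ : Subgroup.center S) = e'.toMul)⟩
  obtain ⟨a, ha⟩ := key e0 e he0 he
  have hinv : ∀ (b : MulAut S) (w : SW S), wmap b⁻¹ (wmap b w) = w := fun b w => by
    rw [← wmap_mul, inv_mul_cancel, wmap_one]
  refine (Nat.card_congr (α := {w : SW S // h.q w = e0}) (β := {w : SW S // h.q w = e})
    { toFun := fun w => ⟨wmap a w.1, by rw [h.q_wmap, w.2, ha]⟩
      invFun := fun w => ⟨wmap a⁻¹ w.1, ?_⟩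
      left_inv := fun w => Subtype.ext (hinv a w.1)
      right_inv := fun w => Subtype.ext ?_ }).symm
  · rw [h.q_wmap, w.2, ← ha]
    obtain ⟨z, hz⟩ := Additive.toMul e0
    have h1 : ∀ z : SE S, h.emap a⁻¹ (h.emap a z) = z := fun z =>
      congrArg Additive.ofMul (Subtype.ext (MulAut.inv_apply_self S a _) :
        (⟨a⁻¹ (a (z.toMul : S)), _⟩ : Subgroup.center S) = z.toMul)
    exact h1 e0
  · show wmap a (wmap a⁻¹ w.1) = w.1
    rw [← wmap_mul, mul_inv_cancel, wmap_one]

end Special

end Cfsg.Agent.H45.Pyramidal
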