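import Cfsg.Agent.H35.SigFunTwo
import Cfsg.Agent.H45.Pyramidal.Abelian
import Cfsg.Agent.H45.Pyramidal.Special

/-!
A group with central involutions and special Sylow `2`-subgroups with equal squaring fibres is
solvable.
-/

set_option autoImplicit false

namespace Cfsg.Agent.H45.Pyramidal

open Cfsg Subgroup
open scoped IsMulCommutative

universe u

/-- A subgroup containing the normaliser of an elementary abelian Sylow `2`-subgroup and the
centralisers of its involutions is everything, unless the normaliser fuses all of them. -/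
theorem eq_top_of_strongly_embedded {G : Type*} [Group G] [Finite G] (W : Sylow 2 G)
    [IsMulCommutative (W : Subgroup G)] (hW : ∀ w ∈ (W : Subgroup G), w * w = 1)
    (hfus : ∃ w ∈ (W : Subgroup G), ∃ w' ∈ (W : Subgroup G), w ≠ 1 ∧ w' ≠ 1 ∧
      ∀ g ∈ Subgroup.normalizer ((W : Subgroup G) : Set G), g * w * g⁻¹ ≠ w')
    (K : Subgroup G) (hN : Subgroup.normalizer ((W : Subgroup G) : Set G) ≤ K)
    (hC : ∀ s ∈ (W : Subgroup G), s ≠ 1 → Subgroup.centralizer ({s} : Set G) ≤ K) : K = ⊤ := by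
  haveI : Fact (Nat.Prime 2) := ⟨Nat.prime_two⟩
  have hWK : (W : Subgroup G) ≤ K := Subgroup.le_normalizer.trans hN
  -- centralisers of involutions of `K`
  have hCK : ∀ t ∈ K, t ≠ 1 → t * t = 1 → ∀ x, x * t = t * x → x ∈ K := by
    intro t ht ht1 ht2 x hx
    have hp : IsPGroup 2 (Subgroup.zpowers (⟨t, ht⟩ : K)) := by
      refine IsPGroup.of_card (n := 1) ?_
      rw [Nat.card_zpowers, pow_one]
      exact orderOf_eq_prime (Subtype.ext (by rw [Subgroup.coe_pow, sq]; exact ht2))
        fun hh => ht1 (congrArg Subtype.val hh)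
    obtain ⟨Q, hQ⟩ := hp.exists_le_sylow
    obtain ⟨k, hk⟩ := MulAction.exists_smul_eq K (W.subtype hWK) Q
    have h1 : (⟨t, ht⟩ : K) ∈ (Q : Subgroup K) := hQ (Subgroup.mem_zpowers _)
    rw [← hk, Sylow.coe_subgroup_smul] at h1
    obtain ⟨s, hs, hst⟩ := h1
    have hsW : (s : G) ∈ (W : Subgroup G) := hs
    have hst' : (k : G) * s * (k : G)⁻¹ = t := congrArg Subtype.val hst
    have hs1 : (s : G) ≠ 1 := fun hh => ht1 (by rw [← hst', hh, mul_one, mul_inv_cancel])
    have h2 : (k : G)⁻¹ * x * k ∈ K := hC _ hsW hs1 (Subgroup.mem_centralizer_singleton_iff.2 (by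
      have h3 : (k : G)⁻¹ * (x * t) * k = (k : G)⁻¹ * (t * x) * k := by rw [hx]
      rw [← hst'] at h3
      calc (k : G)⁻¹ * x * k * s = (k : G)⁻¹ * (x * ((k : G) * s * (k : G)⁻¹)) * k := by group
        _ = (k : G)⁻¹ * (((k : G) * s * (k : G)⁻¹) * x) * k := h3
        _ = s * ((k : G)⁻¹ * x * k) := by group))
    have := mul_mem (mul_mem k.2 h2) (inv_mem k.2)
    simpa [mul_assoc] using this
  -- all involutions lie in `K`
  have hall : ∀ u : G, u * u = 1 → u ∈ K := by
    intro u hu
    by_contra huK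
    have hu1 : u ≠ 1 := fun hh => huK (hh ▸ K.one_mem)
    have hconj : ∀ w ∈ (W : Subgroup G), w ≠ 1 → ∃ g, g * w * g⁻¹ = u := by
      intro w hw hw1
      have hw2 := hW w hw
      set d := u * w with hd
      have hui : u⁻¹ = u := inv_eq_of_mul_eq_one_left hu
      have hwi : w⁻¹ = w := inv_eq_of_mul_eq_one_left hw2
      have hinv : d⁻¹ = w * u := by rw [hd, mul_inv_rev, hui, hwi]
      have hwd : ∀ i : ℕ, w * d ^ i * w⁻¹ = (d ^ i)⁻¹ := fun i => by
        rw [← conj_pow, ← inv_pow]
        congr 1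
        rw [hinv, hd]
        group
      rcases Nat.even_or_odd (orderOf d) with hev | hodd
      · exfalso
        obtain ⟨i, hi⟩ := hev
        set t := d ^ i with ht
        have hti : t * t = 1 := by rw [ht, ← pow_add, ← hi, pow_orderOf_eq_one]
        have ht1 : t ≠ 1 := fun hh => by
          have h0 := orderOf_pos d
          have := Nat.le_of_dvd (by omega) (orderOf_dvd_of_pow_eq_one hh)
          omega
        have hcw : w * t = t * w := by
          have h1 := hwd i
          rw [← ht, inv_eq_of_mul_eq_one_left hti] at h1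
          exact mul_inv_eq_iff_eq_mul.1 h1
        have htK : t ∈ K := hC w hw hw1 (Subgroup.mem_centralizer_singleton_iff.2 hcw.symm)
        refine huK (hCK t htK ht1 hti u ?_)
        have hcd : d * t = t * d := (Commute.self_pow d i).eq
        calc u * t = d * (w⁻¹ * t) := by rw [hd]; group
          _ = d * (t * w⁻¹) := by rw [hwi, hcw]
          _ = t * d * w⁻¹ := by rw [← mul_assoc, hcd]
          _ = t * u := by rw [hd]; group
      · obtain ⟨i, hi⟩ := hodd
        refine ⟨d ^ (i + 1), ?_⟩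
        have hdo : d ^ (2 * i + 1) = 1 := by rw [← hi, pow_orderOf_eq_one]
        have h1 : w * (d ^ (i + 1))⁻¹ = d ^ (i + 1) * w := by
          rw [← hwd]
          calc w * (w * d ^ (i + 1) * w⁻¹) = (w * w) * d ^ (i + 1) * w⁻¹ := by group
            _ = d ^ (i + 1) * w := by rw [hw2, one_mul, hwi]
        rw [mul_assoc, h1, ← mul_assoc, ← pow_add, show i + 1 + (i + 1) = (2 * i + 1) + 1 by ring,
          pow_succ, hdo, one_mul, hd, mul_assoc, hw2, mul_one]
    obtain ⟨w, hw, w', hw', hw1, hw'1, hne⟩ := hfus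
    obtain ⟨g, hg⟩ := hconj w hw hw1
    obtain ⟨g', hg'⟩ := hconj w' hw' hw'1
    have heq : (g⁻¹ * g')⁻¹ * w * (g⁻¹ * g') = w' := by
      calc (g⁻¹ * g')⁻¹ * w * (g⁻¹ * g') = g'⁻¹ * (g * w * g⁻¹) * g' := by group
        _ = g'⁻¹ * (g' * w' * g'⁻¹) * g' := by rw [hg, hg']
        _ = w' := by group
    obtain ⟨n, hn, hn'⟩ := Sylow.conj_eq_normalizer_conj_of_mem W w (g⁻¹ * g') hw (by rw [heq]; exact hw')
    refine hne n⁻¹ (inv_mem hn) ?_
    rw [inv_inv, ← hn', heq]
  -- conclude
  refine eq_top_iff.2 fun g _ => ?_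
  have hconjW : ((g • W : Sylow 2 G) : Subgroup G) ≤ K := by
    intro x hx
    rw [Sylow.coe_subgroup_smul] at hx
    obtain ⟨w, hw, rfl⟩ := hx
    refine hall _ ?_
    show g * w * g⁻¹ * (g * w * g⁻¹) = 1
    rw [show g * w * g⁻¹ * (g * w * g⁻¹) = g * (w * w) * g⁻¹ by group, hW w hw, mul_one,
      mul_inv_cancel]
  obtain ⟨k, hk⟩ := MulAction.exists_smul_eq K ((g • W).subtype hconjW) (W.subtype hWK)
  rw [Sylow.smul_subtype] at hk
  have h1 : ((k : G) * g) • W = W := by
    rw [mul_smul]
    exact Sylow.subtype_injective hk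
  have h2 : (k : G) * g ∈ K := hN (Sylow.smul_eq_iff_mem_normalizer.1 h1)
  exact (K.mul_mem_cancel_left k.2).1 h2

/-- A group with elementary abelian Sylow `2`-subgroup whose involution centralisers have normal
`2`-complements and whose normaliser does not fuse all involutions is solvable. -/
theorem isSolvable_of_elementary_sylow {G : Type u} [Group G] [Finite G] (W : Sylow 2 G)
    [IsMulCommutative (W : Subgroup G)] (hW : ∀ w ∈ (W : Subgroup G), w * w = 1)
    (h8 : 2 ^ 3 ≤ Nat.card (W : Subgroup G))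
    (hfix : ∀ g ∈ Subgroup.normalizer ((W : Subgroup G) : Set G), Odd (orderOf g) →
      ∀ s ∈ (W : Subgroup G), s ≠ 1 → g * s = s * g → ∀ v ∈ (W : Subgroup G), g * v = v * g)
    (hfus : ∃ w ∈ (W : Subgroup G), ∃ w' ∈ (W : Subgroup G), w ≠ 1 ∧ w' ≠ 1 ∧
      ∀ g ∈ Subgroup.normalizer ((W : Subgroup G) : Set G), g * w * g⁻¹ ≠ w') :
    Group.IsSolvable G := by
  haveI : Fact (Nat.Prime 2) := ⟨Nat.prime_two⟩
  classical
  let θ : G → Subgroup G := fun s =>
    Subgroup.closure {x | Odd (orderOf x) ∧ x * s = s * x}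
  have hθgen : ∀ s x, Odd (orderOf x) → x * s = s * x → x ∈ θ s := fun s x h1 h2 =>
    Subgroup.subset_closure ⟨h1, h2⟩
  have hstruct : ∀ s ∈ (W : Subgroup G), s ≠ 1 →
      Odd (Nat.card (θ s)) ∧ (∀ x ∈ θ s, x * s = s * x) ∧
      ∀ c, c * s = s * c → ∃ a ∈ θ s, ∃ w ∈ (W : Subgroup G), c = a * w := by
    intro s hs hs1
    set C := Subgroup.centralizer ({s} : Set G) with hCdef
    have hWC : (W : Subgroup G) ≤ C := fun w hw => Subgroup.mem_centralizer_singleton_iff.2
      (congrArg Subtype.val (mul_comm (⟨w, hw⟩ : (W : Subgroup G)) ⟨s, hs⟩))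
    let WC : Sylow 2 C := W.subtype hWC
    haveI : IsMulCommutative (WC : Subgroup C) := IsMulCommutative.of_comm fun a b => by
      have h1 := congrArg Subtype.val
        (mul_comm (⟨((a : C) : G), a.2⟩ : (W : Subgroup G)) ⟨((b : C) : G), b.2⟩)
      exact Subtype.ext (Subtype.ext h1)
    have hle : Subgroup.normalizer ((WC : Subgroup C) : Set C) ≤
        Subgroup.centralizer ((WC : Subgroup C) : Set C) := by
      intro g hg
      obtain ⟨a, ha, b, hb, hgab, ha2, hbodd⟩ := exists_two_odd_parts g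
      have haS := mem_sylow_of_normalize WC (Subgroup.zpowers_le.2 hg ha) ha2
      have hbN := Subgroup.zpowers_le.2 hg hb
      have hbN' : (b : G) ∈ Subgroup.normalizer ((W : Subgroup G) : Set G) := by
        rw [Subgroup.mem_normalizer_iff]
        intro x
        constructor
        · intro hx
          exact (Subgroup.mem_normalizer_iff.1 hbN ⟨x, hWC hx⟩).1 hx
        · intro hx
          have hxC : x ∈ C := by
            simpa [mul_assoc] using C.mul_mem (C.mul_mem (C.inv_mem b.2) (hWC hx)) b.2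
          exact (Subgroup.mem_normalizer_iff.1 hbN ⟨x, hxC⟩).2 hx
      rw [hgab]
      refine mul_mem (Subgroup.le_centralizer (WC : Subgroup C) haS)
        (Subgroup.mem_centralizer_iff.2 fun v hv => ?_)
      exact Subtype.ext (hfix _ hbN' (by rwa [Subgroup.orderOf_coe]) s hs hs1
        (Subgroup.mem_centralizer_singleton_iff.1 b.2) (v : G) hv).symm
    set f := MonoidHom.transferSylow WC hle
    have hcomp := MonoidHom.ker_transferSylow_isComplement' WC hle
    have hodd : Odd (Nat.card f.ker) := by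
      rw [← hcomp.index_eq_card, ← Nat.not_even_iff_odd, even_iff_two_dvd]
      exact WC.not_dvd_index
    have hθle : θ s ≤ f.ker.map C.subtype := by
      refine (Subgroup.closure_le _).2 ?_
      rintro x ⟨hx1, hx2⟩
      have hxC : x ∈ C := Subgroup.mem_centralizer_singleton_iff.2 hx2
      refine ⟨⟨x, hxC⟩, ?_, rfl⟩
      show f ⟨x, hxC⟩ = 1
      obtain ⟨r, hr⟩ := IsPGroup.iff_card.1 WC.isPGroup'
      refine orderOf_eq_one_iff.1 (Nat.eq_one_of_dvd_coprimes (Nat.Coprime.pow_left r
        ((Nat.coprime_two_left).2 hx1)) (hr ▸ orderOf_dvd_natCard _) ?_)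
      rw [← Subgroup.orderOf_mk x hxC]
      exact orderOf_map_dvd f _
    refine ⟨?_, fun x hx => ?_, fun c hc => ?_⟩
    · refine hodd.of_dvd_nat ?_
      rw [← Subgroup.card_map_of_injective (f := C.subtype) C.subtype_injective]
      exact Subgroup.card_dvd_of_le hθle
    · obtain ⟨y, -, rfl⟩ := hθle hx
      exact Subgroup.mem_centralizer_singleton_iff.1 y.2
    · obtain ⟨⟨a, w⟩, haw⟩ := hcomp.2 ⟨c, Subgroup.mem_centralizer_singleton_iff.2 hc⟩
      refine ⟨((a : C) : G), hθgen _ _ ?_ (Subgroup.mem_centralizer_singleton_iff.1 (a : C).2),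
        ((w : C) : G), w.2, (congrArg Subtype.val haw).symm⟩
      rw [Subgroup.orderOf_coe]
      exact hodd.of_dvd_nat (Subgroup.orderOf_dvd_natCard _ a.2)
  have hA : IsElementaryAbelian 2 (W : Subgroup G) :=
    ⟨inferInstance, fun a ha => by rw [sq, hW a ha]⟩
  have hθconj : ∀ (g s x : G), x ∈ θ s → g * x * g⁻¹ ∈ θ (g * s * g⁻¹) := by
    intro g s x hx
    induction hx using Subgroup.closure_induction with
    | mem y hy =>
      refine hθgen _ _ ?_ ?_
      · rw [show g * y * g⁻¹ = MulAut.conj g y from rfl, MulEquiv.orderOf_eq]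
        exact hy.1
      · calc g * y * g⁻¹ * (g * s * g⁻¹) = g * (y * s) * g⁻¹ := by group
          _ = g * (s * y) * g⁻¹ := by rw [hy.2]
          _ = _ := by group
    | one => simp
    | mul a b _ _ ha hb => simpa [mul_assoc] using mul_mem ha hb
    | inv a _ ha => simpa [mul_assoc] using inv_mem ha
  have hfun : IsSolvableSignalizerFunctor 2 (W : Subgroup G) θ := by
    refine ⟨⟨fun a ha ha1 x hx =>
      Subgroup.mem_centralizer_singleton_iff.2 ((hstruct a ha ha1).2.1 x hx),
      fun a ha ha1 => ?_, fun a ha ha1 b hb x hx => ?_, fun a ha ha1 b hb hb1 x hx => ?_⟩,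
      fun a ha ha1 => Cfsg.Agent.S0205.result (hstruct a ha ha1).1⟩
    · rw [← even_iff_two_dvd, Nat.not_even_iff_odd]
      exact (hstruct a ha ha1).1
    · have h1 := hθconj b a x hx
      have hba : b * a = a * b :=
        congrArg Subtype.val (mul_comm (⟨b, hb⟩ : (W : Subgroup G)) ⟨a, ha⟩)
      rwa [hba, mul_inv_cancel_right] at h1
    · refine hθgen _ _ ?_ (Subgroup.mem_centralizer_singleton_iff.1 hx.2)
      exact (hstruct a ha ha1).1.of_dvd_nat (Subgroup.orderOf_dvd_natCard _ hx.1)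
  obtain ⟨hMfam, -, -⟩ := H35.SigFun.solvable_signalizer_functor_two hA h8 hfun
  set M := signalizerClosure (W : Subgroup G) θ with hM
  have hθM : ∀ s ∈ (W : Subgroup G), s ≠ 1 → θ s ≤ M := fun s hs hs1 =>
    le_iSup (fun a : {a : G // a ∈ (W : Subgroup G) ∧ a ≠ 1} => θ a.1) ⟨s, hs, hs1⟩
  have hNM : ∀ g ∈ Subgroup.normalizer ((W : Subgroup G) : Set G), ∀ x ∈ M, g * x * g⁻¹ ∈ M := by
    intro g hg x hx
    refine Subgroup.iSup_induction _ (C := fun x => g * x * g⁻¹ ∈ M) hx ?_ (by simp) ?_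
    · intro a y hy
      have ha' : g * a.1 * g⁻¹ ∈ (W : Subgroup G) := (Subgroup.mem_normalizer_iff.1 hg _).1 a.2.1
      refine hθM _ ha' (fun hh => a.2.2 (conj_eq_one_iff.1 hh)) (hθconj g _ y hy)
    · intro a b ha hb
      simpa [mul_assoc] using mul_mem ha hb
  have hNle : Subgroup.normalizer ((W : Subgroup G) : Set G) ≤
      Subgroup.normalizer (M : Set G) := by
    intro g hg
    rw [Subgroup.mem_normalizer_iff]
    refine fun x => ⟨hNM g hg x, fun hx => ?_⟩
    have := hNM g⁻¹ (inv_mem hg) _ hx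
    simpa [mul_assoc] using this
  have hCle : ∀ K : Subgroup G, M ≤ K → Subgroup.normalizer ((W : Subgroup G) : Set G) ≤ K →
      ∀ s ∈ (W : Subgroup G), s ≠ 1 → Subgroup.centralizer ({s} : Set G) ≤ K := by
    intro K hMK hNK s hs hs1 c hc
    obtain ⟨a, ha, w, hw, rfl⟩ :=
      (hstruct s hs hs1).2.2 c (Subgroup.mem_centralizer_singleton_iff.1 hc)
    exact mul_mem (hMK (hθM s hs hs1 ha)) (hNK (Subgroup.le_normalizer hw))
  haveI hMn : M.Normal := Subgroup.normalizer_eq_top_iff.1
    (eq_top_of_strongly_embedded W hW hfus _ hNle (hCle _ Subgroup.le_normalizer hNle))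
  have htop : M ⊔ Subgroup.normalizer ((W : Subgroup G) : Set G) = ⊤ :=
    eq_top_of_strongly_embedded W hW hfus _ le_sup_right (hCle _ le_sup_left le_sup_right)
  set N := Subgroup.normalizer ((W : Subgroup G) : Set G) with hNdef
  haveI hWn : ((W : Subgroup G).subgroupOf N).Normal := Subgroup.normal_in_normalizer
  have hodd : Odd (Nat.card (N ⧸ (W : Subgroup G).subgroupOf N)) := by
    rw [← Nat.not_even_iff_odd, even_iff_two_dvd]
    exact (W.subtype Subgroup.le_normalizer).not_dvd_index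
  haveI := Cfsg.Agent.S0205.result hodd
  haveI : Group.IsSolvable ((W : Subgroup G).subgroupOf N) := inferInstance
  haveI : Group.IsSolvable N := Group.isSolvable_of_ker_le_range
    ((W : Subgroup G).subgroupOf N).subtype (QuotientGroup.mk' ((W : Subgroup G).subgroupOf N))
    (by rw [QuotientGroup.ker_mk', Subgroup.range_subtype])
  haveI : Group.IsSolvable M := hMfam.1
  haveI : Group.IsSolvable (G ⧸ M) := by
    refine Group.isSolvable_of_surjective (f := (QuotientGroup.mk' M).comp N.subtype) fun y => ?_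
    obtain ⟨x, rfl⟩ := QuotientGroup.mk_surjective y
    have hx : x ∈ ((M ⊔ N : Subgroup G) : Set G) := by rw [htop]; trivial
    rw [Subgroup.normal_mul] at hx
    obtain ⟨m, hm, n, hn, hmn⟩ := hx
    replace hmn : m * n = x := hmn
    refine ⟨⟨n, hn⟩, ?_⟩
    show (QuotientGroup.mk n : G ⧸ M) = QuotientGroup.mk x
    rw [← hmn, QuotientGroup.mk_mul, (QuotientGroup.eq_one_iff m).2 hm, one_mul]
  exact Group.isSolvable_of_ker_le_range M.subtype (QuotientGroup.mk' M)
    (by rw [QuotientGroup.ker_mk', Subgroup.range_subtype])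

end Cfsg.Agent.H45.Pyramidal
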