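import Cfsg.Agent.S0268
import Mathlib

/-!
The affine groups `F² ⋊ SL₂(F)`.
-/

set_option autoImplicit false
set_option linter.style.haveILetI false

namespace Cfsg.Agent.H45.Pyramidal

open Matrix
open scoped MatrixGroups

variable {F : Type} [Field F]

/-- Upper transvection. -/
def upT (x : F) : SL(2, F) := ⟨!![1, x; 0, 1], by simp [Matrix.det_fin_two]⟩

/-- Lower transvection. -/
def loT (x : F) : SL(2, F) := ⟨!![1, 0; x, 1], by simp [Matrix.det_fin_two]⟩

/-- Diagonal element. -/
def diT (a : F) (ha : a ≠ 0) : SL(2, F) := ⟨!![a, 0; 0, a⁻¹], by simp [Matrix.det_fin_two, ha]⟩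

@[simp] theorem upT_coe (x : F) : (upT x : Matrix (Fin 2) (Fin 2) F) = !![1, x; 0, 1] := rfl

@[simp] theorem loT_coe (x : F) : (loT x : Matrix (Fin 2) (Fin 2) F) = !![1, 0; x, 1] := rfl

@[simp] theorem diT_coe (a : F) (ha : a ≠ 0) :
    (diT a ha : Matrix (Fin 2) (Fin 2) F) = !![a, 0; 0, a⁻¹] := rfl

theorem diT_eq (a : F) (ha : a ≠ 0) :
    diT a ha = upT a * loT (-a⁻¹) * upT a * (upT (-1) * loT 1 * upT (-1)) := by
  apply Subtype.ext
  ext i j
  fin_cases i <;> fin_cases j <;>
    simp [Matrix.SpecialLinearGroup.coe_mul, Matrix.mul_apply, Fin.sum_univ_two, ha]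

theorem sl_two_not_solvable (a : F) (ha : a ≠ 0) (ha1 : a * a ≠ 1) :
    ¬ Group.IsSolvable SL(2, F) := by
  intro h
  obtain ⟨n, hn⟩ := h.solvable
  have key : ∀ m, (∀ x : F, upT x ∈ derivedSeries SL(2, F) m) ∧
      ∀ x : F, loT x ∈ derivedSeries SL(2, F) m := by
    intro m
    induction m with
    | zero => simp
    | succ m ih =>
      have hd : diT a ha ∈ derivedSeries SL(2, F) m := by
        rw [diT_eq]
        exact mul_mem (mul_mem (mul_mem (ih.1 _) (ih.2 _)) (ih.1 _))
          (mul_mem (mul_mem (ih.1 _) (ih.2 _)) (ih.1 _))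
      have h2 : a * a - 1 ≠ 0 := sub_ne_zero.2 ha1
      rw [derivedSeries_succ]
      open scoped commutatorElement in
      refine ⟨fun x => ?_, fun x => ?_⟩
      · obtain ⟨u, rfl⟩ : ∃ u, x = u * (a * a - 1) :=
          ⟨x / (a * a - 1), (div_mul_cancel₀ x h2).symm⟩
        have h3 : upT (u * (a * a - 1)) = ⁅diT a ha, upT u⁆ := by
          rw [commutatorElement_def, eq_mul_inv_iff_mul_eq, eq_mul_inv_iff_mul_eq]
          apply Subtype.ext
          ext i j
          fin_cases i <;> fin_cases j <;>
            simp [Matrix.SpecialLinearGroup.coe_mul, Matrix.mul_apply, Fin.sum_univ_two]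
          field_simp
          ring
        rw [h3]
        exact Subgroup.commutator_mem_commutator hd (ih.1 _)
      · have h4 : a⁻¹ * a⁻¹ - 1 ≠ 0 := sub_ne_zero.2 fun hh => ha1 (by
          rw [← mul_inv, inv_eq_one] at hh
          exact hh)
        obtain ⟨u, rfl⟩ : ∃ u, x = u * (a⁻¹ * a⁻¹ - 1) :=
          ⟨x / (a⁻¹ * a⁻¹ - 1), (div_mul_cancel₀ x h4).symm⟩
        have h3 : loT (u * (a⁻¹ * a⁻¹ - 1)) = ⁅diT a ha, loT u⁆ := by
          rw [commutatorElement_def, eq_mul_inv_iff_mul_eq, eq_mul_inv_iff_mul_eq]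
          apply Subtype.ext
          ext i j
          fin_cases i <;> fin_cases j <;>
            simp [Matrix.SpecialLinearGroup.coe_mul, Matrix.mul_apply, Fin.sum_univ_two]
          field_simp
          ring
        rw [h3]
        exact Subgroup.commutator_mem_commutator hd (ih.2 _)
  have h5 := (key n).1 1
  rw [hn, Subgroup.mem_bot] at h5
  have h6 := congrArg (fun g : SL(2, F) => (g : Matrix (Fin 2) (Fin 2) F) 0 1) h5
  simp at h6

/-- The natural action of `SL₂(F)` on `F²`. -/
def natAct : SL(2, F) →* MulAut (Multiplicative (Fin 2 → F)) where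
  toFun g := AddEquiv.toMultiplicative (Matrix.SpecialLinearGroup.toLin' g).toAddEquiv
  map_one' := MulEquiv.ext fun v => by
    simp [Matrix.SpecialLinearGroup.toLin'_apply]
  map_mul' g h := MulEquiv.ext fun v => by
    simp [Matrix.SpecialLinearGroup.toLin'_apply, Matrix.SpecialLinearGroup.coe_mul,
      Matrix.toLin'_apply, Matrix.mulVec_mulVec]

theorem natAct_apply (g : SL(2, F)) (v : Multiplicative (Fin 2 → F)) :
    natAct g v = Multiplicative.ofAdd ((g : Matrix (Fin 2) (Fin 2) F) *ᵥ v.toAdd) := rfl

/-- The affine special linear group of the plane. -/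
abbrev ASL2 (F : Type) [Field F] : Type :=
  Multiplicative (Fin 2 → F) ⋊[natAct (F := F)] SL(2, F)

/-- The counterexample: `q²` conjugate involutions in a non-solvable group. -/
theorem affine_example [Finite F] (hq : Odd (Nat.card F)) (h5 : 5 ≤ Nat.card F) :
    Nat.card {x : ASL2 F // orderOf x = 2} = Nat.card F ^ 2 ∧
    (∀ x y : ASL2 F, orderOf x = 2 → orderOf y = 2 → ∃ g : ASL2 F, g * x * g⁻¹ = y) ∧
    ¬ Group.IsSolvable (ASL2 F) := by
  classical
  haveI : Fintype F := Fintype.ofFinite F
  have hodd : Odd (Fintype.card F) := by rwa [← Nat.card_eq_fintype_card]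
  have h2 : (2 : F) ≠ 0 := fun h => by
    have h1 : addOrderOf (1 : F) ∣ 2 := addOrderOf_dvd_of_nsmul_eq_zero (by simpa using h)
    rcases (Nat.dvd_prime Nat.prime_two).1 h1 with h3 | h3
    · exact one_ne_zero (AddMonoid.addOrderOf_eq_one_iff.1 h3)
    · have h4 := addOrderOf_dvd_natCard (1 : F)
      rw [h3] at h4
      obtain ⟨i, hi⟩ := hq.of_dvd_nat h4
      omega
  let neg : SL(2, F) := ⟨-1, by simp [Matrix.det_neg]⟩
  have hneg1 : neg ≠ 1 := fun h => by
    have h3 := congrArg (fun g : SL(2, F) => (g : Matrix (Fin 2) (Fin 2) F) 0 0) h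
    simp [neg] at h3
    exact h2 (by linear_combination -h3)
  have hnegact : ∀ v : Multiplicative (Fin 2 → F), natAct neg v = v⁻¹ := fun v => by
    refine Multiplicative.toAdd.injective ?_
    show ((-1 : Matrix (Fin 2) (Fin 2) F) *ᵥ v.toAdd) = -v.toAdd
    rw [Matrix.neg_mulVec, Matrix.one_mulVec]
  have hinv : ∀ x : ASL2 F, orderOf x = 2 ↔ x.right = neg := by
    intro x
    constructor
    · intro hx
      have hxx : x * x = 1 := by
        have := pow_orderOf_eq_one x
        rwa [hx, sq] at this
      have hr : x.right * x.right = 1 := congrArg SemidirectProduct.right hxx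
      by_cases h1 : x.right = 1
      · exfalso
        have hl : x.left * natAct x.right x.left = 1 := congrArg SemidirectProduct.left hxx
        rw [h1, map_one, MulAut.one_apply] at hl
        have hl' : x.left = 1 := by
          refine Multiplicative.toAdd.injective (funext fun i => ?_)
          have h3 : x.left.toAdd i + x.left.toAdd i = 0 :=
            congrFun (congrArg Multiplicative.toAdd hl) i
          exact mul_left_cancel₀ h2 (by rw [two_mul, h3]; simp)
        have : x = 1 := SemidirectProduct.ext hl' h1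
        rw [this, orderOf_one] at hx
        norm_num at hx
      · exact Subtype.ext (Cfsg.Agent.S0268.result hodd x.right h1 hr)
    · intro hx
      refine orderOf_eq_prime ?_ fun h => hneg1 (by rw [← hx, h]; rfl)
      rw [sq]
      refine SemidirectProduct.ext ?_ ?_
      · show x.left * natAct x.right x.left = 1
        rw [hx, hnegact, mul_inv_cancel]
      · show x.right * x.right = 1
        rw [hx]
        apply Subtype.ext
        show (-1 : Matrix (Fin 2) (Fin 2) F) * (-1) = 1
        simp
  refine ⟨?_, ?_, ?_⟩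
  · rw [Nat.card_congr (Equiv.subtypeEquivRight hinv)]
    let e : {x : ASL2 F // x.right = neg} ≃ (Fin 2 → F) :=
      { toFun := fun x => x.1.left.toAdd
        invFun := fun v => ⟨⟨Multiplicative.ofAdd v, neg⟩, rfl⟩
        left_inv := fun x => Subtype.ext (SemidirectProduct.ext rfl x.2.symm)
        right_inv := fun v => rfl }
    rw [Nat.card_congr e, Nat.card_fun, Nat.card_fin]
  · intro x y hx hy
    rw [hinv] at hx hy
    let w : Fin 2 → F := fun i => (2 : F)⁻¹ * (y.left.toAdd i - x.left.toAdd i)
    refine ⟨SemidirectProduct.inl (Multiplicative.ofAdd w), SemidirectProduct.ext ?_ ?_⟩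
    · simp only [SemidirectProduct.mul_left, SemidirectProduct.mul_right, SemidirectProduct.inv_left,
        SemidirectProduct.left_inl, SemidirectProduct.right_inl, inv_one, map_one, MulAut.one_apply,
        one_mul, hx, hnegact, inv_inv]
      refine Multiplicative.toAdd.injective (funext fun i => ?_)
      show (2 : F)⁻¹ * (y.left.toAdd i - x.left.toAdd i) + x.left.toAdd i +
        (2 : F)⁻¹ * (y.left.toAdd i - x.left.toAdd i) = y.left.toAdd i
      field_simp
      ring
    · simp [hx, hy]
  · intro h
    obtain ⟨a, ha, ha1⟩ : ∃ a : F, a ≠ 0 ∧ a * a ≠ 1 := by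
      have h1 : ({0, 1, -1} : Finset F).card < Fintype.card F := by
        have h3 := Finset.card_le_three (a := (0 : F)) (b := 1) (c := -1)
        rw [← Nat.card_eq_fintype_card]
        omega
      obtain ⟨a, -, ha⟩ := Finset.exists_mem_notMem_of_card_lt_card
        (s := ({0, 1, -1} : Finset F)) (t := Finset.univ) (by simpa using h1)
      simp only [Finset.mem_insert, Finset.mem_singleton, not_or] at ha
      obtain ⟨ha0, ha1, ha2⟩ := ha
      exact ⟨a, ha0, fun hh => (mul_self_eq_one_iff.1 hh).elim ha1 ha2⟩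
    haveI := h
    exact sl_two_not_solvable a ha ha1
      (Group.isSolvable_of_surjective (f := (SemidirectProduct.rightHom : ASL2 F →* SL(2, F)))
        SemidirectProduct.rightHom_surjective)

end Cfsg.Agent.H45.Pyramidal
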