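import Mathlib

/-!
Explicit elements of `GL₃(2)`.
-/

set_option autoImplicit false

namespace Cfsg.Agent.H45.Pyramidal

/-- The natural module of `GL₃(2)`. -/
abbrev V3 : Type := Fin 3 → ZMod 2

/-- The group `GL₃(2)`. -/
abbrev G3 : Type := V3 ≃ₗ[ZMod 2] V3

namespace GL3

/-- Build an element of `GL₃(2)` from a map and its inverse. -/
def mk3 (f f' : V3 → V3) (ha : ∀ v w, f (v + w) = f v + f w)
    (hl : ∀ v, f' (f v) = v) (hr : ∀ v, f (f' v) = v) : G3 :=
  { toFun := f, invFun := f', left_inv := hl, right_inv := hr, map_add' := ha,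
    map_smul' := fun c v => by
      have h0 : f 0 = 0 := by simpa using ha 0 0
      have hc : c = 0 ∨ c = 1 := by revert c; decide
      rcases hc with rfl | rfl <;> simp [h0] }

/-- The first basis vector. -/
def e0 : V3 := ![1, 0, 0]
/-- The second basis vector. -/
def e1 : V3 := ![0, 1, 0]
/-- The third basis vector. -/
def e2 : V3 := ![0, 0, 1]

/-- An element of order seven. -/
def sg : G3 := mk3 (fun v => ![v 2, v 0 + v 2, v 1]) (fun v => ![v 0 + v 1, v 2, v 0])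
  (by decide) (by decide) (by decide)
/-- An element of order three normalising the Singer cycle. -/
def zg : G3 := mk3 (fun v => ![v 0, v 2, v 1 + v 2]) (fun v => ![v 0, v 1 + v 2, v 1])
  (by decide) (by decide) (by decide)
/-- An involution inverting `zg`. -/
def bg : G3 := mk3 (fun v => ![v 0, v 2, v 1]) (fun v => ![v 0, v 2, v 1])
  (by decide) (by decide) (by decide)
/-- A square root of `bg`. -/
def gg : G3 := mk3 (fun v => ![v 0 + v 1 + v 2, v 0 + v 1, v 0 + v 2])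
  (fun v => ![v 0 + v 1 + v 2, v 0 + v 2, v 0 + v 1])
  (by decide) (by decide) (by decide)
/-- An elation with centre `e0`. -/
def a1 : G3 := mk3 (fun v => ![v 0 + v 1, v 1, v 2]) (fun v => ![v 0 + v 1, v 1, v 2])
  (by decide) (by decide) (by decide)
/-- An elation with centre `e0`. -/
def a2 : G3 := mk3 (fun v => ![v 0 + v 2, v 1, v 2]) (fun v => ![v 0 + v 2, v 1, v 2])
  (by decide) (by decide) (by decide)

theorem ext3 {f g : G3} (h0 : f e0 = g e0) (h1 : f e1 = g e1) (h2 : f e2 = g e2) : f = g := by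
  apply LinearEquiv.toLinearMap_injective
  apply LinearMap.pi_ext'
  intro i
  apply LinearMap.ext_ring
  have h : ∀ i : Fin 3, (Pi.single i 1 : V3) = e0 ∨ (Pi.single i 1 : V3) = e1 ∨
      (Pi.single i 1 : V3) = e2 := by decide
  rcases h i with h | h | h <;> simp [h, h0, h1, h2]

theorem gg_sq : gg * gg = bg := by
  apply ext3 <;> decide

theorem bg_bg : bg * bg = 1 := by
  apply ext3 <;> decide

theorem bg_zg : bg * zg * bg = zg * zg := by
  apply ext3 <;> decide

theorem zg_cube : zg * zg * zg = 1 := by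
  apply ext3 <;> decide

theorem gg_comm : gg * (a2 * zg * sg) = sg * (a2 * zg) := by
  apply ext3 <;> decide

theorem gg_eq_commutator : gg = sg * (a2 * zg) * sg⁻¹ * (a2 * zg)⁻¹ := by
  rw [← gg_comm]
  group

theorem hom_gg {C : Type*} [CommMonoid C] (χ : G3 →* C) : χ gg = 1 := by
  rw [gg_eq_commutator, map_mul, map_mul, map_mul]
  have h1 : χ sg * χ sg⁻¹ = 1 := by rw [← map_mul, mul_inv_cancel, map_one]
  have h2 : χ (a2 * zg) * χ (a2 * zg)⁻¹ = 1 := by rw [← map_mul, mul_inv_cancel, map_one]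
  rw [mul_right_comm (χ sg) (χ (a2 * zg)) (χ sg⁻¹), mul_assoc, h1, h2, one_mul]

theorem hom_bg {C : Type*} [CommMonoid C] (χ : G3 →* C) : χ bg = 1 := by
  rw [← gg_sq, map_mul, hom_gg, one_mul]

theorem exists_sg_pow : ∀ v : V3, v ≠ 0 → ∃ i : Fin 7, (sg ^ (i : ℕ)) e0 = v := by
  have h : ∀ v : V3, v ≠ 0 → ∃ i : Fin 7, (⇑sg)^[(i : ℕ)] e0 = v := by decide
  intro v hv
  obtain ⟨i, hi⟩ := h v hv
  exact ⟨i, by rw [LinearEquiv.coe_pow]; exact hi⟩

set_option synthInstance.maxSize 1024 in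
set_option maxRecDepth 8000 in
theorem mem_of_fixes (P : Subgroup G3) (h1 : a1 ∈ P) (h2 : a2 ∈ P) (hz : zg ∈ P) (hb : bg ∈ P)
    {g : G3} (hg : g e0 = e0) : g ∈ P := by
  have key : ∀ u w : V3, u ≠ 0 → u ≠ e0 → w ≠ 0 → w ≠ e0 → w ≠ u → w ≠ e0 + u →
      ∃ i j : Fin 2, ∃ k : Fin 3, ∃ l : Fin 2,
        (⇑a1)^[(i : ℕ)] ((⇑a2)^[(j : ℕ)] ((⇑zg)^[(k : ℕ)] ((⇑bg)^[(l : ℕ)] e1))) = u ∧
        (⇑a1)^[(i : ℕ)] ((⇑a2)^[(j : ℕ)] ((⇑zg)^[(k : ℕ)] ((⇑bg)^[(l : ℕ)] e2))) = w := by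
    decide
  have inj := g.injective
  have c1 : g e1 ≠ 0 := fun h => absurd (inj (h.trans (map_zero g).symm)) (by decide)
  have c2 : g e1 ≠ e0 := fun h => absurd (inj (h.trans hg.symm)) (by decide)
  have c3 : g e2 ≠ 0 := fun h => absurd (inj (h.trans (map_zero g).symm)) (by decide)
  have c4 : g e2 ≠ e0 := fun h => absurd (inj (h.trans hg.symm)) (by decide)
  have c5 : g e2 ≠ g e1 := fun h => absurd (inj h) (by decide)
  have c6 : g e2 ≠ e0 + g e1 := fun h => by
    rw [← hg, ← map_add] at h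
    exact absurd (inj h) (by decide)
  obtain ⟨i, j, k, l, hu, hw⟩ := key _ _ c1 c2 c3 c4 c5 c6
  have he : g = a1 ^ (i : ℕ) * a2 ^ (j : ℕ) * zg ^ (k : ℕ) * bg ^ (l : ℕ) := by
    refine ext3 ?_ ?_ ?_
    · simp only [LinearEquiv.mul_apply, LinearEquiv.coe_pow, hg]
      have f1 : Function.IsFixedPt (⇑a1) e0 := by unfold Function.IsFixedPt; decide
      have f2 : Function.IsFixedPt (⇑a2) e0 := by unfold Function.IsFixedPt; decide
      have f3 : Function.IsFixedPt (⇑zg) e0 := by unfold Function.IsFixedPt; decide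
      have f4 : Function.IsFixedPt (⇑bg) e0 := by unfold Function.IsFixedPt; decide
      rw [f4.iterate, f3.iterate, f2.iterate, f1.iterate]
    · simp only [LinearEquiv.mul_apply, LinearEquiv.coe_pow, hu]
    · simp only [LinearEquiv.mul_apply, LinearEquiv.coe_pow, hw]
  rw [he]
  exact mul_mem (mul_mem (mul_mem (pow_mem h1 _) (pow_mem h2 _)) (pow_mem hz _)) (pow_mem hb _)

/-- `GL₃(2)` is transitive on ordered pairs of distinct non-zero vectors. -/
theorem exists_map_pair {u v : V3} (hu : u ≠ 0) (hv : v ≠ 0) (huv : u ≠ v) :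
    ∃ h : G3, h e0 = u ∧ h e1 = v := by
  obtain ⟨i, hi⟩ := exists_sg_pow u hu
  set s := sg ^ (i : ℕ)
  have key : ∀ w : V3, w ≠ 0 → w ≠ e0 →
      ∃ i j : Fin 2, ∃ k : Fin 3,
        (⇑a1)^[(i : ℕ)] ((⇑a2)^[(j : ℕ)] ((⇑zg)^[(k : ℕ)] e1)) = w := by decide
  have hw1 : s.symm v ≠ 0 := fun h => hv (by
    rw [← s.apply_symm_apply v, h, map_zero])
  have hw2 : s.symm v ≠ e0 := fun h => huv (by
    rw [← hi, ← s.apply_symm_apply v, h])
  obtain ⟨a, b, c, hc⟩ := key _ hw1 hw2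
  refine ⟨s * (a1 ^ (a : ℕ) * a2 ^ (b : ℕ) * zg ^ (c : ℕ)), ?_, ?_⟩
  · simp only [LinearEquiv.mul_apply, LinearEquiv.coe_pow]
    have f1 : Function.IsFixedPt (⇑a1) e0 := by unfold Function.IsFixedPt; decide
    have f2 : Function.IsFixedPt (⇑a2) e0 := by unfold Function.IsFixedPt; decide
    have f3 : Function.IsFixedPt (⇑zg) e0 := by unfold Function.IsFixedPt; decide
    rw [f3.iterate, f2.iterate, f1.iterate, hi]
  · simp only [LinearEquiv.mul_apply, LinearEquiv.coe_pow, hc]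
    exact s.apply_symm_apply v

end GL3

end Cfsg.Agent.H45.Pyramidal
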