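import Cfsg.Agent.H45.Pyramidal.GLThree
import Cfsg.Agent.H45.Pyramidal.QuadMap

/-!
There is no equivariant anisotropic quadratic map onto the natural module of `GL₃(2)`.
-/

set_option autoImplicit false

namespace Cfsg.Agent.H45.Pyramidal

open GL3

namespace Quad

variable {W : Type*} [AddCommGroup W] {q : W → V3} {c : W →+ W →+ V3}

/-- At most three non-zero elements of a subgroup have their values in a line. -/
theorem small (h : Quad q c) {e : V3} (he : e ≠ 0) {x y z : W} (hxy : x ≠ y) (hzx : z ≠ x)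
    (hzy : z ≠ y) (hzxy : z ≠ x + y) (hx : q x = e) (hy : q y = e) (hz : q z = e)
    (hpair : q (x + y) = e) (hxz : q (x + z) = e) (hxyz : q (x + (y + z)) = e)
    (hyz : q (y + z) = e) : False := by
  have h1 := h.add x y
  have h2 := h.add x z
  have h3 := h.add x (y + z)
  rw [hpair, hx, hy, h.two_E, zero_add] at h1
  rw [hxz, hx, hz, h.two_E, zero_add] at h2
  rw [hxyz, hx, hyz, h.two_E, zero_add, map_add, ← h1, ← h2, h.two_E] at h3
  exact he h3

end Quad

set_option synthInstance.maxSize 1024 in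
theorem line_facts : ∀ u v : V3, u ≠ 0 → v ≠ 0 → u ≠ v →
    (0 : V3) ≠ 0 + v ∧ u + v ≠ 0 + v ∧ (0 : V3) ≠ u + 0 ∧ u + v ≠ u + 0 := by decide

theorem sg_sub_surjective : ∀ t : V3, ∃ t', sg t' + t' = t := by decide

variable {W : Type*} [AddCommGroup W] [Fintype W] {q : W → V3} {c : W →+ W →+ V3}
  (ρ : G3 →* AddMonoid.End W)

theorem rho_mul (g g' : G3) (w : W) : ρ (g * g') w = ρ g (ρ g' w) := by
  rw [map_mul]; rfl

theorem rho_one (w : W) : ρ 1 w = w := by
  rw [map_one]; rfl

theorem rho_inv (g : G3) (w : W) : ρ g⁻¹ (ρ g w) = w := by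
  rw [← rho_mul, inv_mul_cancel, rho_one]

theorem rho_inj (g : G3) : Function.Injective (ρ g) := fun v w hvw => by
  rw [← rho_inv ρ g v, hvw, rho_inv]

section

variable (h : Quad q c) (hρ : ∀ g w, q (ρ g w) = g (q w))
include h hρ

theorem c_equivariant (g : G3) (v w : W) : c (ρ g v) (ρ g w) = g (c v w) := by
  have h1 := h.add (ρ g v) (ρ g w)
  rw [← map_add, hρ, hρ, hρ, h.add, map_add, map_add] at h1
  exact (add_left_cancel h1).symm

theorem sg_fixed_free {w : W} (hw : ρ sg w = w) : w = 0 := by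
  have h1 : sg (q w) = q w := by rw [← hρ, hw]
  have h2 : ∀ u : V3, sg u = u → u = 0 := by decide
  exact (h.zero_iff w).1 (h2 _ h1)

theorem zg_fixed_value {w : W} (hw : ρ zg w = w) (hw0 : w ≠ 0) : q w = e0 := by
  have h1 : zg (q w) = q w := by rw [← hρ, hw]
  have h2 : ∀ u : V3, zg u = u → u = 0 ∨ u = e0 := by decide
  exact (h2 _ h1).resolve_left fun hh => hw0 ((h.zero_iff w).1 hh)

theorem exists_zg_fixed (hW : Nontrivial W) : ∃ w, w ≠ 0 ∧ ρ zg w = w := by
  by_contra hno
  push Not at hno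
  have hz : ∀ w, ρ zg w = w → w = 0 := fun w hw => by_contra fun h0 => hno w h0 hw
  obtain ⟨v, hv⟩ := exists_ne (0 : W)
  let T : W → W := fun w => ∑ i : Fin 7, ρ (sg ^ (i : ℕ)) w
  have hT : ∀ w, T w = 0 := by
    intro w
    refine sg_fixed_free ρ h hρ ?_
    show ρ sg (∑ i : Fin 7, ρ (sg ^ (i : ℕ)) w) = ∑ i : Fin 7, ρ (sg ^ (i : ℕ)) w
    rw [map_sum]
    refine Fintype.sum_equiv (Equiv.addRight 1) _ _ fun i => ?_
    rw [← rho_mul]
    congr 2
    fin_cases i <;> apply ext3 <;> decide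
  have hi : ∀ i : Fin 7, v + ρ (sg ^ (i : ℕ) * zg) v +
      ρ (sg ^ ((3 * i : Fin 7) : ℕ) * (zg * zg)) v = 0 := by
    intro i
    set z' := sg ^ (i : ℕ) * zg with hz'
    have hconj : sg ^ (i : ℕ) * z' = zg * sg ^ (i : ℕ) := by
      fin_cases i <;> apply ext3 <;> decide
    have hsq : z' * z' = sg ^ ((3 * i : Fin 7) : ℕ) * (zg * zg) := by
      fin_cases i <;> apply ext3 <;> decide
    have hcube : z' * (z' * z') = 1 := by
      fin_cases i <;> apply ext3 <;> decide
    rw [← hsq]
    set u := v + ρ z' v + ρ (z' * z') v with hu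
    have h1 : ρ z' u = u := by
      rw [hu, map_add, map_add, ← rho_mul, ← rho_mul, hcube, rho_one]
      abel
    have h2 : ρ zg (ρ (sg ^ (i : ℕ)) u) = ρ (sg ^ (i : ℕ)) u := by
      rw [← rho_mul, ← hconj, rho_mul, h1]
    exact rho_inj ρ _ ((hz _ h2).trans (map_zero _).symm)
  have hs : ∑ i : Fin 7, (v + ρ (sg ^ (i : ℕ) * zg) v +
      ρ (sg ^ ((3 * i : Fin 7) : ℕ) * (zg * zg)) v) = 0 := Finset.sum_eq_zero fun i _ => hi i
  simp only [Finset.sum_add_distrib, rho_mul] at hs
  have hre : ∑ i : Fin 7, ρ (sg ^ ((3 * i : Fin 7) : ℕ)) (ρ zg (ρ zg v)) = T (ρ zg (ρ zg v)) :=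
    Fintype.sum_bijective (fun i : Fin 7 => 3 * i) (by decide) _ _ fun _ => rfl
  rw [hre, hT, show (∑ i : Fin 7, ρ (sg ^ (i : ℕ)) (ρ zg v)) = T (ρ zg v) from rfl, hT, add_zero,
    add_zero, Finset.sum_const, Finset.card_univ, Fintype.card_fin] at hs
  refine hv ?_
  have h7 : (7 : ℕ) • v = v := by
    rw [show 7 = 2 * 3 + 1 from rfl, add_smul, mul_smul, two_nsmul, h.two_W, zero_add, one_smul]
  rw [← h7, hs]

set_option maxHeartbeats 1000000 in
/-- A point of the fibre over `e0` fixed by its stabiliser. -/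
theorem exists_stab_fixed {F : ℕ} (hF1 : 1 ≤ F)
    (hF : ∀ e : V3, e ≠ 0 → Nat.card {w : W // q w = e} = F) :
    ∃ x, q x = e0 ∧ ∀ g : G3, g e0 = e0 → ρ g x = x := by
  classical
  have he0 : e0 ≠ 0 := by decide
  suffices H : ∃ x, q x = e0 ∧ ρ a1 x = x ∧ ρ a2 x = x ∧ ρ zg x = x ∧ ρ bg x = x by
    obtain ⟨x, hx, h1, h2, h3, h4⟩ := H
    refine ⟨x, hx, fun g hg => ?_⟩
    let P : Subgroup G3 :=
      { carrier := {g | ρ g x = x}
        one_mem' := rho_one ρ x
        mul_mem' := fun {a b} ha hb => by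
          show ρ (a * b) x = x
          rw [rho_mul, show ρ b x = x from hb, show ρ a x = x from ha]
        inv_mem' := fun {a} ha => by
          show ρ a⁻¹ x = x
          conv_lhs => rw [← show ρ a x = x from ha, rho_inv] }
    exact mem_of_fixes P h1 h2 h3 h4 hg
  rcases h.dichotomy (E := V3) (by rw [Nat.card_eq_fintype_card]; decide) hF1 hF with
    ⟨hF', -⟩ | ⟨hF', -, -⟩
  · have h1 := (Nat.card_eq_one_iff_unique.1 ((hF e0 he0).trans hF'))
    obtain ⟨⟨x, hx⟩⟩ := h1.2
    have key : ∀ g : G3, g e0 = e0 → ρ g x = x := fun g hg =>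
      congrArg Subtype.val (h1.1.elim ⟨ρ g x, by rw [hρ, hx, hg]⟩ ⟨x, hx⟩)
    exact ⟨x, hx, key _ (by decide), key _ (by decide), key _ (by decide), key _ (by decide)⟩
  have hF9 : F = 9 := by rw [hF', Nat.card_eq_fintype_card]; decide
  let X := {w : W // q w = e0}
  have hX : Fintype.card X = 9 := by rw [← Nat.card_eq_fintype_card, hF e0 he0, hF9]
  have hW : Nontrivial W := by
    haveI : Nonempty X := Fintype.card_pos_iff.1 (by omega)
    obtain ⟨x, hx⟩ := Classical.arbitrary X
    exact ⟨⟨x, 0, fun hh => he0 (by rw [← hx, hh, h.map_zero])⟩⟩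
  -- fixed points of `zg`
  let Cz := (Finset.univ : Finset X).filter fun x => ρ zg x.1 = x.1
  have hCz1 : Cz.Nonempty := by
    obtain ⟨w, hw0, hw⟩ := exists_zg_fixed ρ h hρ hW
    exact ⟨⟨w, zg_fixed_value ρ h hρ hw hw0⟩, Finset.mem_filter.2 ⟨Finset.mem_univ _, hw⟩⟩
  have hCz3 : 3 ≤ Cz.card := by
    let σ : Equiv.Perm X :=
      { toFun := fun x => ⟨ρ zg x.1, by rw [hρ, x.2]; decide⟩
        invFun := fun x => ⟨ρ (zg * zg) x.1, by rw [hρ, x.2]; decide⟩
        left_inv := fun x => Subtype.ext (by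
          show ρ (zg * zg) (ρ zg x.1) = x.1
          rw [← rho_mul, zg_cube, rho_one])
        right_inv := fun x => Subtype.ext (by
          show ρ zg (ρ (zg * zg) x.1) = x.1
          rw [← rho_mul, ← mul_assoc, zg_cube, rho_one]) }
    have hσ : σ ^ 3 ^ 1 = 1 := by
      ext x
      show ρ zg (ρ zg (ρ zg x.1)) = x.1
      rw [← rho_mul, ← rho_mul, zg_cube, rho_one]
    haveI : Fact (Nat.Prime 3) := ⟨Nat.prime_three⟩
    have h1 := Equiv.Perm.card_compl_support_modEq hσ
    have h2 : σ.supportᶜ = Cz := by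
      ext x
      simp only [Finset.mem_compl, Equiv.Perm.mem_support, ne_eq, not_not, Cz, Finset.mem_filter,
        Finset.mem_univ, true_and]
      exact Subtype.ext_iff
    rw [h2, hX] at h1
    have h3 := Finset.card_pos.2 hCz1
    unfold Nat.ModEq at h1
    omega
  -- one of them is fixed by the elations
  have hV : ∃ x ∈ Cz, ρ a1 x.1 = x.1 ∧ ρ a2 x.1 = x.1 := by
    by_contra hno
    push Not at hno
    let v : Fin 4 → G3 := ![1, a1, a2, a1 * a2]
    have hmul : ∀ i j, ∃ k, (v i)⁻¹ * v j = v k ∧ (k = 0 → i = j) := by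
      intro i j
      refine ⟨![![0, 1, 2, 3], ![1, 0, 3, 2], ![2, 3, 0, 1], ![3, 2, 1, 0]] i j, ?_, ?_⟩
      · rw [inv_mul_eq_iff_eq_mul]
        fin_cases i <;> fin_cases j <;> apply ext3 <;> decide
      · revert i j; decide
    have hcyc : zg * a1 = a1 * a2 * zg ∧ zg * (a1 * a2) = a2 * zg ∧ zg * a2 = a1 * zg := by
      refine ⟨?_, ?_, ?_⟩ <;> apply ext3 <;> decide
    have conjfix : ∀ (a a' : G3) (x : W), zg * a = a' * zg → ρ zg x = x → ρ a x = x →
        ρ a' x = x := by
      intro a a' x haa hzx hax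
      have h1 : ρ (zg * a) x = ρ (a' * zg) x := by rw [haa]
      rw [rho_mul, rho_mul, hax, hzx] at h1
      exact h1.symm
    have hreg : ∀ x ∈ Cz, ∀ k, ρ (v k) x.1 = x.1 → k = 0 := by
      intro x hx k hk
      by_contra hk0
      have hz := (Finset.mem_filter.1 hx).2
      refine hno x hx ?_ ?_ <;> fin_cases k
      · exact absurd rfl hk0
      · exact hk
      · exact conjfix _ _ _ hcyc.2.2 hz hk
      · exact conjfix _ _ _ hcyc.2.2 hz (conjfix _ _ _ hcyc.2.1 hz hk)
      · exact absurd rfl hk0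
      · exact conjfix _ _ _ hcyc.2.1 hz (conjfix _ _ _ hcyc.1 hz hk)
      · exact hk
      · exact conjfix _ _ _ hcyc.2.1 hz hk
    have hinj : Function.Injective fun p : Cz × Fin 4 => ρ (v p.2) p.1.1.1 := by
      rintro ⟨⟨x, hx⟩, i⟩ ⟨⟨y, hy⟩, j⟩ hxy
      simp only at hxy
      obtain ⟨k, hk, hk0⟩ := hmul i j
      have h1 : ρ (v k) y.1 = x.1 := by rw [← hk, rho_mul, ← hxy, rho_inv]
      have hzx := (Finset.mem_filter.1 hx).2
      have hzy := (Finset.mem_filter.1 hy).2
      have hk' : k = 0 := by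
        obtain ⟨k', hk'1, hk'2, hk'3⟩ : ∃ k', zg * v k = v k' * zg ∧
            (∀ l, (v k)⁻¹ * v k' = v l → l = 0 → k = 0) ∧ True := by
          refine ⟨![0, 3, 1, 2] k, ?_, fun l hl hl0 => ?_, trivial⟩
          · fin_cases k <;> apply ext3 <;> decide
          · rw [hl0] at hl
            have h3 : v ((![0, 3, 1, 2] : Fin 4 → Fin 4) k) = v k := by
              rw [inv_mul_eq_iff_eq_mul] at hl
              rw [hl]
              show v k * 1 = v k
              rw [mul_one]
            have h4 := DFunLike.congr_fun h3 e1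
            have h5 := DFunLike.congr_fun h3 e2
            revert h4 h5
            fin_cases k <;> decide
        have h2 : ρ (v k') y.1 = x.1 := by
          have h3 : ρ (zg * v k) y.1 = ρ (v k' * zg) y.1 := by rw [hk'1]
          rw [rho_mul, rho_mul, h1, hzx, hzy] at h3
          exact h3.symm
        obtain ⟨l, hl, -⟩ := hmul k k'
        refine hk'2 l hl (hreg y hy l ?_)
        rw [← hl, rho_mul, h2, ← h1, rho_inv]
      subst hk'
      obtain rfl := hk0 rfl
      have : x = y := Subtype.ext (by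
        rw [← h1]
        show ρ 1 y.1 = y.1
        exact rho_one ρ _)
      subst this
      rfl
    have hle : Fintype.card (Cz × Fin 4) ≤ Fintype.card X := by
      refine Fintype.card_le_of_injective (fun p => ⟨ρ (v p.2) p.1.1.1, ?_⟩) fun p p' hp =>
        hinj (congrArg Subtype.val hp)
      rw [hρ, p.1.1.2]
      have hv0 : ∀ i : Fin 4, (![1, a1, a2, a1 * a2] : Fin 4 → G3) i e0 = e0 := by decide
      exact hv0 p.2
    rw [Fintype.card_prod, Fintype.card_coe, Fintype.card_fin, hX] at hle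
    omega
  obtain ⟨⟨x, hx⟩, hxz, hx1, hx2⟩ := hV
  have hxz : ρ zg x = x := (Finset.mem_filter.1 hxz).2
  by_cases hb : ρ bg x = x
  · exact ⟨x, hx, hx1, hx2, hxz, hb⟩
  have fixb : ∀ a a' : G3, a * bg = bg * a' → ρ a' x = x → ρ a (ρ bg x) = ρ bg x := fun a a' haa ha' => by
    rw [← rho_mul, haa, rho_mul, ha']
  have f1 := fixb a1 a2 (by apply ext3 <;> decide) hx2
  have f2 := fixb a2 a1 (by apply ext3 <;> decide) hx1
  have f3 := fixb zg (zg * zg) (by apply ext3 <;> decide) (by rw [rho_mul, hxz, hxz])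
  have hz : ρ zg (x + ρ bg x) = x + ρ bg x := by rw [map_add, hxz, f3]
  refine ⟨x + ρ bg x, zg_fixed_value ρ h hρ hz ?_, by rw [map_add, hx1, f1],
    by rw [map_add, hx2, f2], hz, ?_⟩
  · intro h0
    refine hb ?_
    calc ρ bg x = (x + ρ bg x) + x := by rw [add_comm x, add_assoc, h.two_W, add_zero]
      _ = x := by rw [h0, zero_add]
  · rw [map_add, ← rho_mul, bg_bg, rho_one, add_comm]

set_option maxHeartbeats 1000000 in
/-- There is no such map with trivial radical. -/
theorem quad_false {F : ℕ} (hF1 : 1 ≤ F)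
    (hF : ∀ e : V3, e ≠ 0 → Nat.card {w : W // q w = e} = F)
    (hrad : ∀ w, (∀ v, c w v = 0) → w = 0) : False := by
  classical
  have he0 : e0 ≠ 0 := by decide
  have he1 : e1 ≠ 0 := by decide
  obtain ⟨x, hx, hstab⟩ := exists_stab_fixed ρ h hρ hF1 hF
  -- the equivariant section
  have hpick : ∀ u : V3, u ≠ 0 → ∃ g : G3, g e0 = u := fun u hu =>
    (exists_sg_pow u hu).elim fun i hi => ⟨_, hi⟩
  choose pick hpickspec using hpick
  let φ : V3 → W := fun u => if hu : u = 0 then 0 else ρ (pick u hu) x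
  have hφ0 : φ 0 = 0 := dif_pos rfl
  have hφg : ∀ g : G3, φ (g e0) = ρ g x := by
    intro g
    have hne : g e0 ≠ 0 := fun hh => he0 (g.injective (hh.trans (map_zero g).symm))
    show (if hu : g e0 = 0 then 0 else ρ (pick (g e0) hu) x) = _
    rw [dif_neg hne]
    have h1 : (g⁻¹ * pick (g e0) hne) e0 = e0 := by
      rw [LinearEquiv.mul_apply, hpickspec _ hne]
      exact g.symm_apply_apply e0
    have h2 := hstab _ h1
    rw [rho_mul] at h2
    conv_rhs => rw [← h2, ← rho_mul, mul_inv_cancel, rho_one]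
  have hφeq : ∀ (g : G3) (u : V3), φ (g u) = ρ g (φ u) := by
    intro g u
    by_cases hu : u = 0
    · rw [hu, map_zero, hφ0, map_zero]
    obtain ⟨i, hi⟩ := exists_sg_pow u hu
    rw [← hi, ← LinearEquiv.mul_apply, hφg, hφg, rho_mul]
  have hqφ : ∀ u, q (φ u) = u := by
    intro u
    by_cases hu : u = 0
    · rw [hu, hφ0, h.map_zero]
    obtain ⟨i, hi⟩ := exists_sg_pow u hu
    rw [← hi, hφg, hρ, hx]
  -- `c` vanishes on the section
  have hc01 : c (φ e0) (φ e1) = 0 := by
    set d := c (φ e0) (φ e1) with hd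
    have hd2 : a2 d = d := by
      rw [hd, ← c_equivariant ρ h hρ, ← hφeq, ← hφeq, show a2 e0 = e0 by decide,
        show a2 e1 = e1 by decide]
    obtain ⟨s, hs0, hs1⟩ := exists_map_pair he1 he0 (by decide : e1 ≠ e0)
    have hs : s d = d := by
      rw [hd, ← c_equivariant ρ h hρ, ← hφeq, ← hφeq, hs0, hs1, h.symm]
    have hq : d ≠ e0 + e1 := fun hh => by
      have h1 := h.add (φ e0) (φ e1)
      rw [hqφ, hqφ, ← hd, hh, h.two_E, h.zero_iff] at h1
      have h2 : φ e0 = φ e1 := by
        rw [← add_zero (φ e0), ← h.two_W (φ e1), ← add_assoc, h1, zero_add]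
      have h3 := congrArg q h2
      rw [hqφ, hqφ] at h3
      exact absurd h3 (by decide)
    have h4 : ∀ u : V3, a2 u = u → u = 0 ∨ u = e0 ∨ u = e1 ∨ u = e0 + e1 := by decide
    rcases h4 d hd2 with e | e | e | e
    · exact e
    · rw [e, hs0] at hs; exact absurd hs (by decide)
    · rw [e, hs1] at hs; exact absurd hs (by decide)
    · exact absurd e hq
  have hcφ : ∀ u v, c (φ u) (φ v) = 0 := by
    intro u v
    by_cases hu : u = 0
    · rw [hu, hφ0, map_zero, AddMonoidHom.zero_apply]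
    by_cases hv : v = 0
    · rw [hv, hφ0, map_zero]
    by_cases huv : u = v
    · rw [huv, h.self]
    obtain ⟨g, hg0, hg1⟩ := exists_map_pair hu hv huv
    rw [← hg0, ← hg1, hφeq, hφeq, c_equivariant ρ h hρ, hc01, map_zero]
  let L : V3 →+ W := AddMonoidHom.mk' φ fun u v => by
    have h1 : q (φ (u + v) + (φ u + φ v)) = 0 := by
      rw [h.add, h.add, hqφ, hqφ, hqφ, map_add, hcφ, hcφ, hcφ, add_zero, add_zero, add_zero,
        h.two_E]
    have h2 := (h.zero_iff _).1 h1
    calc φ (u + v) = φ (u + v) + ((φ u + φ v) + (φ u + φ v)) := by rw [h.two_W, add_zero]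
      _ = φ u + φ v := by rw [← add_assoc, h2, zero_add]
  have hL : ∀ u, L u = φ u := fun _ => rfl
  have hLinj : Function.Injective L := fun u v huv => by
    rw [← hqφ u, ← hqφ v, ← hL, ← hL, huv]
  have hsgfix : ∀ w : W, ρ sg w = w → w = 0 := fun w => sg_fixed_free ρ h hρ
  -- the image of `c (φ e0)`
  by_cases hR : ∀ w, c (φ e0) w = 0 ∨ c (φ e0) w = e0
  · have hR' : ∀ u w, c (φ u) w = 0 ∨ c (φ u) w = u := by
      intro u w
      by_cases hu : u = 0
      · left; rw [hu, hφ0, map_zero, AddMonoidHom.zero_apply]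
      obtain ⟨i, hi⟩ := exists_sg_pow u hu
      set g := sg ^ (i : ℕ)
      have h1 : c (φ u) w = g (c (φ e0) (ρ g⁻¹ w)) := by
        rw [← hi, hφeq, ← c_equivariant ρ h hρ, ← rho_mul, mul_inv_cancel, rho_one]
      rcases hR (ρ g⁻¹ w) with e | e
      · left; rw [h1, e, map_zero]
      · right; rw [h1, e, hi]
    have hB : ∀ u v, u ≠ 0 → v ≠ 0 → u ≠ v → ∀ w, (c (φ u) w = 0 ↔ c (φ v) w = 0) := by
      intro u v hu hv huv w
      have h1 : c (φ (u + v)) w = c (φ u) w + c (φ v) w := by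
        rw [← hL, map_add, map_add, AddMonoidHom.add_apply]
        rfl
      obtain ⟨k1, k2, k3, k4⟩ := line_facts u v hu hv huv
      rcases hR' u w with ea | ea <;> rcases hR' v w with eb | eb <;>
        rcases hR' (u + v) w with ec | ec <;> rw [ea, eb, ec] at h1 <;> rw [ea, eb] <;>
        first
          | exact Iff.rfl
          | exact ⟨fun hh => absurd hh hu, fun hh => absurd hh hv⟩
          | exact absurd h1 k1
          | exact absurd h1 k2
          | exact absurd h1 k3
          | exact absurd h1 k4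
    have hB' : ∀ w, c (φ e0) (ρ sg w) = c (φ e0) w := by
      intro w
      have h1 : c (φ e1) (ρ sg w) = 0 ↔ c (φ e0) w = 0 := by
        rw [show e1 = sg e0 by decide, hφeq, c_equivariant ρ h hρ]
        exact ⟨fun hh => sg.injective (hh.trans (map_zero sg).symm), fun hh => by rw [hh, map_zero]⟩
      rw [← hB e0 e1 he0 he1 (by decide)] at h1
      rcases hR (ρ sg w) with e | e <;> rcases hR w with e' | e' <;> rw [e, e'] at h1 ⊢
      · exact absurd (h1.1 rfl) he0
      · exact absurd (h1.2 rfl) he0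
    have hzero : ∀ w, c (φ e0) w = 0 := by
      intro w
      have hsurj : Function.Surjective fun w => ρ sg w + w := by
        refine Finite.injective_iff_surjective.1 fun a b hab => ?_
        have h1 : ρ sg (a + b) = a + b := by
          rw [map_add]
          have hab : ρ sg a + a = ρ sg b + b := hab
          calc ρ sg a + ρ sg b = (ρ sg a + a) + (ρ sg b + b) + (a + b) := by
                rw [add_comm (ρ sg a) a, add_comm (ρ sg b) b]
                have : a + a = 0 := h.two_W a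
                have : b + b = 0 := h.two_W b
                calc ρ sg a + ρ sg b = (a + a) + (b + b) + (ρ sg a + ρ sg b) := by
                      rw [h.two_W, h.two_W, zero_add, zero_add]
                  _ = _ := by abel
            _ = a + b := by rw [hab, h.two_W, zero_add]
        have h2 := hsgfix _ h1
        rw [← add_zero a, ← h.two_W b, ← add_assoc, h2, zero_add]
      obtain ⟨v, hv⟩ := hsurj w
      rw [← hv]
      show c (φ e0) (ρ sg v + v) = 0
      rw [map_add, hB', h.two_E]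
    exact he0 (by rw [← hqφ e0, hrad _ hzero, h.map_zero])
  push Not at hR
  obtain ⟨w0, hw00, hw0e⟩ := hR
  have hψsurj : Function.Surjective (c (φ e0)) := by
    have hout : ∀ y : V3, y ≠ 0 → y ≠ e0 → ∃ w, c (φ e0) w = y := by
      intro y hy hye
      obtain ⟨g, hg0, hg1⟩ := exists_map_pair he0 hy (Ne.symm hye)
      obtain ⟨g', hg'0, hg'1⟩ := exists_map_pair he0 hw00 (Ne.symm hw0e)
      refine ⟨ρ (g * g'⁻¹) w0, ?_⟩
      have h1 : (g * g'⁻¹) e0 = e0 := by
        rw [LinearEquiv.mul_apply, show g'⁻¹ e0 = e0 from g'.symm_apply_eq.2 hg'0.symm, hg0]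
      conv_lhs => rw [← h1, hφeq, c_equivariant ρ h hρ, LinearEquiv.mul_apply]
      rw [show g'⁻¹ (c (φ e0) w0) = e1 from g'.symm_apply_eq.2 hg'1.symm, hg1]
    intro y
    by_cases hy : y = 0
    · exact ⟨0, by rw [map_zero, hy]⟩
    by_cases hye : y = e0
    · obtain ⟨u, hu⟩ := hout e1 he1 (by decide)
      obtain ⟨v, hv⟩ := hout (e0 + e1) (by decide) (by decide)
      refine ⟨u + v, ?_⟩
      rw [map_add, hu, hv, hye]
      decide
    exact hout y hy hye
  have hcard : Nat.card W = 8 * Nat.card (c (φ e0)).ker := by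
    have h2 : (c (φ e0)).ker.index = 8 := by
      rw [AddSubgroup.index_ker, AddMonoidHom.range_eq_top_of_surjective _ hψsurj,
        AddSubgroup.card_top, Nat.card_eq_fintype_card]
      decide
    rw [← h2, mul_comm, AddSubgroup.card_mul_index]
  have hle : L.range ≤ (c (φ e0)).ker := by
    rintro _ ⟨u, rfl⟩
    exact AddMonoidHom.mem_ker.2 (hcφ e0 u)
  have hLcard : Nat.card L.range = 8 := by
    rw [← Nat.card_congr (AddMonoidHom.ofInjective hLinj).toEquiv, Nat.card_eq_fintype_card]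
    decide
  have hV8 : Nat.card V3 = 8 := by rw [Nat.card_eq_fintype_card]; decide
  have hker : (c (φ e0)).ker = L.range := by
    have h1 := AddSubgroup.card_le_of_le hle
    refine (AddSubgroup.eq_of_le_of_card_ge hle ?_).symm
    rcases h.dichotomy (E := V3) (by rw [hV8]; norm_num) hF1 hF with ⟨-, hW⟩ | ⟨-, hW, -⟩
    · rw [hV8] at hW; omega
    · rw [hV8] at hW; omega
  obtain ⟨X0, hX0⟩ := hψsurj e0
  have hmove : ∀ g : G3, g e0 = e0 → ∀ u, c (φ u) (ρ g X0) = c (φ u) X0 := by
    intro g hg u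
    have h1 : c (φ e0) (ρ g X0 + X0) = 0 := by
      rw [map_add]
      conv_lhs => arg 1; rw [← hg, hφeq, c_equivariant ρ h hρ, hX0, hg]
      rw [hX0, h.two_E]
    obtain ⟨t, ht⟩ : ρ g X0 + X0 ∈ L.range := hker ▸ AddMonoidHom.mem_ker.2 h1
    rw [← add_zero (ρ g X0), ← h.two_W X0, ← add_assoc, ← ht, map_add (c (φ u)), hL, hcφ,
      zero_add]
  let β : V3 → V3 := fun u => c (φ u) X0
  have hβadd : ∀ u v, β (u + v) = β u + β v := fun u v => by
    show c (φ (u + v)) X0 = c (φ u) X0 + c (φ v) X0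
    rw [← hL, map_add, map_add, AddMonoidHom.add_apply]
    rfl
  have hβeq : ∀ g : G3, g e0 = e0 → ∀ u, β (g u) = g (β u) := by
    intro g hg u
    show c (φ (g u)) X0 = g (c (φ u) X0)
    rw [← hmove g hg (g u), hφeq, c_equivariant ρ h hρ]
  have hβ0 : β e0 = e0 := hX0
  have hβ1 : β e1 = e1 := by
    have k1 := hβeq a2 (by decide) e1
    rw [show a2 e1 = e1 by decide] at k1
    have k2 := hβeq a1 (by decide) e1
    rw [show a1 e1 = e0 + e1 by decide, hβadd, hβ0] at k2
    have k3 := hβeq zg (by decide) e1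
    have k4 := hβeq zg (by decide) e2
    rw [show zg e2 = e1 + e2 by decide, hβadd, ← show zg e1 = e2 by decide, k3] at k4
    revert k1 k2 k4
    generalize β e1 = y
    revert y
    decide
  have hβall : ∀ u, β u = u := by
    intro u
    have h2 : β e2 = e2 := by
      have k3 := hβeq zg (by decide) e1
      rw [hβ1, show zg e1 = e2 by decide] at k3
      exact k3
    have hdec : ∀ u : V3, u = 0 ∨ u = e0 ∨ u = e1 ∨ u = e2 ∨ u = e0 + e1 ∨ u = e0 + e2 ∨
        u = e1 + e2 ∨ u = e0 + e1 + e2 := by decide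
    have hz : β 0 = 0 := by
      show c (φ 0) X0 = 0
      rw [hφ0, map_zero, AddMonoidHom.zero_apply]
    rcases hdec u with e | e | e | e | e | e | e | e <;> rw [e] <;>
      simp only [hβadd, hz, hβ0, hβ1, h2]
  have h1 : c (φ e0) (ρ sg X0 + X0) = 0 := by
    rw [map_add, hX0]
    have h3 : c (φ e0) (ρ sg X0) = e0 := by
      conv_lhs => rw [show e0 = sg (sg.symm e0) from (sg.apply_symm_apply e0).symm, hφeq,
        c_equivariant ρ h hρ]
      rw [show c (φ (sg.symm e0)) X0 = sg.symm e0 from hβall _]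
      exact sg.apply_symm_apply e0
    rw [h3, h.two_E]
  obtain ⟨t, ht⟩ : ρ sg X0 + X0 ∈ L.range := hker ▸ AddMonoidHom.mem_ker.2 h1
  obtain ⟨t', ht'⟩ := sg_sub_surjective t
  have h2 : ρ sg (X0 + L t') = X0 + L t' := by
    have h4 : L t = ρ sg (L t') + L t' := by rw [← ht', map_add, hL, hφeq, ← hL]
    rw [map_add]
    calc ρ sg X0 + ρ sg (L t') = (ρ sg X0 + X0) + ρ sg (L t') + X0 := by
          rw [add_assoc (ρ sg X0) X0, add_comm X0 (ρ sg (L t')), ← add_assoc, add_assoc,
            h.two_W, add_zero]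
      _ = X0 + L t' := by
          rw [← ht, h4]
          calc ρ sg (L t') + L t' + ρ sg (L t') + X0
              = (ρ sg (L t') + ρ sg (L t')) + (X0 + L t') := by abel
            _ = _ := by rw [h.two_W, zero_add]
  have h5 := hsgfix _ h2
  have h6 : X0 = L t' := by
    rw [← add_zero X0, ← h.two_W (L t'), ← add_assoc, h5, zero_add]
  rw [h6, hL, hcφ] at hX0
  exact he0 hX0.symm

end

end Cfsg.Agent.H45.Pyramidal
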