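import Cfsg.Agent.H45.Pyramidal.ThreeAbelian
import Cfsg.Agent.H45.Pyramidal.ThreeQuad
import Cfsg.Agent.H45.Pyramidal.Special

/-!
No extension of a `2`-group by `GL₃(2)` has all its involutions in a natural submodule.
-/

set_option autoImplicit false

namespace Cfsg.Agent.H45.Pyramidal

open GL3
open scoped IsMulCommutative

variable {K : Type*} [Group K] [Finite K] {π : K →* G3} {ι : V3 → K}

set_option maxHeartbeats 1000000 in
theorem Three.false (h : Three π ι) : False := by
  classical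
  obtain ⟨k, hk⟩ := h.surj sg
  set S := π.ker with hS_def
  have hinvS : ∀ x : S, x * x = 1 → ∃ u, ι u = (x : K) := fun x hx =>
    h.invol _ (congrArg Subtype.val hx)
  have hconj : ∀ (g : K) (u : V3),
      MulAut.conjNormal g (⟨ι u, h.mem_ker u⟩ : S) = ⟨ι (π g u), h.mem_ker _⟩ := fun g u =>
    Subtype.ext ((MulAut.conjNormal_apply g _).trans (h.conj g u))
  have hne1 : ∀ u : V3, u ≠ 0 → (⟨ι u, h.mem_ker u⟩ : S) ≠ 1 := fun u hu hh =>
    hu (h.inj ((congrArg Subtype.val hh).trans h.map_zero'.symm))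
  have hsq1 : ∀ u : V3, (⟨ι u, h.mem_ker u⟩ : S) * ⟨ι u, h.mem_ker u⟩ = 1 := fun u =>
    Subtype.ext (by
      show ι u * ι u = 1
      rw [← h.map_add, show u + u = 0 by revert u; decide, h.map_zero'])
  have hval : ∀ x : S, x ≠ 1 → x * x = 1 → ∃ u : V3, u ≠ 0 ∧ x = ⟨ι u, h.mem_ker u⟩ := by
    intro x hx hx2
    obtain ⟨u, hu⟩ := hinvS x hx2
    exact ⟨u, fun h0 => hx (Subtype.ext (by rw [← hu, h0, h.map_zero']; rfl)), Subtype.ext hu.symm⟩
  have htr : ∀ x y : S, x ≠ 1 → x * x = 1 → y ≠ 1 → y * y = 1 →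
      ∃ a ∈ Subgroup.zpowers (MulAut.conjNormal k : MulAut S), a x = y := by
    intro x y hx hx2 hy hy2
    obtain ⟨u, hu, rfl⟩ := hval x hx hx2
    obtain ⟨v, hv, rfl⟩ := hval y hy hy2
    obtain ⟨i, hi⟩ := exists_sg_pow u hu
    obtain ⟨j, hj⟩ := exists_sg_pow v hv
    refine ⟨MulAut.conjNormal (k ^ (j : ℕ) * (k ^ (i : ℕ))⁻¹), ?_, ?_⟩
    · rw [map_mul, map_inv, map_pow, map_pow]
      exact mul_mem (Subgroup.pow_mem _ (Subgroup.mem_zpowers _) _)
        (inv_mem (Subgroup.pow_mem _ (Subgroup.mem_zpowers _) _))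
    · rw [hconj]
      refine Subtype.ext (congrArg ι ?_)
      rw [map_mul, map_inv, map_pow, map_pow, hk, LinearEquiv.mul_apply, ← hi]
      exact (congrArg _ ((sg ^ (i : ℕ)).symm_apply_apply e0)).trans hj
  have hsp : Special S := special_of_transitive h.ker_two (fun hh => h.not_abelian hh)
    ⟨_, _, fun hh => absurd (h.inj (congrArg Subtype.val hh)) (show e0 ≠ e1 by decide),
      hne1 e0 (by decide), hsq1 e0, hne1 e1 (by decide), hsq1 e1⟩
    _ inferInstance htr
  -- the natural module is the centre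
  have hzmem : ∀ u : V3, (⟨ι u, h.mem_ker u⟩ : S) ∈ Subgroup.center S := fun u =>
    (hsp.mem_iff _).2 (hsq1 u)
  let ε0 : V3 →+ SE S := AddMonoidHom.mk'
    (fun u => Additive.ofMul (⟨⟨ι u, h.mem_ker u⟩, hzmem u⟩ : Subgroup.center S))
    (fun u v => congrArg Additive.ofMul
      (Subtype.ext (Subtype.ext (h.map_add u v)) :
        (⟨⟨ι (u + v), h.mem_ker _⟩, hzmem _⟩ : Subgroup.center S) =
          ⟨⟨ι u, h.mem_ker u⟩, hzmem u⟩ * ⟨⟨ι v, h.mem_ker v⟩, hzmem v⟩))
  have hε0 : Function.Bijective ε0 := by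
    refine ⟨fun u v huv => h.inj (congrArg (fun e : SE S => ((e.toMul : S) : K)) huv), fun e => ?_⟩
    obtain ⟨u, hu⟩ := hinvS (e.toMul : S) ((hsp.mem_iff _).1 e.toMul.2)
    exact ⟨u, congrArg Additive.ofMul
      (Subtype.ext (Subtype.ext hu) : (⟨⟨ι u, h.mem_ker u⟩, hzmem u⟩ : Subgroup.center S) = e.toMul)⟩
  let ε : V3 ≃+ SE S := AddEquiv.ofBijective ε0 hε0
  have hεconj : ∀ (g : K) (u : V3), hsp.emap (MulAut.conjNormal g) (ε u) = ε (π g u) := fun g u =>
    congrArg Additive.ofMul (Subtype.ext (hconj g u) :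
      (⟨MulAut.conjNormal g (⟨ι u, h.mem_ker u⟩ : S), hsp.center_map _ (hzmem u)⟩ :
        Subgroup.center S) = ⟨⟨ι (π g u), h.mem_ker _⟩, hzmem _⟩)
  -- the action of `GL₃(2)` on `S / S'`
  have hinner : ∀ (s : S) (w : SW S), Special.wmap (MulAut.conjNormal (s : K)) w = w := by
    intro s w
    obtain ⟨x, rfl⟩ := cls_surjective w
    rw [Special.wmap_cls, show MulAut.conjNormal (s : K) x = s * x * s⁻¹ from
      Subtype.ext (MulAut.conjNormal_apply _ _), cls_mul, cls_mul, add_comm (cls s), add_assoc,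
      ← cls_mul, mul_inv_cancel, show cls (1 : S) = 0 from hsp.cls_eq_zero.2 (one_mem _), add_zero]
  have hsame : ∀ g g' : K, π g = π g' → ∀ w : SW S,
      Special.wmap (MulAut.conjNormal g) w = Special.wmap (MulAut.conjNormal g') w := by
    intro g g' hgg w
    have hs : g'⁻¹ * g ∈ π.ker := by
      rw [MonoidHom.mem_ker, map_mul, map_inv, hgg, inv_mul_cancel]
    conv_lhs => rw [show g = g' * ((⟨_, hs⟩ : S) : K) from (mul_inv_cancel_left g' g).symm,
      map_mul, Special.wmap_mul, hinner]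
  choose sec hsec using h.surj
  let ρ : G3 →* AddMonoid.End (SW S) :=
    { toFun := fun g => Special.wmap (MulAut.conjNormal (sec g))
      map_one' := AddMonoidHom.ext fun w => by
        show Special.wmap (MulAut.conjNormal (sec 1)) w = w
        rw [hsame (sec 1) 1 (by rw [hsec, map_one]) w, map_one, Special.wmap_one]
      map_mul' := fun g g' => AddMonoidHom.ext fun w => by
        show Special.wmap (MulAut.conjNormal (sec (g * g'))) w =
          Special.wmap (MulAut.conjNormal (sec g)) (Special.wmap (MulAut.conjNormal (sec g')) w)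
        rw [← Special.wmap_mul, ← map_mul,
          hsame (sec (g * g')) (sec g * sec g') (by rw [map_mul, hsec, hsec, hsec]) w] }
  let q : SW S → V3 := fun w => ε.symm (hsp.q w)
  let c : SW S →+ SW S →+ V3 := (AddMonoidHom.compHom ε.symm.toAddMonoidHom).comp hsp.c
  have hcapp : ∀ v w, c v w = ε.symm (hsp.c v w) := fun _ _ => rfl
  have hq : Quad q c :=
    { two_W := hsp.quad.two_W
      two_E := by decide
      add := fun v w => by
        show ε.symm (hsp.q (v + w)) = ε.symm (hsp.q v) + ε.symm (hsp.q w) + c v w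
        rw [hcapp, hsp.quad.add, _root_.map_add, _root_.map_add]
      zero_iff := fun w => by
        rw [← hsp.quad.zero_iff w]
        exact ⟨fun h0 => by simpa [q] using congrArg ε h0, fun h0 => by simp [q, h0]⟩ }
  have hρ : ∀ g w, q (ρ g w) = g (q w) := by
    intro g w
    show ε.symm (hsp.q (Special.wmap (MulAut.conjNormal (sec g)) w)) = g (ε.symm (hsp.q w))
    rw [hsp.q_wmap]
    conv_lhs => rw [← ε.apply_symm_apply (hsp.q w)]
    rw [hεconj, hsec, ε.symm_apply_apply]
  obtain ⟨F, hF1, hF⟩ := hsp.fibres (fun x y hx hx2 hy hy2 =>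
    let ⟨a, _, ha⟩ := htr x y hx hx2 hy hy2; ⟨a, ha⟩)
  haveI : Fintype (SW S) := Fintype.ofFinite _
  refine quad_false (q := q) (c := c) ρ hq hρ hF1 (F := F) (fun e he => ?_) ?_
  · rw [← hF (ε e) (fun h0 => he (ε.injective (h0.trans (map_zero ε).symm)))]
    exact Nat.card_congr (Equiv.subtypeEquivRight fun w => AddEquiv.symm_apply_eq ε)
  · intro w hw
    obtain ⟨x, rfl⟩ := cls_surjective w
    refine hsp.cls_eq_zero.2 (Subgroup.mem_center_iff.2 fun y => ?_)
    have h1 : hsp.c (cls x) (cls y) = 0 := by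
      simpa [hcapp] using hw (cls y)
    rw [hsp.c_apply, hsp.q_add] at h1
    have h2 : hsp.rel x y = 0 := by rw [← h1]; abel
    have h3 : y * x * y⁻¹ * x⁻¹ = 1 := congrArg (fun e : SE S => (e.toMul : S)) h2
    exact mul_inv_eq_iff_eq_mul.1 (mul_inv_eq_one.1 h3)

end Cfsg.Agent.H45.Pyramidal
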