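import Cfsg.Agent.H19.Cores
import Cfsg.Prelude.Def_CaseTheorems
import Cfsg.Agent.H45.Pyramidal.Three

/-!
Extensions by the full linear group with all involutions in the natural submodule do not exist.
-/

set_option autoImplicit false

namespace Cfsg.Agent.H45.Pyramidal

open Cfsg

universe u v

/-- An extension by the full linear group of `V` whose involutions form, with `1`, a copy of `V`. -/
structure GExt {V : Type v} [AddCommGroup V] [Module (ZMod 2) V] {K : Type u} [Group K]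
    (π : K →* (V ≃ₗ[ZMod 2] V)) (ι : V → K) : Prop where
  surj : Function.Surjective π
  map_add : ∀ u v, ι (u + v) = ι u * ι v
  inj : Function.Injective ι
  conj : ∀ k u, k * ι u * k⁻¹ = ι (π k u)
  invol : ∀ x : K, x * x = 1 → ∃ u, ι u = x

/-- An element squaring into a normal subgroup of odd order is congruent to an involution. -/
theorem exists_sq_one_congr {K : Type*} [Group K] [Finite K] {D : Subgroup K} [D.Normal]
    (hD : Odd (Nat.card D)) {x : K} (hx : x * x ∈ D) :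
    ∃ y : K, y * y = 1 ∧ (QuotientGroup.mk y : K ⧸ D) = QuotientGroup.mk x := by
  set m := orderOf (x * x) with hm
  have hmodd : Odd m := hD.of_dvd_nat (Subgroup.orderOf_dvd_natCard D hx)
  refine ⟨x ^ m, ?_, ?_⟩
  · rw [← (Commute.refl x).mul_pow, hm, pow_orderOf_eq_one]
  · have h2 : (QuotientGroup.mk x : K ⧸ D) * QuotientGroup.mk x = 1 :=
      (QuotientGroup.eq_one_iff _).2 hx
    obtain ⟨i, hi⟩ := hmodd
    rw [hi, QuotientGroup.mk_pow, pow_succ, pow_mul, sq, h2, one_pow, one_mul]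

/-- In a nilpotent normal subgroup, the intersection with the core has `2`-power index. -/
theorem exists_core_index {H : Type*} [Group H] [Finite H] (X : Subgroup H) [X.Normal]
    (hX : Group.IsNilpotent X) :
    ∃ D : Subgroup H, D.Normal ∧ Odd (Nat.card D) ∧ D ≤ X ∧
      ∃ s, (D.subgroupOf X).index = 2 ^ s := by
  have hodd : Odd (Nat.card (oddCore H)) := Nat.coprime_two_right.1 (H19.pPrimeCore_coprime 2)
  refine ⟨oddCore H ⊓ X, inferInstance,
    hodd.of_dvd_nat (Subgroup.card_dvd_of_le inf_le_left), inf_le_right, ?_⟩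
  set i := ((oddCore H ⊓ X).subgroupOf X).index with hi
  have hi0 : i ≠ 0 := Subgroup.index_ne_zero_of_finite
  suffices h : ∀ q, q.Prime → q ∣ i → q = 2 from
    ⟨_, Nat.eq_prime_pow_of_unique_prime_dvd hi0 (h _)⟩
  intro q hq hqi
  by_contra hq2
  haveI : Fact q.Prime := ⟨hq⟩
  obtain ⟨P⟩ : Nonempty (Sylow q X) := inferInstance
  have hPn : (P : Subgroup X).Normal := inferInstance
  haveI : (P : Subgroup X).Characteristic := P.characteristic_of_normal hPn
  have hPH : ((P : Subgroup X).map X.subtype).Normal := inferInstance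
  have hPodd : Odd (Nat.card ((P : Subgroup X).map X.subtype)) := by
    rw [Subgroup.card_map_of_injective X.subtype_injective]
    obtain ⟨r, hr⟩ := IsPGroup.iff_card.1 P.isPGroup'
    rw [hr]
    exact (hq.odd_of_ne_two hq2).pow
  have hle : (P : Subgroup X) ≤ (oddCore H ⊓ X).subgroupOf X := by
    intro p hp
    exact ⟨H19.le_pPrimeCore hPH (Nat.coprime_two_right.2 hPodd) (Subgroup.mem_map_of_mem _ hp), p.2⟩
  exact P.not_dvd_index (hqi.trans (Subgroup.index_dvd_of_le hle))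

variable {V : Type v} [AddCommGroup V] [Module (ZMod 2) V] {K : Type u} [Group K]
  {π : K →* (V ≃ₗ[ZMod 2] V)} {ι : V → K}

theorem GExt.map_zero' (h : GExt π ι) : ι 0 = 1 := by
  have := h.map_add 0 0
  rwa [add_zero, left_eq_mul] at this

theorem GExt.two (h : GExt π ι) (u : V) : ι u * ι u = 1 := by
  rw [← h.map_add, ← two_nsmul, ← Nat.cast_smul_eq_nsmul (ZMod 2),
    show ((2 : ℕ) : ZMod 2) = 0 from rfl, zero_smul, h.map_zero']

theorem GExt.pi_iota (h : GExt π ι) (u : V) : π (ι u) = 1 := by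
  refine LinearEquiv.ext fun v => h.inj ?_
  rw [← h.conj, ← h.map_add, add_comm, h.map_add, mul_inv_cancel_right]
  rfl

/-- Cut the kernel down to a `2`-group. -/
theorem GExt.exists_two_group [Finite K] (h : GExt π ι)
    (htr : ∀ u v : V, u ≠ 0 → v ≠ 0 → ∃ g : V ≃ₗ[ZMod 2] V, g u = v)
    (ht : ∃ t : V ≃ₗ[ZMod 2] V, t ≠ 1 ∧ t * t = 1) :
    ∃ (K' : Type u) (_ : Group K') (_ : Finite K') (π' : K' →* (V ≃ₗ[ZMod 2] V)) (ι' : V → K'),
      GExt π' ι' ∧ IsPGroup 2 π'.ker := by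
  classical
  haveI : Fact (Nat.Prime 2) := ⟨Nat.prime_two⟩
  haveI : Finite (V ≃ₗ[ZMod 2] V) := Finite.of_surjective π h.surj
  -- a minimal subgroup mapping onto the linear group
  obtain ⟨M, hM, hmin⟩ : ∃ M : Subgroup K, M.map π = ⊤ ∧
      ∀ M' : Subgroup K, M'.map π = ⊤ → M' ≤ M → M ≤ M' := by
    obtain ⟨M, hM, hmin⟩ := (Set.toFinite {M : Subgroup K | M.map π = ⊤}).exists_minimal
      ⟨⊤, Subgroup.map_top_of_surjective π h.surj⟩
    exact ⟨M, hM, fun M' h1 h2 => hmin h1 h2⟩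
  let π1 : M →* (V ≃ₗ[ZMod 2] V) := π.comp M.subtype
  have hπ1 : Function.Surjective π1 := fun g => by
    obtain ⟨x, hx, rfl⟩ : g ∈ M.map π := hM ▸ Subgroup.mem_top g
    exact ⟨⟨x, hx⟩, rfl⟩
  have hker : π1.ker ≤ frattini M := by
    refine le_iInf fun N => le_iInf fun hN => ?_
    by_contra hle
    have hsup : N ⊔ π1.ker = ⊤ := hN.2 _ (left_lt_sup.2 hle)
    have h1 : (N.map M.subtype).map π = ⊤ := by
      rw [Subgroup.map_map, eq_top_iff]
      rintro g -
      obtain ⟨x, hx⟩ := hπ1 g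
      obtain ⟨n, hn, k, hk, hnk⟩ := Subgroup.mem_sup_of_normal_right.1 (hsup ▸ Subgroup.mem_top x)
      exact ⟨n, hn, by rw [← hx, ← hnk, map_mul, MonoidHom.mem_ker.1 hk, mul_one]⟩
    have h2 := hmin _ h1 (Subgroup.map_subtype_le N)
    exact hN.1 (eq_top_iff.2 fun x _ => by
      obtain ⟨y, hy, hyx⟩ := h2 x.2
      rwa [Subtype.ext hyx] at hy)
  haveI hfn : Group.IsNilpotent (frattini M) := frattini_nilpotent
  haveI : Group.IsNilpotent π1.ker :=
    Group.nilpotent_of_mulEquiv (Subgroup.subgroupOfEquivOfLe hker)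
  -- the natural module lies in it
  have hιM : ∀ u, ι u ∈ M := by
    obtain ⟨t, ht1, ht2⟩ := ht
    obtain ⟨x, hx⟩ := hπ1 t
    have h2 : 2 ∣ Nat.card M := by
      have h3 : orderOf t ∣ orderOf x := hx ▸ orderOf_map_dvd π1 x
      rw [orderOf_eq_prime (by rw [sq, ht2]) ht1] at h3
      exact h3.trans (orderOf_dvd_natCard x)
    obtain ⟨z, hz⟩ := exists_prime_orderOf_dvd_card' 2 h2
    have hz1 : z ≠ 1 := fun hh => by rw [hh, orderOf_one] at hz; norm_num at hz
    have hz2 : (z : K) * z = 1 := by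
      have h5 := pow_orderOf_eq_one z
      rw [hz, sq] at h5
      exact congrArg Subtype.val h5
    obtain ⟨u0, hu0⟩ := h.invol _ hz2
    have hu00 : u0 ≠ 0 := fun hh => hz1 (Subtype.ext (by rw [← hu0, hh, h.map_zero']; rfl))
    intro u
    by_cases hu : u = 0
    · rw [hu, h.map_zero']; exact M.one_mem
    obtain ⟨g, hg⟩ := htr u0 u hu00 hu
    obtain ⟨m, hm⟩ := hπ1 g
    rw [← hg, ← hm]
    show ι (π m u0) ∈ M
    rw [← h.conj, hu0]
    exact M.mul_mem (M.mul_mem m.2 z.2) (M.inv_mem m.2)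
  let ι1 : V → M := fun u => ⟨ι u, hιM u⟩
  obtain ⟨D, hDn, hDodd, hDle, s, hs⟩ := exists_core_index π1.ker inferInstance
  haveI := hDn
  let π2 : (M ⧸ D) →* (V ≃ₗ[ZMod 2] V) := QuotientGroup.lift D π1 hDle
  refine ⟨M ⧸ D, inferInstance, inferInstance, π2, fun u => QuotientGroup.mk (ι1 u),
    ⟨?_, ?_, ?_, ?_, ?_⟩, ?_⟩
  · intro g
    obtain ⟨x, hx⟩ := hπ1 g
    exact ⟨QuotientGroup.mk x, hx⟩
  · intro a b
    rw [← QuotientGroup.mk_mul]
    exact congrArg _ (Subtype.ext (h.map_add a b))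
  · intro a b hab
    have h1 : (ι1 a)⁻¹ * ι1 b ∈ D := QuotientGroup.eq.1 hab
    have h2 : ((ι1 a)⁻¹ * ι1 b) * ((ι1 a)⁻¹ * ι1 b) = 1 := by
      refine Subtype.ext ?_
      show ((ι a)⁻¹ * ι b) * ((ι a)⁻¹ * ι b) = 1
      rw [inv_eq_of_mul_eq_one_left (h.two a), ← h.map_add, h.two]
    have h4 : orderOf ((ι1 a)⁻¹ * ι1 b) = 1 :=
      Nat.eq_one_of_dvd_coprimes (Nat.coprime_two_left.2 hDodd)
        (orderOf_dvd_of_pow_eq_one (by rw [sq, h2])) (Subgroup.orderOf_dvd_natCard D h1)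
    exact h.inj (congrArg Subtype.val (inv_mul_eq_one.1 (orderOf_eq_one_iff.1 h4)))
  · intro k u
    obtain ⟨x, rfl⟩ := QuotientGroup.mk_surjective k
    rw [← QuotientGroup.mk_mul, ← QuotientGroup.mk_inv, ← QuotientGroup.mk_mul]
    exact congrArg _ (Subtype.ext (h.conj x u))
  · intro k hk
    obtain ⟨x, rfl⟩ := QuotientGroup.mk_surjective k
    obtain ⟨y, hy, hxy⟩ := exists_sq_one_congr hDodd ((QuotientGroup.eq_one_iff _).1 hk)
    obtain ⟨u, hu⟩ := h.invol y (congrArg Subtype.val hy)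
    exact ⟨u, by rw [← hxy]; exact congrArg _ (Subtype.ext hu)⟩
  · refine IsPGroup.of_card (n := s) ?_
    rw [← hs, show π2.ker = π1.ker.map (QuotientGroup.mk' D) from QuotientGroup.ker_lift _ _ hDle]
    have hk : ((QuotientGroup.mk' D).comp π1.ker.subtype).ker = D.subgroupOf π1.ker := by
      ext z
      exact QuotientGroup.eq_one_iff (z : M)
    rw [Subgroup.index, ← hk,
      Nat.card_congr (QuotientGroup.quotientKerEquivRange
        ((QuotientGroup.mk' D).comp π1.ker.subtype)).toEquiv,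
      MonoidHom.range_comp, Subgroup.range_subtype]

/-- The centraliser of a lifted element of order three maps onto the centraliser. -/
theorem exists_commute_lift {G Q : Type*} [Group G] [Finite G] [Group Q] (f : G →* Q)
    (hf : IsPGroup 2 f.ker) {x : G} (hx : x ^ 3 = 1) (k : G) (hk : f k * f x = f x * f k) :
    ∃ k' : G, f k' = f k ∧ k' * x = x * k' := by
  haveI : Fact (Nat.Prime 3) := ⟨Nat.prime_three⟩
  let R : Subgroup G := (Subgroup.zpowers (f x)).comap f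
  have hxR : x ∈ R := Subgroup.mem_zpowers (f x)
  have hkR : k * x * k⁻¹ ∈ R := by
    show f (k * x * k⁻¹) ∈ Subgroup.zpowers (f x)
    rw [map_mul, map_mul, map_inv, hk, mul_inv_cancel_right]
    exact Subgroup.mem_zpowers _
  have hp : ∀ z : R, z ^ 3 = 1 → IsPGroup 3 (Subgroup.zpowers z) := fun z hz => by
    obtain ⟨r, -, hr⟩ := (Nat.dvd_prime_pow Nat.prime_three).1
      (show orderOf z ∣ 3 ^ 1 by rw [pow_one]; exact orderOf_dvd_of_pow_eq_one hz)
    exact IsPGroup.of_card (n := r) (by rw [Nat.card_zpowers, hr])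
  obtain ⟨P, hP⟩ := (hp ⟨x, hxR⟩ (Subtype.ext hx)).exists_le_sylow
  obtain ⟨P', hP'⟩ := (hp ⟨k * x * k⁻¹, hkR⟩ (Subtype.ext (by
    show (k * x * k⁻¹) ^ 3 = 1
    rw [conj_pow, hx, mul_one, mul_inv_cancel]))).exists_le_sylow
  obtain ⟨r, hr⟩ := MulAction.exists_smul_eq R P P'
  have h1 : r * ⟨x, hxR⟩ * r⁻¹ ∈ (P' : Subgroup R) := by
    rw [← hr, Sylow.coe_subgroup_smul]
    exact Subgroup.smul_mem_pointwise_smul _ (MulAut.conj r) _ (hP (Subgroup.mem_zpowers _))
  have h2 : (⟨k * x * k⁻¹, hkR⟩ : R) ∈ (P' : Subgroup R) := hP' (Subgroup.mem_zpowers _)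
  obtain ⟨i, hi'⟩ := (r.2 : f (r : G) ∈ Subgroup.zpowers (f x))
  have hi : f x ^ i = f (r : G) := hi' 
  have himg : f ((r : G) * x * (r : G)⁻¹) = f (k * x * k⁻¹) := by
    simp only [map_mul, map_inv]
    rw [hk, mul_inv_cancel_right, ← hi]
    exact (Commute.zpow_self (f x) i).mul_inv_cancel
  have h3 : (r : G) * x * (r : G)⁻¹ = k * x * k⁻¹ := by
    set d : R := (r * ⟨x, hxR⟩ * r⁻¹)⁻¹ * ⟨k * x * k⁻¹, hkR⟩ with hd
    have hdP : d ∈ (P' : Subgroup R) := mul_mem (inv_mem h1) h2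
    have hdk : (d : G) ∈ f.ker := by
      rw [MonoidHom.mem_ker, hd]
      show f (((r : G) * x * (r : G)⁻¹)⁻¹ * (k * x * k⁻¹)) = 1
      rw [map_mul, map_inv, himg, inv_mul_cancel]
    obtain ⟨a, ha⟩ := P'.isPGroup' ⟨d, hdP⟩
    obtain ⟨b, hb⟩ := hf ⟨d, hdk⟩
    have ha' : (d : G) ^ 3 ^ a = 1 := congrArg Subtype.val (congrArg Subtype.val ha)
    have hb' : (d : G) ^ 2 ^ b = 1 := congrArg Subtype.val hb
    have h5 : (d : G) = 1 := orderOf_eq_one_iff.1 (Nat.eq_one_of_dvd_coprimes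
      (Nat.Coprime.pow a b (by norm_num : Nat.Coprime 3 2))
      (orderOf_dvd_of_pow_eq_one ha') (orderOf_dvd_of_pow_eq_one hb'))
    exact inv_mul_eq_one.1 h5
  refine ⟨x ^ i * ((r : G)⁻¹ * k), ?_, ?_⟩
  · rw [map_mul, map_mul, map_inv, map_zpow, ← hi, mul_inv_cancel_left]
  · have h6 : (r : G)⁻¹ * k * x = x * ((r : G)⁻¹ * k) := by
      calc (r : G)⁻¹ * k * x = (r : G)⁻¹ * (k * x * k⁻¹) * k := by group
        _ = (r : G)⁻¹ * ((r : G) * x * (r : G)⁻¹) * k := by rw [h3]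
        _ = x * ((r : G)⁻¹ * k) := by group
    rw [mul_assoc, h6, ← mul_assoc, ← mul_assoc, mul_assoc (x ^ i * x)]
    rw [(Commute.zpow_self x i).eq, mul_assoc]

/-- Split off three dimensions by an element of order three. -/
theorem GExt.false_of_split {U : Type v} [AddCommGroup U] [Module (ZMod 2) U] {K : Type u}
    [Group K] [Finite K] {π : K →* ((V3 × U) ≃ₗ[ZMod 2] (V3 × U))} {ι : V3 × U → K}
    (h : GExt π ι) (hker : IsPGroup 2 π.ker)
    (τ : U ≃ₗ[ZMod 2] U) (hτ : τ * τ * τ = 1) (hτf : ∀ u, τ u = u → u = 0) : False := by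
  classical
  let e : G3 →* ((V3 × U) ≃ₗ[ZMod 2] (V3 × U)) :=
    { toFun := fun g => LinearEquiv.prodCongr g (LinearEquiv.refl _ _)
      map_one' := rfl
      map_mul' := fun _ _ => rfl }
  have he : Function.Injective e := fun g g' hgg => LinearEquiv.ext fun v =>
    congrArg Prod.fst (DFunLike.congr_fun hgg (v, 0))
  set y : (V3 × U) ≃ₗ[ZMod 2] (V3 × U) := LinearEquiv.prodCongr (LinearEquiv.refl _ _) τ
    with hy
  have hy3 : y ^ 3 = 1 := by
    rw [pow_succ, pow_two]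
    refine LinearEquiv.ext fun p => Prod.ext rfl ?_
    exact DFunLike.congr_fun hτ p.2
  obtain ⟨k, hk⟩ := h.surj y
  obtain ⟨s, hs⟩ := hker ⟨k ^ 3, by rw [MonoidHom.mem_ker, map_pow, hk, hy3]⟩
  have hs' : (k ^ 3) ^ 2 ^ s = 1 := congrArg Subtype.val hs
  set x := k ^ 4 ^ s with hx
  have hx3 : x ^ 3 = 1 := by
    rw [hx, ← pow_mul, mul_comm, pow_mul, show 4 ^ s = 2 ^ s * 2 ^ s by rw [← mul_pow]; rfl,
      pow_mul, hs', one_pow]
  have hπx : π x = y := by
    have h4 : 4 ^ s % 3 = 1 := by rw [Nat.pow_mod]; norm_num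
    rw [hx, map_pow, hk, ← Nat.div_add_mod (4 ^ s) 3, h4, pow_succ, pow_mul, hy3, one_pow, one_mul]
  let C : Subgroup K := Subgroup.centralizer ({x} : Set K)
  let K3 : Subgroup K := C ⊓ e.range.comap π
  let π3 : K3 →* G3 :=
    (MonoidHom.ofInjective he).symm.toMonoidHom.comp
      ((π.comp K3.subtype).codRestrict e.range fun k => k.2.2)
  have hπ3 : ∀ k : K3, e (π3 k) = π k := fun k => by
    have h1 := (MonoidHom.ofInjective he).apply_symm_apply (⟨π k, k.2.2⟩ : e.range)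
    exact congrArg Subtype.val h1
  have hmem : ∀ u : V3, ι (u, 0) ∈ K3 := fun u => by
    refine ⟨Subgroup.mem_centralizer_singleton_iff.2 ?_, ⟨1, by rw [map_one, h.pi_iota]⟩⟩
    have h1 := h.conj x (u, 0)
    rw [hπx, show y (u, 0) = (u, 0) from Prod.ext rfl (map_zero τ)] at h1
    exact (mul_inv_eq_iff_eq_mul.1 h1).symm
  refine Three.false (π := π3) (ι := fun u => (⟨ι (u, 0), hmem u⟩ : K3)) ⟨?_, ?_, ?_, ?_, ?_, ?_⟩
  · intro g
    obtain ⟨k0, hk0⟩ := h.surj (e g)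
    obtain ⟨k', hk', hcomm⟩ := exists_commute_lift π hker hx3 k0 (by
      rw [hk0, hπx]
      rfl)
    refine ⟨⟨k', Subgroup.mem_centralizer_singleton_iff.2 hcomm, ⟨g, by rw [hk', hk0]⟩⟩, he ?_⟩
    rw [hπ3]
    exact hk'.trans hk0
  · intro ⟨k, hk⟩
    have h1 : (k : K) ∈ π.ker := by
      rw [MonoidHom.mem_ker, ← hπ3, MonoidHom.mem_ker.1 hk, map_one]
    obtain ⟨t, ht⟩ := hker ⟨k, h1⟩
    exact ⟨t, Subtype.ext (Subtype.ext (show (k : K) ^ 2 ^ t = 1 from congrArg Subtype.val ht))⟩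
  · intro a b
    refine Subtype.ext ?_
    show ι (a + b, 0) = ι (a, 0) * ι (b, 0)
    rw [← h.map_add, Prod.mk_add_mk, add_zero]
  · exact fun a b hab => congrArg Prod.fst (h.inj (congrArg Subtype.val hab))
  · intro k u
    refine Subtype.ext ((h.conj k (u, 0)).trans ?_)
    rw [← hπ3]
    exact congrArg ι (Prod.ext rfl rfl)
  · intro k hk2
    obtain ⟨⟨a, b⟩, hab⟩ := h.invol (k : K) (congrArg Subtype.val hk2)
    have h1 := h.conj x (a, b)
    rw [hπx, hab, ← Subgroup.mem_centralizer_singleton_iff.1 k.2.1, mul_inv_cancel_right, ← hab]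
      at h1
    have h2 := congrArg Prod.snd (h.inj h1)
    rw [show (y (a, b)).2 = τ b from rfl] at h2
    obtain rfl := hτf b h2.symm
    exact ⟨a, Subtype.ext hab⟩

end Cfsg.Agent.H45.Pyramidal
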