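import Cfsg.Agent.H45.Mersenne.Basic
import Cfsg.Agent.H45.Pyramidal.Reduce

/-!
No full linear group acts with all involutions in the natural submodule.
-/

set_option autoImplicit false

namespace Cfsg.Agent.H45.Pyramidal

open Module

universe u v

/-- An element of order three on a plane without non-zero fixed vectors. -/
def tau : (ZMod 2 × ZMod 2) ≃ₗ[ZMod 2] (ZMod 2 × ZMod 2) :=
  { toFun := fun p => (p.2, p.1 + p.2)
    invFun := fun p => (p.1 + p.2, p.1)
    map_add' := by decide
    map_smul' := by decide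
    left_inv := by decide
    right_inv := by decide }

theorem GExt.false_of_odd {V : Type v} [AddCommGroup V] [Module (ZMod 2) V] [Finite V] {K : Type u}
    [Group K] [Finite K] {π : K →* (V ≃ₗ[ZMod 2] V)} {ι : V → K} (h : GExt π ι) {j : ℕ}
    (hn : finrank (ZMod 2) V = 2 * j + 3) : False := by
  classical
  have hfr : finrank (ZMod 2) V = finrank (ZMod 2) (V3 × (Fin j → ZMod 2 × ZMod 2)) := by
    simp only [finrank_prod, finrank_pi_fintype, finrank_self, Finset.sum_const, Finset.card_univ,
      Fintype.card_fin, smul_eq_mul, hn]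
    ring
  let eV : V ≃ₗ[ZMod 2] V3 × (Fin j → ZMod 2 × ZMod 2) := LinearEquiv.ofFinrankEq _ _ hfr
  let π1 : K →* ((V3 × (Fin j → ZMod 2 × ZMod 2)) ≃ₗ[ZMod 2]
      (V3 × (Fin j → ZMod 2 × ZMod 2))) :=
    { toFun := fun k => eV.symm.trans ((π k).trans eV)
      map_one' := LinearEquiv.ext fun p => by simp
      map_mul' := fun a b => LinearEquiv.ext fun p => by simp [LinearEquiv.mul_apply] }
  let ι1 : V3 × (Fin j → ZMod 2 × ZMod 2) → K := fun p => ι (eV.symm p)
  have h1 : GExt π1 ι1 :=
    { surj := fun g => by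
        obtain ⟨k, hk⟩ := h.surj (eV.trans (g.trans eV.symm))
        exact ⟨k, LinearEquiv.ext fun p => by simp [π1, hk]⟩
      map_add := fun a b => by simp only [ι1, _root_.map_add, h.map_add]
      inj := h.inj.comp eV.symm.injective
      conj := fun k p => by simp [ι1, π1, h.conj]
      invol := fun x hx => (h.invol x hx).elim fun u hu => ⟨eV u, by simp [ι1, hu]⟩ }
  obtain ⟨K', iG, iF, π', ι', h', hker⟩ := h1.exists_two_group
    (fun u v hu hv => Mersenne.exists_map_eq hu hv)
    ⟨LinearEquiv.prodCongr GL3.bg (LinearEquiv.refl _ _),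
      fun hh => absurd (congrArg Prod.fst (DFunLike.congr_fun hh (GL3.e1, 0)))
        (show GL3.bg GL3.e1 ≠ GL3.e1 by decide),
      LinearEquiv.ext fun p => Prod.ext (DFunLike.congr_fun GL3.bg_bg p.1) rfl⟩
  refine h'.false_of_split hker (LinearEquiv.piCongrRight fun _ => tau) ?_ ?_
  · refine LinearEquiv.ext fun u => funext fun i => ?_
    have key : ∀ p, tau (tau (tau p)) = p := by decide
    exact key (u i)
  · intro u hu
    funext i
    have key : ∀ p, tau p = p → p = 0 := by decide
    exact key (u i) (congrFun hu i)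

end Cfsg.Agent.H45.Pyramidal
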