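import Cfsg.Agent.H45.Pyramidal.Centraliser

/-!
A group with central involutions and special Sylow `2`-subgroup with equal fibres is solvable.
-/

set_option autoImplicit false

namespace Cfsg.Agent.H45.Pyramidal

open Subgroup
open scoped IsMulCommutative

universe u

set_option maxHeartbeats 1000000 in
theorem isSolvable_of_special {X : Type u} [Group X] [Finite X] (P : Sylow 2 X)
    (hsp : Special (P : Subgroup X)) (hc : ∀ x : X, x * x = 1 → x ∈ Subgroup.center X)
    {F : ℕ} (hF1 : 1 ≤ F)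
    (hF : ∀ e : SE (P : Subgroup X), e ≠ 0 →
      Nat.card {w : SW (P : Subgroup X) // hsp.q w = e} = F)
    (h4 : 4 ≤ Nat.card (Subgroup.center (P : Subgroup X))) : Group.IsSolvable X := by
  classical
  haveI : Fact (Nat.Prime 2) := ⟨Nat.prime_two⟩
  let Z : Subgroup X :=
    { carrier := {x | x * x = 1}
      one_mem' := one_mul 1
      mul_mem' := fun {a b} ha hb => by
        have hab := Subgroup.mem_center_iff.1 (hc b hb) a
        show a * b * (a * b) = 1
        calc a * b * (a * b) = a * (b * a) * b := by group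
          _ = a * (a * b) * b := by rw [hab]
          _ = (a * a) * (b * b) := by group
          _ = 1 := by rw [show a * a = 1 from ha, show b * b = 1 from hb, one_mul]
      inv_mem' := fun {a} ha => by
        show a⁻¹ * a⁻¹ = 1
        rw [← mul_inv_rev, show a * a = 1 from ha, inv_one] }
  have hZc : Z ≤ Subgroup.center X := fun x hx => hc x hx
  haveI hZn : Z.Normal := ⟨fun n hn g => by
    rwa [show g * n * g⁻¹ = n by rw [Subgroup.mem_center_iff.1 (hZc hn) g, mul_inv_cancel_right]]⟩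
  have hZP : ∀ z ∈ Z, z ∈ (P : Subgroup X) := fun z hz =>
    mem_sylow_of_normalize P (Subgroup.mem_normalizer_iff.2 fun y => by
      rw [← Subgroup.mem_center_iff.1 (hZc hz) y, mul_inv_cancel_right]) ⟨1, by rw [pow_one, sq]; exact hz⟩
  set π : X →* X ⧸ Z := QuotientGroup.mk' Z with hπdef
  have hπs : Function.Surjective π := QuotientGroup.mk'_surjective Z
  let W : Sylow 2 (X ⧸ Z) := P.mapSurjective hπs
  have hWmem : ∀ x : X, π x ∈ (W : Subgroup (X ⧸ Z)) ↔ x ∈ (P : Subgroup X) := by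
    intro x
    refine ⟨?_, fun hx => Subgroup.mem_map_of_mem _ hx⟩
    rintro ⟨y, hy, hyx⟩
    have h1 : y⁻¹ * x ∈ Z := QuotientGroup.eq.1 hyx
    simpa using (P : Subgroup X).mul_mem hy (hZP _ h1)
  have hclsπ : ∀ x y : (P : Subgroup X), cls x = cls y ↔ π (x : X) = π (y : X) := by
    intro x y
    rw [show π (x : X) = π (y : X) ↔ (x : X)⁻¹ * y ∈ Z from QuotientGroup.eq,
      show cls x = cls y ↔ x⁻¹ * y ∈ commutator (P : Subgroup X) from QuotientGroup.eq,
      hsp.comm_eq, hsp.mem_iff]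
    exact ⟨fun hh => congrArg Subtype.val hh, fun hh => Subtype.ext hh⟩
  have hπ1 : ∀ x : (P : Subgroup X), cls x = 0 ↔ π (x : X) = 1 := fun x => by
    have h1 := hclsπ x 1
    rwa [show cls (1 : (P : Subgroup X)) = 0 from rfl, show ((1 : (P : Subgroup X)) : X) = 1 from rfl,
      map_one] at h1
  haveI : IsMulCommutative (W : Subgroup (X ⧸ Z)) := IsMulCommutative.of_comm fun a b => by
    obtain ⟨x, hx⟩ := hπs (a : X ⧸ Z)
    obtain ⟨y, hy⟩ := hπs (b : X ⧸ Z)
    have hxP : x ∈ (P : Subgroup X) := (hWmem x).1 (hx ▸ a.2)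
    have hyP : y ∈ (P : Subgroup X) := (hWmem y).1 (hy ▸ b.2)
    apply Subtype.ext
    show (a : X ⧸ Z) * b = b * a
    rw [← hx, ← hy, ← map_mul, ← map_mul]
    refine (hclsπ (⟨x, hxP⟩ * ⟨y, hyP⟩) (⟨y, hyP⟩ * ⟨x, hxP⟩)).1 ?_
    rw [cls_mul, cls_mul, add_comm]
  have hWsq : ∀ w ∈ (W : Subgroup (X ⧸ Z)), w * w = 1 := by
    rintro _ ⟨x, hx, rfl⟩
    rw [← map_mul]
    exact (hπ1 (⟨x, hx⟩ * ⟨x, hx⟩)).1 (by rw [cls_mul, hsp.quad.two_W])
  have hWcard : Nat.card (W : Subgroup (X ⧸ Z)) = Nat.card (SW (P : Subgroup X)) := by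
    have h1 : (π.comp (P : Subgroup X).subtype).ker = commutator (P : Subgroup X) := by
      ext x
      rw [MonoidHom.mem_ker, hsp.comm_eq, ← hsp.cls_eq_zero]
      exact (hπ1 x).symm
    calc Nat.card (W : Subgroup (X ⧸ Z)) = Nat.card (π.comp (P : Subgroup X).subtype).range := by
          rw [MonoidHom.range_comp, Subgroup.range_subtype]; rfl
      _ = (π.comp (P : Subgroup X).subtype).ker.index := (Subgroup.index_ker _).symm
      _ = _ := by rw [h1]; rfl
  -- action of the normaliser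
  have hlift : ∀ b : X, π b ∈ Subgroup.normalizer ((W : Subgroup (X ⧸ Z)) : Set (X ⧸ Z)) →
      b ∈ Subgroup.normalizer ((P : Subgroup X) : Set X) := by
    intro b hb
    refine Subgroup.mem_normalizer_iff.2 fun x => ?_
    rw [← hWmem, ← hWmem, map_mul, map_mul, map_inv]
    exact Subgroup.mem_normalizer_iff.1 hb (π x)
  let ψ : (Subgroup.normalizer ((P : Subgroup X) : Set X) : Subgroup X) →* MulAut (P : Subgroup X) :=
    (P : Subgroup X).normalizerMonoidHom
  have hψ : ∀ b x, ((ψ b x : (P : Subgroup X)) : X) = (b : X) * x * (b : X)⁻¹ := fun _ _ => rfl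
  have hqinv : ∀ b w, hsp.q (Special.wmap (ψ b) w) = hsp.q w := by
    intro b w
    rw [hsp.q_wmap]
    refine congrArg Additive.ofMul (Subtype.ext (Subtype.ext ?_) :
      (⟨ψ b ((hsp.q w).toMul : (P : Subgroup X)), hsp.center_map _ (hsp.q w).toMul.2⟩ :
        Subgroup.center (P : Subgroup X)) = (hsp.q w).toMul)
    have h1 : ((hsp.q w).toMul : (P : Subgroup X)) * ((hsp.q w).toMul : (P : Subgroup X)) = 1 :=
      (hsp.mem_iff _).1 (hsp.q w).toMul.2
    have h2 := Subgroup.mem_center_iff.1 (hc _ (congrArg Subtype.val h1)) (b : X)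
    rw [hψ, h2, mul_inv_cancel_right]
  have hodd : ∀ g : X ⧸ Z, Odd (orderOf g) → ∃ b : X, π b = g ∧ Odd (orderOf b) := by
    intro g hg
    obtain ⟨x, rfl⟩ := hπs g
    obtain ⟨a, ha, b, -, hab, ⟨s, hs⟩, hb⟩ := exists_two_odd_parts x
    refine ⟨b, ?_, hb⟩
    have ha1 : π a = 1 := by
      obtain ⟨i, hi⟩ := ha
      have hd : orderOf (π a) ∣ orderOf (π x) :=
        orderOf_dvd_of_mem_zpowers ⟨i, by rw [← hi]; exact (map_zpow π x i).symm⟩
      exact orderOf_eq_one_iff.1 (Nat.eq_one_of_dvd_coprimes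
        (Nat.Coprime.pow_left s (Nat.coprime_two_left.2 hg))
        ((orderOf_map_dvd π a).trans (orderOf_dvd_of_pow_eq_one hs)) hd)
    rw [hab, map_mul, ha1, one_mul]
  haveI : Fintype (SW (P : Subgroup X)) := Fintype.ofFinite _
  haveI : Fintype (SE (P : Subgroup X)) := Fintype.ofFinite _
  letI : Module (ZMod 2) (SE (P : Subgroup X)) :=
    AddCommGroup.zmodModule fun e => by rw [two_nsmul]; exact hsp.quad.two_E e
  have hE : 2 ≤ Nat.card (SE (P : Subgroup X)) := le_trans (by norm_num) h4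
  have hZsol : Group.IsSolvable Z := by
    haveI : IsMulCommutative Z := IsMulCommutative.of_comm fun a b => Subtype.ext
      (Subgroup.mem_center_iff.1 (hZc b.2) a)
    infer_instance
  suffices hsol : Group.IsSolvable (X ⧸ Z) by
    haveI := hsol
    exact Group.isSolvable_of_ker_le_range Z.subtype (QuotientGroup.mk' Z)
      (by rw [QuotientGroup.ker_mk', Subgroup.range_subtype])
  rcases hsp.quad.dichotomy hE hF1 hF with ⟨hF', -⟩ | ⟨-, hW2, -⟩
  · refine isSolvable_of_abelian_sylow W fun g hg hgo v hv _ => ?_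
    obtain ⟨b, rfl, -⟩ := hodd g hgo
    obtain ⟨x, hx, rfl⟩ := hv
    have h1 : Special.wmap (ψ ⟨b, hlift b hg⟩) (cls ⟨x, hx⟩) = cls ⟨x, hx⟩ := by
      by_cases h0 : hsp.q (cls ⟨x, hx⟩) = 0
      · rw [(hsp.quad.zero_iff _).1 h0, map_zero]
      · exact congrArg Subtype.val ((Nat.card_eq_one_iff_unique.1 ((hF _ h0).trans hF')).1.elim
          ⟨_, hqinv ⟨b, hlift b hg⟩ _⟩ ⟨_, rfl⟩)
    rw [Special.wmap_cls, hclsπ, hψ] at h1
    simp only [map_mul, map_inv] at h1
    exact mul_inv_eq_iff_eq_mul.1 h1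
  refine isSolvable_of_elementary_sylow W hWsq ?_ ?_ ?_
  · rw [hWcard, hW2]
    calc 2 ^ 3 ≤ 4 ^ 2 := by norm_num
      _ ≤ _ := Nat.pow_le_pow_left h4 2
  · intro g hg hgo s hs hs1 hcomm v hv
    obtain ⟨b, rfl, hbo⟩ := hodd g hgo
    obtain ⟨x, hx, rfl⟩ := hs
    obtain ⟨y, hy, rfl⟩ := hv
    set a := ψ ⟨b, hlift b hg⟩ with ha
    have hr : ∀ w, (⇑(Special.wmap a))^[orderOf b] w = w := fun w => by
      rw [← Special.wmap_pow, ha, ← map_pow]
      have : (⟨b, hlift b hg⟩ : (Subgroup.normalizer ((P : Subgroup X) : Set X) : Subgroup X)) ^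
          orderOf b = 1 := Subtype.ext (pow_orderOf_eq_one b)
      rw [this, map_one, Special.wmap_one]
    have hfx : Special.wmap a (cls ⟨x, hx⟩) = cls ⟨x, hx⟩ := by
      rw [Special.wmap_cls, hclsπ, ha, hψ]
      simp only [map_mul, map_inv]
      exact mul_inv_eq_iff_eq_mul.2 hcomm
    have h2 := hsp.quad.semiregular hE hF1 hF (Special.wmap a) hbo hr (hqinv _)
      (fun hh => hs1 ((hπ1 ⟨x, hx⟩).1 hh)) hfx (cls ⟨y, hy⟩)
    rw [Special.wmap_cls, hclsπ, ha, hψ] at h2
    simp only [map_mul, map_inv] at h2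
    exact mul_inv_eq_iff_eq_mul.1 h2
  · obtain ⟨e, e', he, he', hee⟩ : ∃ e e' : SE (P : Subgroup X), e ≠ 0 ∧ e' ≠ 0 ∧ e ≠ e' := by
      have h1 : 1 < (Finset.univ.erase (0 : SE (P : Subgroup X))).card := by
        rw [Finset.card_erase_of_mem (Finset.mem_univ _), Finset.card_univ,
          ← Nat.card_eq_fintype_card]
        have : 4 ≤ Nat.card (SE (P : Subgroup X)) := h4
        omega
      obtain ⟨e, he, e', he', hne⟩ := Finset.one_lt_card.1 h1
      exact ⟨e, e', Finset.ne_of_mem_erase he, Finset.ne_of_mem_erase he', hne⟩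
    have hex : ∀ e : SE (P : Subgroup X), e ≠ 0 → ∃ x : (P : Subgroup X), hsp.q (cls x) = e := by
      intro e he
      obtain ⟨⟨w, hw⟩⟩ := (Nat.card_pos_iff.1 (show 0 < Nat.card _ by rw [hF e he]; exact hF1)).1
      obtain ⟨x, rfl⟩ := cls_surjective w
      exact ⟨x, hw⟩
    obtain ⟨x, hx⟩ := hex e he
    obtain ⟨x', hx'⟩ := hex e' he'
    have hne : ∀ (y : (P : Subgroup X)) {e}, hsp.q (cls y) = e → e ≠ 0 → π (y : X) ≠ 1 := by
      intro y e hy he hh
      exact he (by rw [← hy, (hπ1 y).2 hh, hsp.quad.map_zero])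
    refine ⟨π x, (hWmem _).2 x.2, π x', (hWmem _).2 x'.2, hne x hx he, hne x' hx' he',
      fun g hg hgx => hee ?_⟩
    obtain ⟨b, rfl⟩ := hπs g
    rw [← map_inv, ← map_mul, ← map_mul] at hgx
    have h3 : Special.wmap (ψ ⟨b, hlift b hg⟩) (cls x) = cls x' :=
      (hclsπ _ _).2 hgx
    rw [← hx, ← hx', ← h3, hqinv]

end Cfsg.Agent.H45.Pyramidal
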