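import Cfsg.Agent.S0144
import Cfsg.Agent.H45.Mersenne.Main
import Cfsg.Agent.H45.Pyramidal.NoFull
import Cfsg.Agent.H45.Pyramidal.SpecialSylow

/-!
A group whose involutions form a transitively acted elementary abelian normal subgroup of Mersenne
prime order plus one is solvable.
-/

set_option autoImplicit false
set_option linter.style.haveILetI false

namespace Cfsg.Agent.H45.Pyramidal

open Module
open scoped IsMulCommutative

universe u

/-- A group of prime-power-cycle permutations: transitive on a prime number of points implies a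
single element is transitive. -/
theorem exists_transitive_element {N Ω : Type*} [Group N] [Finite Ω] (φ : N →* Equiv.Perm Ω)
    (hp : (Nat.card Ω).Prime) (htr : ∀ a b : Ω, ∃ g : N, φ g a = b) :
    ∃ σ : N, ∀ a b : Ω, ∃ i : ℤ, φ (σ ^ i) a = b := by
  classical
  haveI : Fintype Ω := Fintype.ofFinite Ω
  set p := Nat.card Ω with hpdef
  haveI : Fact p.Prime := ⟨hp⟩
  obtain ⟨a0⟩ : Nonempty Ω := (Nat.card_pos_iff.1 hp.pos).1
  have hdvd : p ∣ Nat.card φ.range := by
    haveI : MulAction.IsPretransitive φ.range Ω :=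
      ⟨fun a b => (htr a b).elim fun g hg => ⟨⟨φ g, g, rfl⟩, hg⟩⟩
    have h1 := Subgroup.index_mul_card (MulAction.stabilizer φ.range a0)
    rw [MulAction.index_stabilizer_of_transitive] at h1
    exact ⟨_, h1.symm⟩
  obtain ⟨⟨c, σ, rfl⟩, hc⟩ := exists_prime_orderOf_dvd_card' p hdvd
  replace hc : orderOf (φ σ) = p :=
    (orderOf_injective φ.range.subtype φ.range.subtype_injective ⟨φ σ, σ, rfl⟩).trans hc
  have hcyc : (φ σ).IsCycle := Equiv.Perm.isCycle_of_prime_order'' (by
    rw [← Nat.card_eq_fintype_card]; exact hp) (by rw [hc, hpdef, Nat.card_eq_fintype_card])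
  have hsupp : (φ σ).support = Finset.univ := Finset.eq_univ_of_card _ (by
    rw [← hcyc.orderOf, hc, hpdef, Nat.card_eq_fintype_card])
  refine ⟨σ, fun a b => ?_⟩
  obtain ⟨i, hi⟩ := hcyc.exists_zpow_eq
    (Equiv.Perm.mem_support.1 (hsupp ▸ Finset.mem_univ a))
    (Equiv.Perm.mem_support.1 (hsupp ▸ Finset.mem_univ b))
  exact ⟨i, by rw [map_zpow, hi]⟩

/-- The centraliser part: a normal subgroup of involutions that are central and transitively
permuted by an overgroup gives a solvable group. -/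
theorem isSolvable_centraliser {H : Type u} [Group H] [Finite H] (X : Subgroup H) [X.Normal]
    (hc : ∀ x : H, x * x = 1 → x ∈ X ∧ ∀ y ∈ X, y * x = x * y)
    (hp : (Nat.card {x : H // x ≠ 1 ∧ x * x = 1}).Prime)
    (htr : ∀ a b : H, a ≠ 1 → a * a = 1 → b ≠ 1 → b * b = 1 → ∃ h : H, h * a * h⁻¹ = b) :
    Group.IsSolvable X := by
  classical
  haveI : Fact (Nat.Prime 2) := ⟨Nat.prime_two⟩
  obtain ⟨P⟩ : Nonempty (Sylow 2 X) := inferInstance
  have hcen : ∀ x : X, x * x = 1 → x ∈ Subgroup.center X := fun x hx =>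
    Subgroup.mem_center_iff.2 fun y => Subtype.ext ((hc _ (congrArg Subtype.val hx)).2 _ y.2)
  have hinP : ∀ x : X, x * x = 1 → x ∈ (P : Subgroup X) := fun x hx =>
    mem_sylow_of_normalize P (Subgroup.mem_normalizer_iff.2 fun y => by
      rw [← Subgroup.mem_center_iff.1 (hcen x hx) y, mul_inv_cancel_right]) ⟨1, by rw [pow_one, sq, hx]⟩
  by_cases hab : ∀ a b : (P : Subgroup X), a * b = b * a
  · haveI : IsMulCommutative (P : Subgroup X) := IsMulCommutative.of_comm hab
    exact isSolvable_of_abelian_sylow P fun b _ _ v _ hv =>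
      Subgroup.mem_center_iff.1 (hcen v hv) b
  set S : Subgroup H := (P : Subgroup X).map X.subtype with hS
  have hSmem : ∀ x : H, x ∈ S ↔ ∃ h : x ∈ X, (⟨x, h⟩ : X) ∈ (P : Subgroup X) := by
    intro x
    constructor
    · rintro ⟨y, hy, rfl⟩; exact ⟨y.2, hy⟩
    · rintro ⟨h, hh⟩; exact ⟨⟨x, h⟩, hh, rfl⟩
  set N := Subgroup.normalizer (S : Set H) with hN
  have hfrat : N ⊔ X = ⊤ := Sylow.normalizer_sup_eq_top P
  let Ω := {x : H // x ≠ 1 ∧ x * x = 1}
  let φ : N →* Equiv.Perm Ω :=
    { toFun := fun g => (MulAut.conj (g : H)).toEquiv.subtypeEquiv fun x => by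
        show x ≠ 1 ∧ x * x = 1 ↔ MulAut.conj (g : H) x ≠ 1 ∧ MulAut.conj (g : H) x * MulAut.conj (g : H) x = 1
        rw [← map_mul, EmbeddingLike.map_eq_one_iff, ne_eq, ne_eq, EmbeddingLike.map_eq_one_iff]
      map_one' := Equiv.ext fun x => Subtype.ext (by simp)
      map_mul' := fun a b => Equiv.ext fun x => Subtype.ext (by simp [mul_assoc]) }
  obtain ⟨σ, hσ⟩ := exists_transitive_element φ hp fun a b => by
    obtain ⟨h, hh⟩ := htr a b a.2.1 a.2.2 b.2.1 b.2.2
    have h1 : h ∈ ((N ⊔ X : Subgroup H) : Set H) := by rw [hfrat]; trivial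
    rw [Subgroup.mul_normal] at h1
    obtain ⟨n, hn, y, hy, rfl⟩ := h1
    refine ⟨⟨n, hn⟩, Subtype.ext ?_⟩
    show n * (a : H) * n⁻¹ = b
    rw [← hh]
    have h2 := (hc _ a.2.2).2 y hy
    calc n * (a : H) * n⁻¹ = n * ((a : H) * y) * y⁻¹ * n⁻¹ := by group
      _ = n * (y * (a : H)) * y⁻¹ * n⁻¹ := by rw [h2]
      _ = _ := by group
  let e : S ≃* (P : Subgroup X) :=
    ((P : Subgroup X).equivMapOfInjective X.subtype X.subtype_injective).symm
  let τ : MulAut (P : Subgroup X) := e.symm.trans ((S.normalizerMonoidHom σ).trans e)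
  have heval : ∀ x : S, (((e x : (P : Subgroup X)) : X) : H) = (x : H) := fun x => by
    have h1 := congrArg Subtype.val
      (((P : Subgroup X).equivMapOfInjective X.subtype X.subtype_injective).apply_symm_apply x)
    exact h1
  have heval' : ∀ x : (P : Subgroup X), ((e.symm x : S) : H) = ((x : X) : H) := fun x => rfl
  have hτ : ∀ (i : ℤ) (x : (P : Subgroup X)),
      ((((τ ^ i) x : (P : Subgroup X)) : X) : H) =
        ((σ : H) ^ i) * ((x : X) : H) * ((σ : H) ^ i)⁻¹ := by
    intro i x
    have h1 : τ ^ i = e.symm.trans ((S.normalizerMonoidHom (σ ^ i)).trans e) := by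
      let cj : MulAut S →* MulAut (P : Subgroup X) :=
        { toFun := fun f => e.symm.trans (f.trans e)
          map_one' := MulEquiv.ext fun y => e.apply_symm_apply y
          map_mul' := fun f g => MulEquiv.ext fun y => by
            show e (f (g (e.symm y))) = e (f (e.symm (e (g (e.symm y)))))
            rw [e.symm_apply_apply] }
      show cj (S.normalizerMonoidHom σ) ^ i = cj (S.normalizerMonoidHom (σ ^ i))
      rw [map_zpow, map_zpow]
    rw [h1]
    show (((e (S.normalizerMonoidHom (σ ^ i) (e.symm x)) : (P : Subgroup X)) : X) : H) = _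
    rw [heval]
    show ((σ ^ i : N) : H) * ((e.symm x : S) : H) * ((σ ^ i : N) : H)⁻¹ = _
    rw [heval', Subgroup.coe_zpow]
  have hΩ : ∀ x : (P : Subgroup X), x ≠ 1 → x * x = 1 →
      (((x : X) : H)) ≠ 1 ∧ (((x : X) : H)) * ((x : X) : H) = 1 := fun x h1 h2 =>
    ⟨fun hh => h1 (Subtype.ext (Subtype.ext hh)),
      congrArg Subtype.val (congrArg Subtype.val h2)⟩
  have htrP : ∀ x y : (P : Subgroup X), x ≠ 1 → x * x = 1 → y ≠ 1 → y * y = 1 →
      ∃ a ∈ Subgroup.zpowers τ, a x = y := by
    intro x y h1 h2 h3 h4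
    obtain ⟨i, hi⟩ := hσ ⟨_, hΩ x h1 h2⟩ ⟨_, hΩ y h3 h4⟩
    refine ⟨τ ^ i, Subgroup.zpow_mem _ (Subgroup.mem_zpowers _) i, Subtype.ext (Subtype.ext ?_)⟩
    rw [hτ, ← congrArg Subtype.val hi, ← Subgroup.coe_zpow]
    rfl
  obtain ⟨a, b, hne⟩ : ∃ a b : Ω, a ≠ b := by
    haveI := Finite.one_lt_card_iff_nontrivial.1 hp.one_lt
    exact exists_pair_ne Ω
  let emb : Ω → (P : Subgroup X) := fun t =>
    ⟨⟨(t : H), (hc _ t.2.2).1⟩, hinP _ (Subtype.ext t.2.2)⟩
  have hemb : ∀ t, emb t ≠ 1 ∧ emb t * emb t = 1 := fun t =>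
    ⟨fun hh => t.2.1 (congrArg (fun z : (P : Subgroup X) => ((z : X) : H)) hh),
      Subtype.ext (Subtype.ext t.2.2)⟩
  have hsp : Special (P : Subgroup X) := special_of_transitive P.isPGroup' hab
    ⟨emb a, emb b, fun hh => hne (Subtype.ext (congrArg (fun z : (P : Subgroup X) => ((z : X) : H)) hh)),
      (hemb a).1, (hemb a).2, (hemb b).1, (hemb b).2⟩ _ inferInstance htrP
  obtain ⟨F, hF1, hF⟩ := hsp.fibres fun x y h1 h2 h3 h4 =>
    (htrP x y h1 h2 h3 h4).elim fun c hc' => ⟨c, hc'.2⟩
  refine isSolvable_of_special P hsp hcen hF1 hF ?_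
  haveI : Fintype (Subgroup.center (P : Subgroup X)) := Fintype.ofFinite _
  let za : Subgroup.center (P : Subgroup X) := ⟨emb a, (hsp.mem_iff _).2 (hemb a).2⟩
  let zb : Subgroup.center (P : Subgroup X) := ⟨emb b, (hsp.mem_iff _).2 (hemb b).2⟩
  have hza : za ≠ 1 := fun hh => (hemb a).1 (congrArg Subtype.val hh)
  have hzb : zb ≠ 1 := fun hh => (hemb b).1 (congrArg Subtype.val hh)
  have hzab : za ≠ zb := fun hh => hne (Subtype.ext
    (congrArg (fun z : Subgroup.center (P : Subgroup X) => (((z : (P : Subgroup X)) : X) : H)) hh))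
  have hza2 : za * za = 1 := Subtype.ext (hemb a).2
  have h5 : ({1, za, zb, za * zb} : Finset _).card = 4 := by
    rw [Finset.card_insert_of_notMem, Finset.card_insert_of_notMem, Finset.card_pair]
    · exact fun hh => hza (mul_eq_right.1 hh.symm)
    · simp only [Finset.mem_insert, Finset.mem_singleton, not_or]
      exact ⟨hzab, fun hh => hzb (left_eq_mul.1 hh)⟩
    · simp only [Finset.mem_insert, Finset.mem_singleton, not_or]
      exact ⟨hza.symm, hzb.symm, fun hh => hzab ((mul_eq_one_iff_eq_inv.1 hh.symm).trans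
        (inv_eq_of_mul_eq_one_left (Subtype.ext (hemb b).2)))⟩
  rw [Nat.card_eq_fintype_card, ← h5]
  exact Finset.card_le_univ _

/-- The image part and the conclusion. -/
theorem isSolvable_of_normal_module {H : Type u} [Group H] [Finite H] (E : Subgroup H) [E.Normal]
    [IsMulCommutative E] (hexp : ∀ x ∈ E, x * x = 1) (hinv : ∀ x : H, x * x = 1 → x ∈ E)
    {n : ℕ} (hn2 : 2 ≤ n) (hn : Nat.card E = 2 ^ n) (hp : (2 ^ n - 1).Prime)
    (htr : ∀ a b : H, a ≠ 1 → a * a = 1 → b ≠ 1 → b * b = 1 → ∃ h : H, h * a * h⁻¹ = b) :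
    Group.IsSolvable H := by
  classical
  letI : Module (ZMod 2) (Additive E) := AddCommGroup.zmodModule fun v => by
    rw [two_nsmul]
    exact congrArg Additive.ofMul (Subtype.ext (hexp _ v.toMul.2) : v.toMul * v.toMul = 1)
  have hfin : finrank (ZMod 2) (Additive E) = n := by
    have h1 := Module.natCard_eq_pow_finrank (K := ZMod 2) (V := Additive E)
    rw [Nat.card_zmod, show Nat.card (Additive E) = Nat.card E from rfl, hn] at h1
    exact (Nat.pow_right_injective le_rfl h1).symm
  let mk : H → (Additive E ≃ₗ[ZMod 2] Additive E) := fun h =>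
    (MulEquiv.toAdditive (MulAut.conjNormal h : MulAut E)).toLinearEquiv
      (fun c v => ZMod.map_smul _ c v)
  let π : H →* (Additive E ≃ₗ[ZMod 2] Additive E) :=
    { toFun := mk
      map_one' := LinearEquiv.ext fun v => congrArg Additive.ofMul
        (by simp : (MulAut.conjNormal (1 : H) : MulAut E) v.toMul = v.toMul)
      map_mul' := fun a b => LinearEquiv.ext fun v => congrArg Additive.ofMul
        (by simp [map_mul] : (MulAut.conjNormal (a * b) : MulAut E) v.toMul =
          MulAut.conjNormal a ((MulAut.conjNormal b : MulAut E) v.toMul)) }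
  have hπ : ∀ h v, ((π h v).toMul : H) = h * (v.toMul : H) * h⁻¹ := fun _ _ => rfl
  have hXc : ∀ x : H, x * x = 1 → x ∈ π.ker ∧ ∀ y ∈ π.ker, y * x = x * y := by
    intro x hx
    refine ⟨MonoidHom.mem_ker.2 (LinearEquiv.ext fun v => Additive.toMul.injective (Subtype.ext ?_)),
      fun y hy => ?_⟩
    · rw [hπ]
      have h1 : x * (v.toMul : H) = (v.toMul : H) * x :=
        congrArg Subtype.val (mul_comm (⟨x, hinv x hx⟩ : E) v.toMul)
      rw [h1, mul_inv_cancel_right]
      rfl
    · have h1 := hπ y (Additive.ofMul ⟨x, hinv x hx⟩)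
      rw [MonoidHom.mem_ker.1 hy] at h1
      exact (mul_inv_eq_iff_eq_mul.1 h1.symm)
  have hcardΩ : Nat.card {x : H // x ≠ 1 ∧ x * x = 1} = 2 ^ n - 1 := by
    have h1 : Nat.card {x : H // x ≠ 1 ∧ x * x = 1} = Nat.card {v : E // v ≠ 1} :=
      Nat.card_congr
        { toFun := fun x => ⟨⟨x.1, hinv _ x.2.2⟩, fun hh => x.2.1 (congrArg Subtype.val hh)⟩
          invFun := fun v => ⟨v.1.1, fun hh => v.2 (Subtype.ext hh), hexp _ v.1.2⟩
          left_inv := fun x => rfl
          right_inv := fun v => rfl }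
    haveI : Fintype E := Fintype.ofFinite _
    rw [h1, Nat.card_eq_fintype_card, Fintype.card_subtype_compl, Fintype.card_subtype_eq,
      ← Nat.card_eq_fintype_card, hn]
  haveI : Group.IsSolvable π.ker := isSolvable_centraliser π.ker hXc (by rw [hcardΩ]; exact hp) htr
  suffices hA : Group.IsSolvable π.range by
    exact Group.isSolvable_of_ker_le_range π.ker.subtype π.rangeRestrict
      (by rw [MonoidHom.ker_rangeRestrict, Subgroup.range_subtype])
  have htrA : ∀ v w : Additive E, v ≠ 0 → w ≠ 0 → ∃ g ∈ π.range, g v = w := by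
    intro v w hv hw
    obtain ⟨h, hh⟩ := htr (v.toMul : H) (w.toMul : H)
      (fun e => hv (congrArg Additive.ofMul (Subtype.ext e : v.toMul = 1))) (hexp _ v.toMul.2)
      (fun e => hw (congrArg Additive.ofMul (Subtype.ext e : w.toMul = 1))) (hexp _ w.toMul.2)
    exact ⟨π h, ⟨h, rfl⟩, Additive.toMul.injective (Subtype.ext ((hπ h v).trans hh))⟩
  haveI : Finite (Additive E ≃ₗ[ZMod 2] Additive E) :=
    Finite.of_injective (fun g => (g : Additive E → Additive E)) DFunLike.coe_injective
  rcases (Mersenne.transitive_iff hfin hp π.range).1 htrA with ⟨hcyc, -⟩ | h2 | h3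
  · haveI := hcyc
    letI := IsCyclic.commGroup (α := π.range)
    infer_instance
  · obtain ⟨hcard, C, hC, hCn, hCc, hCcard⟩ := h2
    haveI := hCn
    haveI : IsCyclic (C.subgroupOf π.range) :=
      isCyclic_of_surjective (Subgroup.subgroupOfEquivOfLe hC).symm.toMonoidHom
        (Subgroup.subgroupOfEquivOfLe hC).symm.surjective
    have hq : Nat.card (π.range ⧸ C.subgroupOf π.range) = n := by
      have h4 := Subgroup.card_eq_card_quotient_mul_card_subgroup (C.subgroupOf π.range)
      rw [Nat.card_congr (Subgroup.subgroupOfEquivOfLe hC).toEquiv, hCcard, hcard] at h4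
      exact (Nat.eq_of_mul_eq_mul_right (by have := hp.pos; omega) h4).symm
    haveI : Fact n.Prime := ⟨(Nat.prime_of_pow_sub_one_prime (by omega) hp).2⟩
    haveI : IsCyclic (π.range ⧸ C.subgroupOf π.range) := isCyclic_of_prime_card hq
    haveI : Group.IsSolvable (C.subgroupOf π.range) := by
      letI := IsCyclic.commGroup (α := C.subgroupOf π.range)
      infer_instance
    haveI : Group.IsSolvable (π.range ⧸ C.subgroupOf π.range) := by
      letI := IsCyclic.commGroup (α := π.range ⧸ C.subgroupOf π.range)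
      infer_instance
    exact Group.isSolvable_of_ker_le_range (C.subgroupOf π.range).subtype
      (QuotientGroup.mk' (C.subgroupOf π.range))
      (by rw [QuotientGroup.ker_mk', Subgroup.range_subtype])
  · rcases Nat.lt_or_ge n 3 with hn3 | hn3
    · -- the linear group of a plane
      let P2 := {v : Additive E // v ≠ 0}
      let f : π.range →* Equiv.Perm P2 :=
        { toFun := fun g => (g.1.toEquiv.subtypeEquiv fun v => (g.1.map_ne_zero_iff).symm)
          map_one' := Equiv.ext fun v => rfl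
          map_mul' := fun a b => Equiv.ext fun v => rfl }
      have hf : Function.Injective f := fun a b hab => Subtype.ext (LinearEquiv.ext fun v => by
        by_cases hv : v = 0
        · rw [hv, map_zero, map_zero]
        · exact congrArg Subtype.val (DFunLike.congr_fun hab ⟨v, hv⟩))
      have hc3 : Nat.card P2 = 3 := by
        haveI : Fintype (Additive E) := Fintype.ofFinite _
        rw [Nat.card_eq_fintype_card, Fintype.card_subtype_compl, Fintype.card_subtype_eq,
          ← Nat.card_eq_fintype_card, show Nat.card (Additive E) = Nat.card E from rfl, hn,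
          show n = 2 by omega]
        norm_num
      have hdvd : Nat.card π.range ∣ 6 := by
        have h4 := Subgroup.card_dvd_of_injective f hf
        rwa [Nat.card_perm, hc3] at h4
      have h6 : Nat.card π.range ≤ 6 := Nat.le_of_dvd (by norm_num) hdvd
      obtain ⟨a, b, hab⟩ : ∃ a b, Nat.card π.range = 2 ^ a * 3 ^ b := by
        have h7 := Nat.card_pos (α := π.range)
        interval_cases h8 : Nat.card π.range
        · exact ⟨0, 0, rfl⟩
        · exact ⟨1, 0, rfl⟩
        · exact ⟨0, 1, rfl⟩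
        · exact ⟨2, 0, rfl⟩
        · omega
        · exact ⟨1, 1, rfl⟩
      exact Cfsg.Agent.S0144.result 2 3 a b Nat.prime_two Nat.prime_three hab
    · exfalso
      have hnp : n.Prime := (Nat.prime_of_pow_sub_one_prime (by omega) hp).2
      obtain ⟨j, hj⟩ : ∃ j, n = 2 * j + 3 := by
        obtain ⟨i, hi⟩ := hnp.odd_of_ne_two (by omega)
        exact ⟨i - 1, by omega⟩
      refine GExt.false_of_odd (π := π) (ι := fun v => ((Additive.toMul v : E) : H))
        ⟨?_, fun _ _ => rfl, fun a b hab => Additive.toMul.injective (Subtype.ext hab),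
          fun k v => (hπ k v).symm, fun x hx => ⟨Additive.ofMul ⟨x, hinv x hx⟩, rfl⟩⟩
        (j := j) (by rw [hfin, hj])
      rw [← MonoidHom.range_eq_top]
      exact h3

end Cfsg.Agent.H45.Pyramidal
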