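import Cfsg.Agent.S0144
import Cfsg.Agent.H45.Pyramidal.Abelian

/-!
Groups whose involutions are congruent modulo the core.
-/

set_option autoImplicit false
set_option linter.style.haveILetI false

namespace Cfsg.Agent.H45.Pyramidal

open scoped commutatorElement IsMulCommutative

universe u

/-- An element inverted by an involution `t` gives a conjugate of `t`. -/
theorem exists_conj_of_inverted {G : Type*} [Group G] {t v : G} (ht : t * t = 1)
    (hv : t * v * t = v⁻¹) (hodd : Odd (orderOf v)) :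
    ∃ w ∈ Subgroup.zpowers v, w * t * w⁻¹ = v * t := by
  obtain ⟨i, hi⟩ := hodd
  refine ⟨v ^ (i + 1), Subgroup.npow_mem_zpowers v _, ?_⟩
  have hti : t⁻¹ = t := inv_eq_of_mul_eq_one_left ht
  have hconj : t * (v ^ (i + 1))⁻¹ = v ^ (i + 1) * t := by
    have h1 : t * v ^ (i + 1) * t⁻¹ = (v ^ (i + 1))⁻¹ := by
      rw [← conj_pow, hti, hv, inv_pow]
    rw [← h1, hti]
    calc t * (t * v ^ (i + 1) * t) = (t * t) * (v ^ (i + 1) * t) := by group
      _ = _ := by rw [ht, one_mul]
  have h2 : v ^ (2 * i + 1) = 1 := by rw [← hi, pow_orderOf_eq_one]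
  rw [mul_assoc, hconj, ← mul_assoc, ← pow_add, show i + 1 + (i + 1) = 2 * i + 1 + 1 by ring,
    pow_succ, h2, one_mul]

/-- Two linear maps commuting up to sign, both invertible, live in even dimension. -/
theorem even_finrank_of_anticommute {R V : Type*} [Field R] [AddCommGroup V] [Module R V]
    (hR : (-1 : R) ≠ 1) (A B : V ≃ₗ[R] V) (h : ∀ v, A (B v) = -(B (A v))) :
    Even (Module.finrank R V) := by
  have h1 : (A.toLinearMap).comp B.toLinearMap =
      (-1 : R) • (B.toLinearMap).comp A.toLinearMap := by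
    ext v
    simpa using h v
  have h2 := congrArg LinearMap.det h1
  rw [LinearMap.det_comp, LinearMap.det_smul, LinearMap.det_comp,
    mul_comm (LinearMap.det B.toLinearMap)] at h2
  have hA := A.isUnit_det'.mul B.isUnit_det'
  have h3 : ((-1 : R)) ^ Module.finrank R V = 1 :=
    mul_right_cancel₀ hA.ne_zero (h2.symm.trans (one_mul _).symm)
  rw [← Nat.not_odd_iff_even]
  intro hd
  rw [hd.neg_one_pow] at h3
  exact hR h3

theorem finrank_eq_of_card {q d : ℕ} [Fact q.Prime] {V : Type*} [AddCommGroup V]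
    [Module (ZMod q) V] [Finite V] (hV : Nat.card V = q ^ d) :
    Module.finrank (ZMod q) V = d := by
  have h1 := Module.natCard_eq_pow_finrank (K := ZMod q) (V := V)
  rw [Nat.card_zmod, hV] at h1
  exact (Nat.pow_right_injective (Fact.out (p := q.Prime)).two_le h1).symm

/-- Two automorphisms with commutator inversion act on an even dimensional space. -/
theorem even_of_commutator_neg {q d : ℕ} [hqp : Fact q.Prime] (hq : q ≠ 2) {V : Type*}
    [AddCommGroup V] [Finite V] (hV : Nat.card V = q ^ d) (hexp : ∀ v : V, q • v = 0)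
    (A B : V ≃+ V) (h : ∀ v, A (B v) = -(B (A v))) : Even d := by
  let inst : Module (ZMod q) V := AddCommGroup.zmodModule hexp
  haveI : Fact (2 < q) := ⟨lt_of_le_of_ne hqp.out.two_le (Ne.symm hq)⟩
  rw [← @finrank_eq_of_card q d hqp V _ inst _ hV]
  exact @even_finrank_of_anticommute (ZMod q) V _ _ inst ZMod.neg_one_ne_one
    (A.toLinearEquiv fun c v => ZMod.map_smul A c v) (B.toLinearEquiv fun c v => ZMod.map_smul B c v) h

/-- A pair of commuting-with-`t` elements with commutator `t` makes the class size an even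
power. -/
theorem even_exponent_of_pair {p : ℕ} (hp : p.Prime) :
    ∀ (m : ℕ) (G : Type u) [Group G] [Finite G], Nat.card G ≤ m →
      ∀ (N : Subgroup G), N.Normal → Odd (Nat.card N) → ∀ t a b : G, t ≠ 1 → t * t = 1 →
      a * t = t * a → b * t = t * b → a * b * a⁻¹ * b⁻¹ = t →
      ∀ k, Nat.card {x : G // ∃ n ∈ N, n * t * n⁻¹ = x} = p ^ k → Even k := by
  intro m
  induction m with
  | zero =>
    intro G _ _ hm
    have := Nat.card_pos (α := G)
    omega
  | succ m ih =>
    intro G _ _ hm N hN hNodd t a b ht1 ht hat hbt hab k hk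
    classical
    haveI := hN
    by_cases hbot : N = ⊥
    · have h1 : Nat.card {x : G // ∃ n ∈ N, n * t * n⁻¹ = x} = 1 := by
        refine Nat.card_eq_one_iff_unique.2 ⟨⟨?_⟩, ⟨⟨t, 1, N.one_mem, by group⟩⟩⟩
        rintro ⟨x, n, hn, rfl⟩ ⟨y, n', hn', rfl⟩
        rw [hbot, Subgroup.mem_bot] at hn hn'
        subst hn; subst hn'
        rfl
      rw [h1, eq_comm] at hk
      rcases Nat.pow_eq_one.1 hk with h | h
      · exact absurd h hp.one_lt.ne'
      · rw [h]; exact ⟨0, rfl⟩
    haveI hNs : Group.IsSolvable N := Cfsg.Agent.S0205.result hNodd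
    haveI : Nontrivial N := N.nontrivial_iff_ne_bot.2 hbot
    -- an elementary abelian normal subgroup inside `N`
    obtain ⟨n0, hn0⟩ := hNs.solvable
    obtain ⟨A0, hA0c, hA0ne, hA0ab⟩ : ∃ A : Subgroup N, A.Characteristic ∧ A ≠ ⊥ ∧
        IsMulCommutative A := by
      obtain ⟨i, hi, hi1⟩ : ∃ i, derivedSeries N i ≠ ⊥ ∧ derivedSeries N (i + 1) = ⊥ := by
        have hex : ∃ i, derivedSeries N i = ⊥ := ⟨n0, hn0⟩
        have h0 : Nat.find hex ≠ 0 := fun h => by
          have := Nat.find_spec hex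
          rw [h, derivedSeries_zero] at this
          exact top_ne_bot this
        refine ⟨Nat.find hex - 1, Nat.find_min hex (by omega), ?_⟩
        rw [show Nat.find hex - 1 + 1 = Nat.find hex by omega]
        exact Nat.find_spec hex
      refine ⟨_, derivedSeries_characteristic N i, hi, IsMulCommutative.of_comm fun x y => ?_⟩
      have h1 : ⁅(x : N), (y : N)⁆ ∈ derivedSeries N (i + 1) := by
        rw [derivedSeries_succ]
        exact Subgroup.commutator_mem_commutator x.2 y.2
      rw [hi1, Subgroup.mem_bot, commutatorElement_eq_one_iff_mul_comm] at h1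
      exact Subtype.ext h1
    set A : Subgroup G := A0.map N.subtype with hA
    have hAn : A.Normal := inferInstance
    have hAN : A ≤ N := Subgroup.map_subtype_le A0
    have hAc : ∀ x ∈ A, ∀ y ∈ A, x * y = y * x := by
      rintro _ ⟨x, hx, rfl⟩ _ ⟨y, hy, rfl⟩
      exact congrArg (fun z : A0 => ((z : N) : G)) (hA0ab.is_comm.comm ⟨x, hx⟩ ⟨y, hy⟩)
    have hAcard : Nat.card A ≠ 1 := by
      rw [hA, Subgroup.card_map_of_injective N.subtype_injective]
      exact fun hh => hA0ne (Subgroup.card_eq_one.1 hh)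
    obtain ⟨q, hq, hqA⟩ := Nat.exists_prime_and_dvd hAcard
    haveI : Fact q.Prime := ⟨hq⟩
    let V : Subgroup G :=
      { carrier := {v | v ∈ A ∧ v ^ q = 1}
        one_mem' := ⟨A.one_mem, one_pow q⟩
        mul_mem' := fun {x y} hx hy => ⟨A.mul_mem hx.1 hy.1, by
          rw [(Commute.mul_pow (hAc x hx.1 y hy.1)), hx.2, hy.2, one_mul]⟩
        inv_mem' := fun {x} hx => ⟨A.inv_mem hx.1, by rw [inv_pow, hx.2, inv_one]⟩ }
    have hVn : V.Normal := ⟨fun v hv g => ⟨hAn.conj_mem v hv.1 g, by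
      rw [conj_pow, hv.2, mul_one, mul_inv_cancel]⟩⟩
    haveI := hVn
    have hVN : V ≤ N := fun v hv => hAN hv.1
    have hVne : V ≠ ⊥ := by
      obtain ⟨v, hv⟩ := exists_prime_orderOf_dvd_card' q hqA
      intro hh
      have h1 : (v : G) ∈ V := ⟨v.2, congrArg Subtype.val (hv ▸ pow_orderOf_eq_one v)⟩
      rw [hh, Subgroup.mem_bot] at h1
      rw [show v = 1 from Subtype.ext h1, orderOf_one] at hv
      exact hq.one_lt.ne hv
    have hq2 : q ≠ 2 := by
      rintro rfl
      obtain ⟨i, hi⟩ := hNodd.of_dvd_nat (hqA.trans (Subgroup.card_dvd_of_le hAN))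
      omega
    have hoddV : ∀ v ∈ V, Odd (orderOf v) := fun v hv =>
      hNodd.of_dvd_nat (Subgroup.orderOf_dvd_natCard N (hVN hv))
    have hVc : ∀ x ∈ V, ∀ y ∈ V, x * y = y * x := fun x hx y hy => hAc x hx.1 y hy.1
    -- the inverted part of `V`
    let V1 : Subgroup G :=
      { carrier := {v | v ∈ V ∧ t * v * t = v⁻¹}
        one_mem' := ⟨V.one_mem, by rw [mul_one, ht, inv_one]⟩
        mul_mem' := fun {x y} hx hy => ⟨V.mul_mem hx.1 hy.1, by
          calc t * (x * y) * t = (t * x * t) * (t * y * t) := by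
                rw [show (t * x * t) * (t * y * t) = t * x * (t * t) * y * t by group, ht]
                group
            _ = x⁻¹ * y⁻¹ := by rw [hx.2, hy.2]
            _ = (x * y)⁻¹ := by
              rw [← mul_inv_rev, hVc x hx.1 y hy.1]⟩
        inv_mem' := fun {x} hx => ⟨V.inv_mem hx.1, by
          have h1 : (t * x * t)⁻¹ = t * x⁻¹ * t := by
            rw [mul_inv_rev, mul_inv_rev, inv_eq_of_mul_eq_one_left ht, ← mul_assoc]
          rw [← h1, hx.2]⟩ }
    -- the quotient
    set mk := QuotientGroup.mk' V with hmk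
    have hGV : Nat.card (G ⧸ V) ≤ m := by
      have h1 := Subgroup.card_eq_card_quotient_mul_card_subgroup V
      have h2 : 2 ≤ Nat.card V := (Subgroup.one_lt_card_iff_ne_bot V).2 hVne
      have h3 := Nat.card_pos (α := G ⧸ V)
      have h4 : Nat.card (G ⧸ V) * 2 ≤ Nat.card G := h1 ▸ Nat.mul_le_mul_left _ h2
      omega
    have hNodd' : Odd (Nat.card (N.map mk)) := hNodd.of_dvd_nat (Subgroup.card_map_dvd N mk)
    have htbar : mk t ≠ 1 := fun hh => by
      have h1 : t ∈ N := hVN ((QuotientGroup.eq_one_iff t).1 hh)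
      have h2 : orderOf t ∣ Nat.card N := Subgroup.orderOf_dvd_natCard N h1
      rw [orderOf_eq_prime (by rw [sq, ht]) ht1] at h2
      obtain ⟨i, hi⟩ := hNodd.of_dvd_nat h2
      omega
    -- counting
    let O := {x : G // ∃ n ∈ N, n * t * n⁻¹ = x}
    let O' := {x : G ⧸ V // ∃ n ∈ N.map mk, n * mk t * n⁻¹ = x}
    have hrep : ∀ o : O', ∃ n ∈ N, mk (n * t * n⁻¹) = o.1 := by
      rintro ⟨_, _, ⟨n, hn, rfl⟩, rfl⟩
      exact ⟨n, hn, by rw [map_mul, map_mul, map_inv]⟩
    choose rep hrepN hrep' using hrep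
    let F : O → O' := fun x => ⟨mk x.1, by
      obtain ⟨n, hn, h⟩ := x.2
      exact ⟨mk n, Subgroup.mem_map_of_mem _ hn, by rw [← h, map_mul, map_mul, map_inv]⟩⟩
    let e : O ≃ O' × V1 :=
      { toFun := fun x => (F x, ⟨(rep (F x))⁻¹ * x.1 * rep (F x) * t, by
          have h1 : mk ((rep (F x))⁻¹ * x.1 * rep (F x)) = mk t := by
            have h0 : mk x.1 = mk (rep (F x) * t * (rep (F x))⁻¹) := (hrep' (F x)).symm
            simp only [map_mul, map_inv] at h0 ⊢
            rw [h0]; group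
          set u := (rep (F x))⁻¹ * x.1 * rep (F x) with hu
          refine ⟨(QuotientGroup.eq_one_iff _).1 (show mk (u * t) = 1 by
            rw [map_mul, h1, ← map_mul, ht, map_one]), ?_⟩
          obtain ⟨n, hn, h⟩ := x.2
          have hu2 : u * u = 1 := by
            rw [hu, ← h]
            rw [show (rep (F x))⁻¹ * (n * t * n⁻¹) * rep (F x) *
              ((rep (F x))⁻¹ * (n * t * n⁻¹) * rep (F x)) =
              (rep (F x))⁻¹ * n * (t * t) * n⁻¹ * rep (F x) by group, ht]
            group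
          calc t * (u * t) * t = t * u * (t * t) := by group
            _ = t * u := by rw [ht, mul_one]
            _ = (u * t)⁻¹ := by
              rw [mul_inv_rev, inv_eq_of_mul_eq_one_left ht, inv_eq_of_mul_eq_one_left hu2]⟩)
        invFun := fun p => ⟨rep p.1 * (p.2.1 * t) * (rep p.1)⁻¹, by
          obtain ⟨w, hw, hwt⟩ := exists_conj_of_inverted ht p.2.2.2 (hoddV _ p.2.2.1)
          refine ⟨rep p.1 * w, N.mul_mem (hrepN _)
            (Subgroup.zpowers_le.2 (hVN p.2.2.1) hw), ?_⟩
          rw [← hwt]; group⟩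
        left_inv := fun x => Subtype.ext (by
          show rep (F x) * ((rep (F x))⁻¹ * x.1 * rep (F x) * t * t) * (rep (F x))⁻¹ = x.1
          rw [mul_assoc ((rep (F x))⁻¹ * x.1 * rep (F x)) t t, ht]
          group)
        right_inv := fun p => by
          have hF : ∀ (x : O), mk x.1 = p.1.1 → F x = p.1 := fun x hx => Subtype.ext hx
          have h2 : mk (rep p.1 * (p.2.1 * t) * (rep p.1)⁻¹) = p.1.1 := by
            have h4 := hrep' p.1
            simp only [map_mul, map_inv] at h4 ⊢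
            rw [show mk p.2.1 = 1 from (QuotientGroup.eq_one_iff _).2 p.2.2.1, one_mul, h4]
          refine Prod.ext (hF _ h2) (Subtype.ext ?_)
          show (rep (F _))⁻¹ * (rep p.1 * (p.2.1 * t) * (rep p.1)⁻¹) * rep (F _) * t = p.2.1
          rw [hF _ h2]
          calc _ = p.2.1 * (t * t) := by group
            _ = _ := by rw [ht, mul_one] }
    have hcard : Nat.card O' * Nat.card V1 = p ^ k := by
      rw [← Nat.card_prod, ← Nat.card_congr e, ← hk]
    obtain ⟨j, -, hj⟩ := (Nat.dvd_prime_pow hp).1 (Dvd.intro _ hcard)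
    obtain ⟨i, -, hi⟩ := (Nat.dvd_prime_pow hp).1 (Dvd.intro_left _ hcard)
    have hkij : k = j + i := by
      rw [hj, hi, ← pow_add] at hcard
      exact (Nat.pow_right_injective hp.two_le hcard).symm
    have hje : Even j := by
      refine ih (G ⧸ V) hGV (N.map mk) (Subgroup.Normal.map hN mk (QuotientGroup.mk'_surjective V))
        hNodd' (mk t) (mk a) (mk b) htbar (by rw [← map_mul, ht, map_one]) (by rw [← map_mul, hat, map_mul])
        (by rw [← map_mul, hbt, map_mul]) (by rw [← hab]; simp only [map_mul, map_inv]) j hj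
    have hie : Even i := by
      rcases Nat.eq_zero_or_pos i with h0 | h0
      · rw [h0]; exact ⟨0, rfl⟩
      have hV1q : IsPGroup q V1 := fun x => ⟨1, by
        rw [pow_one]
        exact Subtype.ext (x.2.1.2)⟩
      obtain ⟨d, hd⟩ := IsPGroup.iff_card.1 hV1q
      have hqp : q = p := by
        rw [hi] at hd
        exact ((Nat.prime_dvd_prime_iff_eq hp hq).1 (hp.dvd_of_dvd_pow (n := d)
          (hd ▸ dvd_pow_self p h0.ne'))).symm
      subst hqp
      haveI : IsMulCommutative V1 := IsMulCommutative.of_comm fun x y =>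
        Subtype.ext (hVc _ x.2.1 _ y.2.1)
      have hN1 : ∀ c : G, c * t = t * c → c ∈ Subgroup.normalizer (V1 : Set G) := by
        intro c hc
        have key : ∀ c : G, c * t = t * c → ∀ v ∈ V1, c * v * c⁻¹ ∈ V1 := by
          intro c hc v hv
          refine ⟨hVn.conj_mem v hv.1 c, ?_⟩
          have hc' : t * c⁻¹ = c⁻¹ * t := by
            calc t * c⁻¹ = c⁻¹ * (c * t) * c⁻¹ := by group
              _ = c⁻¹ * (t * c) * c⁻¹ := by rw [hc]
              _ = c⁻¹ * t := by group
          calc t * (c * v * c⁻¹) * t = (t * c) * v * (c⁻¹ * t) := by group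
            _ = (c * t) * v * (t * c⁻¹) := by rw [hc, hc']
            _ = c * (t * v * t) * c⁻¹ := by group
            _ = (c * v * c⁻¹)⁻¹ := by rw [hv.2]; group
        refine Subgroup.mem_normalizer_iff.2 fun v => ⟨key c hc v, fun hv => ?_⟩
        have := key c⁻¹ (by
          calc c⁻¹ * t = c⁻¹ * (t * c) * c⁻¹ := by group
            _ = c⁻¹ * (c * t) * c⁻¹ := by rw [hc]
            _ = t * c⁻¹ := by group) _ hv
        simpa [mul_assoc] using this
      let act : G → (c : G) → c ∈ Subgroup.normalizer (V1 : Set G) → (Additive V1 ≃+ Additive V1) :=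
        fun _ c hc => MulEquiv.toAdditive (V1.normalizerMonoidHom ⟨c, hc⟩)
      refine even_of_commutator_neg (q := q) (V := Additive V1) hq2 ?_ ?_
        (act a a (hN1 a hat)) (act b b (hN1 b hbt)) ?_
      · exact hi
      · intro v
        exact congrArg Additive.ofMul (Subtype.ext v.toMul.2.1.2 : v.toMul ^ q = 1)
      · intro v
        refine Additive.toMul.injective (Subtype.ext ?_)
        show a * (b * (v.toMul : G) * b⁻¹) * a⁻¹ = (b * (a * (v.toMul : G) * a⁻¹) * b⁻¹)⁻¹
        have hab' : a * b = t * (b * a) := by rw [← hab]; group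
        have hw : b * (a * (v.toMul : G) * a⁻¹) * b⁻¹ ∈ V1 :=
          (Subgroup.mem_normalizer_iff.1 (hN1 b hbt) _).1
            ((Subgroup.mem_normalizer_iff.1 (hN1 a hat) _).1 v.toMul.2)
        calc a * (b * (v.toMul : G) * b⁻¹) * a⁻¹
            = (a * b) * (v.toMul : G) * (a * b)⁻¹ := by group
          _ = t * (b * (a * (v.toMul : G) * a⁻¹) * b⁻¹) * t⁻¹ := by rw [hab']; group
          _ = _ := by rw [inv_eq_of_mul_eq_one_left ht, hw.2]
    rw [hkij]
    exact hje.add hie

/-- All involutions congruent modulo the core: solvable when the count is an odd power or nine. -/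
theorem isSolvable_of_congr {G : Type u} [Group G] [Finite G] (N : Subgroup G) [N.Normal]
    (hNodd : Odd (Nat.card N)) {p k : ℕ} (hp : p.Prime) (hk : 1 ≤ k)
    (hpk : Odd k ∨ p ^ k = 9) {t : G} (ht1 : t ≠ 1) (ht : t * t = 1)
    (hcard : Nat.card {x : G // x ≠ 1 ∧ x * x = 1} = p ^ k)
    (hcongr : ∀ x : G, x ≠ 1 → x * x = 1 → x * t ∈ N) : Group.IsSolvable G := by
  classical
  haveI : Fact (Nat.Prime 2) := ⟨Nat.prime_two⟩
  haveI : Group.IsSolvable N := Cfsg.Agent.S0205.result hNodd
  have hconj : ∀ x : G, x ≠ 1 → x * x = 1 → ∃ n ∈ N, n * t * n⁻¹ = x := by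
    intro x hx1 hx
    have hv := hcongr x hx1 hx
    obtain ⟨w, hw, hwt⟩ := exists_conj_of_inverted ht (v := x * t) (by
      calc t * (x * t) * t = t * x * (t * t) := by group
        _ = t * x := by rw [ht, mul_one]
        _ = (x * t)⁻¹ := by
          rw [mul_inv_rev, inv_eq_of_mul_eq_one_left ht, inv_eq_of_mul_eq_one_left hx])
      (hNodd.of_dvd_nat (Subgroup.orderOf_dvd_natCard N hv))
    exact ⟨w, Subgroup.zpowers_le.2 hv hw, by rw [hwt, mul_assoc, ht, mul_one]⟩
  set C := Subgroup.centralizer ({t} : Set G) with hC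
  have hGNC : ∀ g : G, ∃ n ∈ N, ∃ c ∈ C, g = n * c := by
    intro g
    obtain ⟨n, hn, h⟩ := hconj (g * t * g⁻¹) (fun hh => ht1 (conj_eq_one_iff.1 hh))
      (by rw [show g * t * g⁻¹ * (g * t * g⁻¹) = g * (t * t) * g⁻¹ by group, ht]; group)
    refine ⟨n, hn, n⁻¹ * g, Subgroup.mem_centralizer_singleton_iff.2 ?_, by group⟩
    calc n⁻¹ * g * t = n⁻¹ * (g * t * g⁻¹) * g := by group
      _ = n⁻¹ * (n * t * n⁻¹) * g := by rw [h]
      _ = t * (n⁻¹ * g) := by group
  have huniq : ∀ x : G, x ∈ C → x * x = 1 → x ≠ 1 → x = t := by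
    intro x hxC hx hx1
    have hN := hcongr x hx1 hx
    have h2 : (x * t) * (x * t) = 1 := by
      have hc := Subgroup.mem_centralizer_singleton_iff.1 hxC
      calc x * t * (x * t) = x * (t * x) * t := by group
        _ = x * (x * t) * t := by rw [hc]
        _ = (x * x) * (t * t) := by group
        _ = 1 := by rw [hx, ht, one_mul]
    have h4 : orderOf (x * t) = 1 :=
      Nat.eq_one_of_dvd_coprimes (Nat.coprime_two_left.2 hNodd)
        (orderOf_dvd_of_pow_eq_one (by rw [sq, h2])) (Subgroup.orderOf_dvd_natCard N hN)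
    rw [orderOf_eq_one_iff] at h4
    rw [mul_eq_one_iff_eq_inv.1 h4, inv_eq_of_mul_eq_one_left ht]
  suffices hCs : Group.IsSolvable C by
    haveI := hCs
    haveI : Group.IsSolvable (G ⧸ N) := by
      refine Group.isSolvable_of_surjective (f := (QuotientGroup.mk' N).comp C.subtype) fun y => ?_
      obtain ⟨g, rfl⟩ := QuotientGroup.mk_surjective y
      obtain ⟨n, hn, c, hc, rfl⟩ := hGNC g
      refine ⟨⟨c, hc⟩, ?_⟩
      show (QuotientGroup.mk c : G ⧸ N) = QuotientGroup.mk (n * c)
      rw [QuotientGroup.mk_mul, (QuotientGroup.eq_one_iff n).2 hn, one_mul]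
    exact Group.isSolvable_of_ker_le_range N.subtype (QuotientGroup.mk' N)
      (by rw [QuotientGroup.ker_mk', Subgroup.range_subtype])
  obtain ⟨Q⟩ : Nonempty (Sylow 2 C) := inferInstance
  have hcomm : ∀ c : C, (c : G) * t = t * (c : G) := fun c =>
    Subgroup.mem_centralizer_singleton_iff.1 c.2
  by_cases hab : ∀ a b : (Q : Subgroup C), a * b = b * a
  · haveI : IsMulCommutative (Q : Subgroup C) := IsMulCommutative.of_comm hab
    refine isSolvable_of_abelian_sylow Q fun b _ _ v _ hv => ?_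
    by_cases hv1 : (v : G) = 1
    · rw [show v = 1 from Subtype.ext hv1, mul_one, one_mul]
    · refine Subtype.ext ?_
      show (b : G) * v = v * b
      rw [huniq _ v.2 (congrArg Subtype.val hv) hv1]
      exact hcomm b
  -- a pair with commutator `t`
  obtain ⟨a, b, hpair⟩ : ∃ a b : C, (a : G) * b * (a : G)⁻¹ * (b : G)⁻¹ = t := by
    set Z := Subgroup.center (Q : Subgroup C) with hZ
    haveI : Nontrivial ((Q : Subgroup C) ⧸ Z) := by
      rw [QuotientGroup.nontrivial_iff]
      intro hh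
      exact hab fun a b => Subgroup.mem_center_iff.1 (show b ∈ Z by rw [hh]; trivial) a
    haveI := (Q.isPGroup'.to_quotient Z).center_nontrivial
    obtain ⟨⟨bb, hbb⟩, hbne⟩ := exists_ne (1 : Subgroup.center ((Q : Subgroup C) ⧸ Z))
    obtain ⟨b, rfl⟩ := QuotientGroup.mk_surjective bb
    have hbZ : b ∉ Z := fun hh => hbne (Subtype.ext ((QuotientGroup.eq_one_iff b).2 hh))
    have hcz : ∀ a, a * b * a⁻¹ * b⁻¹ ∈ Z := fun a => by
      refine (QuotientGroup.eq_one_iff _).1 ?_
      rw [QuotientGroup.mk_mul, QuotientGroup.mk_mul, QuotientGroup.mk_mul, QuotientGroup.mk_inv,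
        QuotientGroup.mk_inv, Subgroup.mem_center_iff.1 hbb (QuotientGroup.mk a)]
      group
    obtain ⟨a, ha⟩ : ∃ a, a * b * a⁻¹ * b⁻¹ ≠ 1 := by
      by_contra hh
      push Not at hh
      exact hbZ (Subgroup.mem_center_iff.2 fun a => mul_inv_eq_iff_eq_mul.1 (mul_inv_eq_one.1 (hh a)))
    set c := a * b * a⁻¹ * b⁻¹ with hc
    have hpow : ∀ m : ℕ, a ^ m * b * (a ^ m)⁻¹ * b⁻¹ = c ^ m := by
      intro m
      induction m with
      | zero => simp
      | succ m ih =>
        have hcz' := Subgroup.mem_center_iff.1 (pow_mem (hcz a) m) a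
        calc a ^ (m + 1) * b * (a ^ (m + 1))⁻¹ * b⁻¹
            = a * (a ^ m * b * (a ^ m)⁻¹ * b⁻¹) * b * a⁻¹ * b⁻¹ := by rw [pow_succ']; group
          _ = (a * c ^ m) * b * a⁻¹ * b⁻¹ := by rw [ih]
          _ = (c ^ m * a) * b * a⁻¹ * b⁻¹ := by rw [hcz']
          _ = c ^ (m + 1) := by rw [pow_succ, hc]; group
    obtain ⟨r, hr⟩ : ∃ r, orderOf c = 2 ^ (r + 1) := by
      obtain ⟨s, hs⟩ := IsPGroup.iff_orderOf.1 Q.isPGroup' c
      obtain ⟨r, rfl⟩ : ∃ r, s = r + 1 := ⟨s - 1, by
        have : s ≠ 0 := fun h0 => ha (orderOf_eq_one_iff.1 (by rw [hs, h0, pow_zero]))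
        omega⟩
      exact ⟨r, hs⟩
    refine ⟨((a ^ 2 ^ r : (Q : Subgroup C)) : C), (b : C), ?_⟩
    have h1 : ((((c ^ 2 ^ r : (Q : Subgroup C)) : C)) : G) = t := by
      refine huniq _ (c ^ 2 ^ r : (Q : Subgroup C)).1.2 ?_ ?_
      · rw [← Subgroup.coe_mul, ← Subgroup.coe_mul, ← pow_add, ← two_mul, ← pow_succ', ← hr,
          pow_orderOf_eq_one]
        rfl
      · intro hh
        have h5 : c ^ 2 ^ r = 1 := Subtype.ext (Subtype.ext hh)
        have h6 := Nat.le_of_dvd (by positivity) (orderOf_dvd_of_pow_eq_one h5)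
        rw [hr, pow_succ] at h6
        have : 0 < 2 ^ r := by positivity
        omega
    rw [← h1, ← hpow]
    rfl
  have horbit : Nat.card {x : G // ∃ n ∈ N, n * t * n⁻¹ = x} = p ^ k := by
    rw [← hcard]
    refine Nat.card_congr (Equiv.subtypeEquivRight fun x => ⟨?_, fun hx => hconj x hx.1 hx.2⟩)
    rintro ⟨n, hn, rfl⟩
    exact ⟨fun hh => ht1 (conj_eq_one_iff.1 hh),
      by rw [show n * t * n⁻¹ * (n * t * n⁻¹) = n * (t * t) * n⁻¹ by group, ht]; group⟩
  have heven : Even k := even_exponent_of_pair hp (Nat.card G) G le_rfl N inferInstance hNodd t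
    a b ht1 ht (hcomm a) (hcomm b) hpair k horbit
  have h9 : p ^ k = 9 := hpk.resolve_left fun ho => (Nat.not_odd_iff_even.2 heven) ho
  -- nine involutions
  let Ω := {x : G // (x ≠ 1 ∧ x * x = 1) ∧ x ≠ t}
  have hpc : ∀ (c : C) (x : G), ((x ≠ 1 ∧ x * x = 1) ∧ x ≠ t) ↔
      (MulAut.conj (c : G) x ≠ 1 ∧ MulAut.conj (c : G) x * MulAut.conj (c : G) x = 1) ∧
        MulAut.conj (c : G) x ≠ t := by
    intro c x
    have hct : MulAut.conj (c : G) t = t := by
      rw [MulAut.conj_apply, hcomm c, mul_inv_cancel_right]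
    conv_rhs => rw [← hct]
    simp only [← map_mul, ne_eq, EmbeddingLike.map_eq_one_iff, EmbeddingLike.apply_eq_iff_eq]
  let ψ : C →* Equiv.Perm Ω :=
    { toFun := fun c => (MulAut.conj (c : G)).toEquiv.subtypeEquiv (hpc c)
      map_one' := Equiv.ext fun x => Subtype.ext (by simp)
      map_mul' := fun a b => Equiv.ext fun x => Subtype.ext (by simp [mul_assoc]) }
  haveI : Fintype Ω := Fintype.ofFinite Ω
  have hΩ : Fintype.card Ω = 8 := by
    have h1 : Nat.card {x : G // x ≠ 1 ∧ x * x = 1} = Fintype.card Ω + 1 := by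
      haveI : Fintype {x : G // x ≠ 1 ∧ x * x = 1} := Fintype.ofFinite _
      rw [← Nat.card_eq_fintype_card, ← Finite.card_option]
      exact Nat.card_congr ((Equiv.optionSubtypeNe
        (⟨t, ht1, ht⟩ : {x : G // x ≠ 1 ∧ x * x = 1})).symm.trans (Equiv.optionCongr
        { toFun := fun x => ⟨x.1.1, x.1.2, fun hh => x.2 (Subtype.ext hh)⟩
          invFun := fun x => ⟨⟨x.1, x.2.1⟩, fun hh => x.2.2 (congrArg Subtype.val hh)⟩
          left_inv := fun x => rfl
          right_inv := fun x => rfl }))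
    omega
  let tc : C := ⟨t, Subgroup.mem_centralizer_singleton_iff.2 rfl⟩
  have htfix : ∀ x : Ω, ψ tc x ≠ x := by
    intro x hx
    have h1 : t * x.1 * t⁻¹ = x.1 := congrArg Subtype.val hx
    exact x.2.2 (huniq _ (Subgroup.mem_centralizer_singleton_iff.2
      (mul_inv_eq_iff_eq_mul.1 h1).symm) x.2.1.2 x.2.1.1)
  haveI : Group.IsSolvable ψ.ker := by
    refine Cfsg.Agent.S0205.result ?_
    rw [← Nat.not_even_iff_odd, even_iff_two_dvd]
    intro hdvd
    obtain ⟨z, hz⟩ := exists_prime_orderOf_dvd_card' 2 hdvd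
    have hzt : (((z : C)) : G) = t := huniq _ (z : C).2
      (congrArg (fun w : ψ.ker => ((w : C) : G)) (by rw [← sq, ← hz, pow_orderOf_eq_one] : z * z = 1))
      (fun hh => by
        rw [show z = 1 from Subtype.ext (Subtype.ext hh), orderOf_one] at hz
        norm_num at hz)
    obtain ⟨x⟩ : Nonempty Ω := Fintype.card_pos_iff.1 (by omega)
    refine htfix x ?_
    rw [show tc = (z : C) from Subtype.ext hzt.symm, MonoidHom.mem_ker.1 z.2]
    rfl
  haveI : Group.IsSolvable ψ.range := by
    have hdvd : Nat.card ψ.range ∣ 2 ^ 7 * 3 ^ 2 * 35 := by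
      have h1 : Nat.card ψ.range ∣ Nat.card (Equiv.Perm Ω) := Subgroup.card_subgroup_dvd_card _
      rw [Nat.card_perm, show Nat.card Ω = 8 by rw [Nat.card_eq_fintype_card, hΩ]] at h1
      exact h1
    have hsmall : ∀ r : ℕ, r.Prime → (r = 5 ∨ r = 7) → ¬ r ∣ Nat.card ψ.range := by
      intro r hr hr57 hrd
      haveI : Fact r.Prime := ⟨hr⟩
      obtain ⟨⟨_, c, rfl⟩, hg⟩ := exists_prime_orderOf_dvd_card' r hrd
      replace hg : orderOf (ψ c) = r :=
        (orderOf_injective ψ.range.subtype ψ.range.subtype_injective ⟨ψ c, c, rfl⟩).trans hg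
      have hcyc : (ψ c).IsCycle := Equiv.Perm.isCycle_of_prime_order (hg ▸ hr) (by
        rw [hg]
        have := Finset.card_le_univ (ψ c).support
        rcases hr57 with rfl | rfl <;> omega)
      have hτ : ∀ x, ψ tc (ψ c x) = ψ c (ψ tc x) := fun x => by
        rw [← Equiv.Perm.mul_apply, ← Equiv.Perm.mul_apply, ← map_mul, ← map_mul]
        congr 2
        exact Subtype.ext (hcomm c).symm
      have hτ2 : ∀ x, ψ tc (ψ tc x) = x := fun x => by
        rw [← Equiv.Perm.mul_apply, ← map_mul, show tc * tc = 1 from Subtype.ext ht, map_one]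
        rfl
      have hsum : ∑ _x ∈ (ψ c).support, (1 : ZMod 2) = 0 :=
        Finset.sum_involution (fun x _ => ψ tc x) (fun _ _ => rfl) (fun x _ _ => htfix x)
          (fun x hx => Equiv.Perm.mem_support.2 fun hh => Equiv.Perm.mem_support.1 hx (by
            rw [← hτ] at hh
            exact (ψ tc).injective hh))
          (fun x _ => hτ2 x)
      rw [Finset.sum_const, nsmul_one, ← hcyc.orderOf, hg, ZMod.natCast_eq_zero_iff_even] at hsum
      rcases hr57 with rfl | rfl <;> exact absurd hsum (by decide)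
    have hcop : (Nat.card ψ.range).Coprime 35 := by
      rw [show 35 = 5 * 7 from rfl, Nat.coprime_mul_iff_right]
      exact ⟨((Nat.Prime.coprime_iff_not_dvd (by norm_num)).2 (hsmall 5 (by norm_num) (Or.inl rfl))).symm,
        ((Nat.Prime.coprime_iff_not_dvd (by norm_num)).2 (hsmall 7 (by norm_num) (Or.inr rfl))).symm⟩
    obtain ⟨y, z, hy, hz, hyz⟩ := (Nat.dvd_mul).1 (hcop.dvd_of_dvd_mul_right hdvd)
    obtain ⟨i, -, rfl⟩ := (Nat.dvd_prime_pow Nat.prime_two).1 hy
    obtain ⟨j, -, rfl⟩ := (Nat.dvd_prime_pow Nat.prime_three).1 hz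
    exact Cfsg.Agent.S0144.result 2 3 i j Nat.prime_two Nat.prime_three hyz.symm
  exact Group.isSolvable_of_ker_le_range ψ.ker.subtype ψ.rangeRestrict
    (by rw [MonoidHom.ker_rangeRestrict, Subgroup.range_subtype])

end Cfsg.Agent.H45.Pyramidal
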