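import Cfsg.Agent.S4037
import Cfsg.Agent.H19.Cores
import Cfsg.Agent.H45.Pyramidal.NormalModule
import Cfsg.Agent.H45.Pyramidal.OneInvolution

/-!
Pyramidal groups are solvable when the exponent is odd or the number is nine.
-/

set_option autoImplicit false
set_option linter.style.haveILetI false

namespace Cfsg.Agent.H45.Pyramidal

open Cfsg

theorem orderOf_eq_two_iff' {G : Type*} [Group G] {x : G} :
    orderOf x = 2 ↔ x ≠ 1 ∧ x * x = 1 := by
  constructor
  · intro h
    refine ⟨fun hh => by rw [hh, orderOf_one] at h; norm_num at h, ?_⟩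
    rw [← sq, ← h, pow_orderOf_eq_one]
  · intro h
    exact orderOf_eq_prime (by rw [sq, h.2]) h.1

universe u

theorem isSolvable_of_pyramidal {G : Type u} [Group G] [Finite G] {p k : ℕ} (hp : p.Prime)
    (hk : 1 ≤ k) (hpk : Odd k ∨ p ^ k = 9)
    (hcard : Nat.card {x : G // orderOf x = 2} = p ^ k)
    (hconj : ∀ x y : G, orderOf x = 2 → orderOf y = 2 → ∃ g : G, g * x * g⁻¹ = y) :
    Group.IsSolvable G := by
  classical
  haveI : Fact (Nat.Prime 2) := ⟨Nat.prime_two⟩
  have hcard' : Nat.card {x : G // x ≠ 1 ∧ x * x = 1} = p ^ k := by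
    rw [← hcard]
    exact Nat.card_congr (Equiv.subtypeEquivRight fun x => orderOf_eq_two_iff'.symm)
  obtain ⟨⟨t, ht1, ht⟩⟩ : Nonempty {x : G // x ≠ 1 ∧ x * x = 1} :=
    (Nat.card_pos_iff.1 (by rw [hcard']; exact pow_pos hp.pos k)).1
  have hconj' : ∀ x y : G, x ≠ 1 → x * x = 1 → y ≠ 1 → y * y = 1 → ∃ g : G, g * x * g⁻¹ = y :=
    fun x y h1 h2 h3 h4 => hconj x y (orderOf_eq_two_iff'.2 ⟨h1, h2⟩) (orderOf_eq_two_iff'.2 ⟨h3, h4⟩)
  have hclass : ∀ {H : Type u} [Group H] [Finite H] (s : H), s ≠ 1 → s * s = 1 →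
      (∀ y : H, y ≠ 1 → y * y = 1 → ∃ g : H, g * s * g⁻¹ = y) →
      (Subgroup.centralizer ({s} : Set H)).index = Nat.card {x : H // x ≠ 1 ∧ x * x = 1} := by
    intro H _ _ s hs1 hs hH
    rw [H25.index_centralizer_eq_card_class]
    refine Nat.card_congr (Equiv.subtypeEquivRight fun x => ⟨fun hx => ?_, fun hx => isConj_iff.2 (hH x hx.1 hx.2)⟩)
    obtain ⟨g, rfl⟩ := isConj_iff.1 hx
    exact ⟨fun hh => hs1 (conj_eq_one_iff.1 hh),
      by rw [show g * s * g⁻¹ * (g * s * g⁻¹) = g * (s * s) * g⁻¹ by group, hs]; group⟩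
  have hindex := hclass t ht1 ht fun y h1 h2 => hconj' t y ht1 ht h1 h2
  rw [hcard'] at hindex
  haveI hLsol : Group.IsSolvable (Subgroup.normalClosure ({t} : Set G)) :=
    H25.isSolvable_normalClosure hp t ⟨k, hindex⟩
  have hNodd : Odd (Nat.card (oddCore G)) := Nat.coprime_two_right.1 (H19.pPrimeCore_coprime 2)
  set N := oddCore G with hN
  set mk := QuotientGroup.mk' N with hmk
  have htbar : mk t ≠ 1 := fun hh => by
    have h2 : orderOf t ∣ Nat.card N :=
      Subgroup.orderOf_dvd_natCard N ((QuotientGroup.eq_one_iff t).1 hh)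
    rw [orderOf_eq_two_iff'.2 ⟨ht1, ht⟩] at h2
    obtain ⟨i, hi⟩ := hNodd.of_dvd_nat h2
    omega
  -- involutions lift
  have hlift : ∀ y : G ⧸ N, y ≠ 1 → y * y = 1 → ∃ x : G, (x ≠ 1 ∧ x * x = 1) ∧ mk x = y := by
    intro y hy1 hy
    obtain ⟨z, rfl⟩ := QuotientGroup.mk_surjective y
    obtain ⟨x, hx, hxz⟩ := exists_sq_one_congr hNodd ((QuotientGroup.eq_one_iff _).1 hy)
    exact ⟨x, ⟨fun hh => hy1 (by rw [← hxz, hh]; rfl), hx⟩, hxz⟩
  have htbar2 : mk t * mk t = 1 := by rw [← map_mul, ht, map_one]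
  have hconjbar : ∀ y y' : G ⧸ N, y ≠ 1 → y * y = 1 → y' ≠ 1 → y' * y' = 1 →
      ∃ g, g * y * g⁻¹ = y' := by
    intro y y' h1 h2 h3 h4
    obtain ⟨x, ⟨hx1, hx⟩, rfl⟩ := hlift y h1 h2
    obtain ⟨x', ⟨hx1', hx'⟩, rfl⟩ := hlift y' h3 h4
    obtain ⟨g, hg⟩ := hconj' x x' hx1 hx hx1' hx'
    exact ⟨mk g, by rw [← hg, map_mul, map_mul, map_inv]⟩
  -- an abelian normal subgroup of even order in the quotient
  set L := (Subgroup.normalClosure ({t} : Set G)).map mk with hL
  haveI hLn : L.Normal := Subgroup.Normal.map inferInstance mk (QuotientGroup.mk'_surjective N)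
  haveI : Group.IsSolvable L := Group.isSolvable_of_surjective
    (f := mk.subgroupMap (Subgroup.normalClosure ({t} : Set G))) (mk.subgroupMap_surjective _)
  have hLne : L ≠ ⊥ := fun hh => by
    have h1 : mk t ∈ L :=
      Subgroup.mem_map_of_mem _ (Subgroup.subset_normalClosure (Set.mem_singleton t))
    rw [hh, Subgroup.mem_bot] at h1
    exact htbar h1
  haveI : Nontrivial L := L.nontrivial_iff_ne_bot.2 hLne
  obtain ⟨A0, hA0c, hA0ne, hA0ab⟩ : ∃ A : Subgroup L, A.Characteristic ∧ A ≠ ⊥ ∧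
      ∀ x ∈ A, ∀ y ∈ A, x * y = y * x := by
    have hex : ∃ i, derivedSeries L i = ⊥ := Group.IsSolvable.solvable
    have h0 : Nat.find hex ≠ 0 := fun h => by
      have := Nat.find_spec hex
      rw [h, derivedSeries_zero] at this
      exact top_ne_bot this
    refine ⟨_, derivedSeries_characteristic L (Nat.find hex - 1), Nat.find_min hex (by omega),
      fun x hx y hy => ?_⟩
    open scoped commutatorElement in
    have h1 : ⁅x, y⁆ ∈ derivedSeries L (Nat.find hex - 1 + 1) := by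
      rw [derivedSeries_succ]
      exact Subgroup.commutator_mem_commutator hx hy
    rw [show Nat.find hex - 1 + 1 = Nat.find hex by omega, Nat.find_spec hex, Subgroup.mem_bot,
      commutatorElement_eq_one_iff_mul_comm] at h1
    exact h1
  set A := A0.map L.subtype with hA
  have hAn : A.Normal := inferInstance
  have hAc : ∀ x ∈ A, ∀ y ∈ A, x * y = y * x := by
    rintro _ ⟨x, hx, rfl⟩ _ ⟨y, hy, rfl⟩
    exact congrArg Subtype.val (hA0ab x hx y hy)
  have hAeven : 2 ∣ Nat.card A := by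
    by_contra hodd
    rw [← even_iff_two_dvd, Nat.not_even_iff_odd] at hodd
    have hle : A.comap mk ≤ N := by
      refine H19.le_pPrimeCore (hAn.comap mk) (Nat.coprime_two_right.2 ?_)
      have h2 : Nat.card (A.comap mk) ∣ Nat.card A * Nat.card N := by
        have h3 := Subgroup.card_eq_card_quotient_mul_card_subgroup ((mk.comp (A.comap mk).subtype).ker)
        have h4 : Nat.card (mk.comp (A.comap mk).subtype).ker ∣ Nat.card N := by
          refine Subgroup.card_dvd_of_injective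
            (((A.comap mk).subtype.comp (mk.comp (A.comap mk).subtype).ker.subtype).codRestrict N
              (fun x => (QuotientGroup.eq_one_iff _).1 x.2)) fun x y hxy => ?_
          exact Subtype.ext (Subtype.ext (congrArg (fun z : N => (z : G)) hxy))
        have h5 : Nat.card (↥(A.comap mk) ⧸ (mk.comp (A.comap mk).subtype).ker) ∣ Nat.card A := by
          rw [Nat.card_congr (QuotientGroup.quotientKerEquivRange _).toEquiv, MonoidHom.range_comp,
            Subgroup.range_subtype]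
          exact Subgroup.card_dvd_of_le (Subgroup.map_comap_le _ _)
        rw [h3]
        exact mul_dvd_mul h5 h4
      exact (hodd.mul hNodd).of_dvd_nat h2
    refine hA0ne (Subgroup.map_eq_bot_iff_of_injective _ L.subtype_injective |>.1 ?_)
    refine (Subgroup.eq_bot_iff_forall _).2 fun a ha => ?_
    obtain ⟨g, rfl⟩ := QuotientGroup.mk_surjective a
    exact (QuotientGroup.eq_one_iff g).2 (hle ha)
  obtain ⟨a, ha⟩ := exists_prime_orderOf_dvd_card' 2 hAeven
  have haA : (a : G ⧸ N) ≠ 1 ∧ (a : G ⧸ N) * a = 1 :=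
    orderOf_eq_two_iff'.1 (by rw [Subgroup.orderOf_coe, ha])
  have hallA : ∀ y : G ⧸ N, y * y = 1 → y ∈ A := by
    intro y hy
    by_cases hy1 : y = 1
    · rw [hy1]; exact A.one_mem
    obtain ⟨g, hg⟩ := hconjbar a y haA.1 haA.2 hy1 hy
    rw [← hg]
    exact hAn.conj_mem _ a.2 g
  let E : Subgroup (G ⧸ N) :=
    { carrier := {y | y * y = 1}
      one_mem' := one_mul 1
      mul_mem' := fun {y z} hy hz => by
        show y * z * (y * z) = 1
        calc y * z * (y * z) = y * (z * y) * z := by group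
          _ = y * (y * z) * z := by rw [hAc z (hallA z hz) y (hallA y hy)]
          _ = (y * y) * (z * z) := by group
          _ = 1 := by rw [show y * y = 1 from hy, show z * z = 1 from hz, one_mul]
      inv_mem' := fun {y} hy => by
        show y⁻¹ * y⁻¹ = 1
        rw [← mul_inv_rev, show y * y = 1 from hy, inv_one] }
  haveI hEn : E.Normal := ⟨fun y hy g => by
    show g * y * g⁻¹ * (g * y * g⁻¹) = 1
    rw [show g * y * g⁻¹ * (g * y * g⁻¹) = g * (y * y) * g⁻¹ by group, show y * y = 1 from hy]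
    group⟩
  haveI : IsMulCommutative E := IsMulCommutative.of_comm fun y z =>
    Subtype.ext (hAc _ (hallA _ y.2) _ (hallA _ z.2))
  have hEexp : ∀ y ∈ E, y * y = 1 := fun y hy => hy
  obtain ⟨n, hn⟩ : ∃ n, Nat.card E = 2 ^ n := by
    have hp2 : IsPGroup 2 E := fun y => ⟨1, Subtype.ext (by
      rw [pow_one, Subgroup.coe_pow, sq]
      exact y.2)⟩
    exact IsPGroup.iff_card.1 hp2
  have hΩ : Nat.card {y : G ⧸ N // y ≠ 1 ∧ y * y = 1} = 2 ^ n - 1 := by
    have h1 : Nat.card {y : G ⧸ N // y ≠ 1 ∧ y * y = 1} = Nat.card {v : E // v ≠ 1} :=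
      Nat.card_congr
        { toFun := fun x => ⟨⟨x.1, x.2.2⟩, fun hh => x.2.1 (congrArg Subtype.val hh)⟩
          invFun := fun v => ⟨v.1.1, fun hh => v.2 (Subtype.ext hh), v.1.2⟩
          left_inv := fun x => rfl
          right_inv := fun v => rfl }
    haveI : Fintype E := Fintype.ofFinite _
    rw [h1, Nat.card_eq_fintype_card, Fintype.card_subtype_compl, Fintype.card_subtype_eq,
      ← Nat.card_eq_fintype_card, hn]
  have hdvd : 2 ^ n - 1 ∣ p ^ k := by
    rw [← hΩ, ← hclass (mk t) htbar htbar2 (fun y h1 h2 => hconjbar _ y htbar htbar2 h1 h2), ← hindex]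
    refine dvd_trans (Subgroup.index_dvd_of_le (?_ : (Subgroup.centralizer ({t} : Set G)).map mk ≤ _))
      (Subgroup.index_map_dvd _ (QuotientGroup.mk'_surjective N))
    rintro _ ⟨g, hg, rfl⟩
    exact Subgroup.mem_centralizer_singleton_iff.2
      (by rw [← map_mul, Subgroup.mem_centralizer_singleton_iff.1 hg, map_mul])
  obtain ⟨j, -, hj⟩ := (Nat.dvd_prime_pow hp).1 hdvd
  have hn1 : 1 ≤ n := by
    by_contra hh
    rw [show n = 0 by omega] at hΩ
    haveI : Nonempty {y : G ⧸ N // y ≠ 1 ∧ y * y = 1} := ⟨⟨mk t, htbar, htbar2⟩⟩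
    have := Nat.card_pos (α := {y : G ⧸ N // y ≠ 1 ∧ y * y = 1})
    omega
  rcases Nat.lt_or_ge n 2 with hn2 | hn2
  · refine isSolvable_of_congr N hNodd hp hk hpk ht1 ht hcard' fun x hx1 hx => ?_
    have hsub : Subsingleton {y : G ⧸ N // y ≠ 1 ∧ y * y = 1} :=
      (Nat.card_eq_one_iff_unique.1 (by rw [hΩ, show n = 1 by omega]; norm_num)).1
    by_cases hxbar : mk x = 1
    · exfalso
      have h2 : orderOf x ∣ Nat.card N :=
        Subgroup.orderOf_dvd_natCard N ((QuotientGroup.eq_one_iff x).1 hxbar)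
      rw [orderOf_eq_two_iff'.2 ⟨hx1, hx⟩] at h2
      obtain ⟨i, hi⟩ := hNodd.of_dvd_nat h2
      omega
    have hxt : mk x = mk t := congrArg Subtype.val (hsub.elim
      ⟨mk x, hxbar, by rw [← map_mul, hx, map_one]⟩ ⟨mk t, htbar, htbar2⟩)
    refine (QuotientGroup.eq_one_iff _).1 (show mk (x * t) = 1 from ?_)
    rw [map_mul, hxt, htbar2]
  have hj1 : j = 1 := Mersenne.eq_one_of_pow_eq_two_pow_sub_one hn2 hj.symm
  subst hj1
  rw [pow_one] at hj
  haveI : Group.IsSolvable (G ⧸ N) :=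
    isSolvable_of_normal_module E hEexp (fun y hy => hy) hn2 hn (hj ▸ hp) hconjbar
  haveI : Group.IsSolvable N := Cfsg.Agent.S0205.result hNodd
  exact Group.isSolvable_of_ker_le_range N.subtype (QuotientGroup.mk' N)
    (by rw [QuotientGroup.ker_mk', Subgroup.range_subtype])

end Cfsg.Agent.H45.Pyramidal
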