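import Cfsg.Agent.H45.Pyramidal.GLThree

/-!
An extension of an abelian `2`-group by `GL₃(2)` has an involution outside the kernel.
-/

set_option autoImplicit false

namespace Cfsg.Agent.H45.Pyramidal

open GL3

/-- An extension of a `2`-group by `GL₃(2)` all of whose involutions form, together with `1`,
a copy of the natural module. -/
structure Three {K : Type*} [Group K] (π : K →* G3) (ι : V3 → K) : Prop where
  surj : Function.Surjective π
  ker_two : IsPGroup 2 π.ker
  map_add : ∀ u v, ι (u + v) = ι u * ι v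
  inj : Function.Injective ι
  conj : ∀ k u, k * ι u * k⁻¹ = ι (π k u)
  invol : ∀ x : K, x * x = 1 → ∃ u, ι u = x

namespace Three

variable {K : Type*} [Group K] {π : K →* G3} {ι : V3 → K}

theorem map_zero' (h : Three π ι) : ι 0 = 1 := by
  have := h.map_add 0 0
  rwa [add_zero, left_eq_mul] at this

theorem mem_ker (h : Three π ι) (u : V3) : ι u ∈ π.ker := by
  refine MonoidHom.mem_ker.2 (LinearEquiv.ext fun v => h.inj ?_)
  rw [← h.conj, ← h.map_add, add_comm, h.map_add, mul_inv_cancel_right]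
  rfl

end Three

section Calc

variable {A : Type*} [AddCommGroup A]

variable {R : Type*} [CommRing R] [Module R A]

set_option maxHeartbeats 1000000 in
/-- The computation in an abelian group of exponent `2 ^ m` whose socle is the natural module. -/
theorem abelian_calc_aux {m : ℕ} (hm : 1 ≤ m) (hkill : ∀ a : A, 2 ^ m • a = 0)
    (hR : ∀ t : R, 2 ^ m • t = 0) (par : R →+* ZMod 2)
    (hparunit : ∀ t : R, par t = 1 → IsUnit t)
    (hparzero : ∀ t : R, par t = 0 → ∃ s : R, t = 2 • s)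
    (ι : V3 →+ A) (hι : Function.Injective ι)
    (hsm : ∀ (t : R) (u : V3), t • ι u = ι (par t • u))
    (hinv : ∀ a : A, 2 • a = 0 → ∃ u, ι u = a)
    (hpw : ∀ u, ∃ a : A, 2 ^ (m - 1) • a = ι u)
    (ρ : G3 →* AddMonoid.End A) (hρ : ∀ g u, ρ g (ι u) = ι (g u))
    (hlin : ∀ (g : G3) (t : R) (a : A), ρ g (t • a) = t • ρ g a)
    {c : A} (hc : ρ gg c = c) : ∃ s : A, c = s + ρ bg s := by
  -- the operators
  let lin : G3 → (A →ₗ[R] A) := fun g =>
    { toFun := fun a => ρ g a, map_add' := fun a b => map_add (ρ g) a b, map_smul' := hlin g }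
  have hρmul : ∀ g g' a, ρ (g * g') a = ρ g (ρ g' a) := fun g g' a => by
    rw [map_mul]; rfl
  have hρone : ∀ a, ρ 1 a = a := fun a => by rw [map_one]; rfl
  have hbb : ∀ a, ρ bg (ρ bg a) = a := fun a => by rw [← hρmul, bg_bg, hρone]
  have hgg : ∀ a, ρ gg (ρ gg a) = ρ bg a := fun a => by rw [← hρmul, gg_sq]
  have hgb : ∀ a, ρ gg (ρ bg a) = ρ bg (ρ gg a) := fun a => by
    rw [← hρmul, ← hρmul, ← gg_sq, mul_assoc]
  have hpwρ : ∀ (g : G3) (a : A) (u : V3), 2 ^ (m - 1) • a = ι u →
      2 ^ (m - 1) • ρ g a = ι (g u) := fun g a u ha => by rw [← map_nsmul, ha, hρ]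
  -- a basis
  obtain ⟨y, hy⟩ := hpw e0
  obtain ⟨r, hr⟩ := hpw e1
  set x := y + ρ zg y + ρ zg (ρ zg y) with hx_def
  have hx : 2 ^ (m - 1) • x = ι e0 := by
    have hz : zg e0 = e0 := by decide
    rw [hx_def, smul_add, smul_add, hy, hpwρ _ _ _ hy, hz, hpwρ zg _ (zg e0) (hpwρ _ _ _ hy), hz, hz,
      ← map_add, ← map_add]
    congr 1
    decide
  have hzx : ρ zg x = x := by
    rw [hx_def, map_add, map_add, ← hρmul zg zg (ρ zg y), ← hρmul (zg * zg) zg y, zg_cube, hρone]
    abel
  set br := ρ bg r with hbr_def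
  have hbr : 2 ^ (m - 1) • br = ι e2 := by
    rw [hbr_def, hpwρ _ _ _ hr]
    congr 1
  let φ : (Fin 3 → R) →ₗ[R] A := Fintype.linearCombination R ![x, r, br]
  have hφ : ∀ v : Fin 3 → R, φ v = v 0 • x + v 1 • r + v 2 • br := fun v => by
    simp [φ, Fintype.linearCombination_apply, Fin.sum_univ_three]
  have hpar : ∀ v, 2 ^ (m - 1) • φ v = ι (fun i => par (v i)) := by
    intro v
    rw [hφ, smul_add, smul_add, smul_comm _ (v 0), smul_comm _ (v 1), smul_comm _ (v 2),
      hx, hr, hbr, hsm, hsm, hsm, ← map_add, ← map_add]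
    congr 1
    funext i
    fin_cases i <;> simp [e0, e1, e2]
  have hlift : ∀ u : V3, ∃ v : Fin 3 → R, 2 ^ (m - 1) • φ v = ι u := by
    intro u
    refine ⟨fun i => (((u i).val : ℕ) : R), ?_⟩
    rw [hpar]
    congr 1
    funext i
    rw [map_natCast, ZMod.natCast_zmod_val]
  -- descending argument
  have hdesc : ∀ (P : A → Prop) (Q : AddSubgroup A), (∀ a, P a → ∀ q ∈ Q, P (a - q)) →
      (∀ a k, P a → P (2 ^ k • a)) →
      (∀ a, P a → 2 • a = 0 → ∃ q ∈ Q, 2 ^ (m - 1) • q = a) →
      ∀ a, P a → a ∈ Q := by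
    intro P Q h1 h2 h3
    suffices H : ∀ k, k ≤ m → ∀ a, P a → 2 ^ k • a = 0 → a ∈ Q from
      fun a ha => H m le_rfl a ha (hkill a)
    intro k
    induction k with
    | zero => intro _ a _ ha; rw [pow_zero, one_nsmul] at ha; rw [ha]; exact Q.zero_mem
    | succ k ih =>
      intro hk a hP ha
      obtain ⟨q, hq, hqa⟩ := h3 _ (h2 a k hP) (by rw [← mul_smul, ← pow_succ']; exact ha)
      have hq' : 2 ^ (m - 1 - k) • q ∈ Q := Q.nsmul_mem hq _
      have := ih (by omega) _ (h1 a hP _ hq') (by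
        rw [smul_sub, ← mul_smul, ← pow_add, show k + (m - 1 - k) = m - 1 by omega, hqa, sub_self])
      simpa using Q.add_mem this hq'
  have hφsurj : Function.Surjective φ := fun a =>
    hdesc (fun _ => True) φ.toAddMonoidHom.range (fun _ _ _ _ => trivial) (fun _ _ _ => trivial)
      (fun a _ ha => by
        obtain ⟨u, hu⟩ := hinv a ha
        obtain ⟨v, hv⟩ := hlift u
        exact ⟨φ v, ⟨v, rfl⟩, hv.trans hu⟩) a trivial
  have hφinj : Function.Injective φ := by
    refine (injective_iff_map_eq_zero φ).2 fun v hv => ?_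
    suffices H : ∀ j, j ≤ m → ∃ u, v = 2 ^ j • u by
      obtain ⟨u, hu⟩ := H m le_rfl
      rw [hu]
      funext i
      rw [Pi.smul_apply, hR, Pi.zero_apply]
    intro j
    induction j with
    | zero => exact fun _ => ⟨v, by simp⟩
    | succ j ih =>
      intro hj
      obtain ⟨u, hu⟩ := ih (by omega)
      have h0 : ι (fun i => par (u i)) = ι 0 := by
        rw [← hpar, map_zero, show m - 1 = (m - 1 - j) + j by omega, pow_add, mul_smul,
          ← map_nsmul φ, ← hu, hv, smul_zero]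
      have h0' := congrFun (hι h0)
      choose w hw using fun i => hparzero (u i) (h0' i)
      refine ⟨w, ?_⟩
      rw [hu, pow_succ, mul_smul]
      congr 1
      funext i
      exact hw i
  let e : (Fin 3 → R) ≃ₗ[R] A := LinearEquiv.ofBijective φ ⟨hφinj, hφsurj⟩
  have he : ∀ v, e v = v 0 • x + v 1 • r + v 2 • br := hφ
  have coord : ∀ a b c a' b' c' : R, a • x + b • r + c • br = a' • x + b' • r + c' • br →
      a = a' ∧ b = b' ∧ c = c' := by
    intro a b c a' b' c' hh
    have := e.injective (a₁ := ![a, b, c]) (a₂ := ![a', b', c']) (by simpa [he] using hh)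
    exact ⟨congrFun this 0, congrFun this 1, congrFun this 2⟩
  -- determinants
  let B : Module.Basis (Fin 3) R A := Module.Basis.ofEquivFun e.symm
  have hB : ∀ i, B i = ![x, r, br] i := by
    intro i
    simp only [B, Module.Basis.coe_ofEquivFun, LinearEquiv.symm_symm, he]
    fin_cases i <;> simp
  let χ : G3 →* R :=
    { toFun := fun g => LinearMap.det (lin g)
      map_one' := by
        show LinearMap.det (lin 1) = 1
        rw [show lin 1 = LinearMap.id from LinearMap.ext hρone, LinearMap.det_id]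
      map_mul' := fun g g' => by
        show LinearMap.det (lin (g * g')) = LinearMap.det (lin g) * LinearMap.det (lin g')
        rw [show lin (g * g') = (lin g).comp (lin g') from LinearMap.ext (hρmul g g'),
          LinearMap.det_comp] }
  have hdet : ∀ (g : G3) (M : Matrix (Fin 3) (Fin 3) R),
      (∀ j, ρ g (![x, r, br] j) = M 0 j • x + M 1 j • r + M 2 j • br) → M.det = χ g := by
    intro g M hM
    show M.det = LinearMap.det (lin g)
    rw [← LinearMap.det_toMatrix B]
    congr 1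
    ext i j
    rw [LinearMap.toMatrix_apply, hB]
    show _ = (B.repr (ρ g _)) i
    have : ρ g (![x, r, br] j) = e (fun i => M i j) := (hM j).trans (he (fun i => M i j)).symm
    rw [this]
    simp [B]
  -- the involution `bg`
  obtain ⟨u, hu⟩ : ∃ u : R, ρ bg x = u • x := by
    have hzb : ρ zg (ρ bg x) = ρ bg x := by
      have h2 : zg * bg = bg * (zg * zg) := by
        rw [← bg_zg, ← mul_assoc, ← mul_assoc, bg_bg, one_mul]
      rw [← hρmul, h2, hρmul, hρmul, hzx, hzx]
    have := hdesc (fun a => ρ zg a = a) ((LinearMap.toSpanSingleton R A x).toAddMonoidHom.range)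
      (fun a ha q ⟨t, ht⟩ => by
        rw [← ht]
        show ρ zg (a - t • x) = a - t • x
        rw [map_sub, ha, hlin, hzx])
      (fun a k ha => by rw [map_nsmul, ha])
      (fun a ha h2a => by
        obtain ⟨w, hw⟩ := hinv a h2a
        have hzw : zg w = w := hι (by rw [← hρ, hw, ha])
        have hfix : ∀ w : V3, zg w = w → w = 0 ∨ w = e0 := by decide
        rcases hfix w hzw with rfl | rfl
        · exact ⟨0, zero_mem _, by rw [smul_zero, ← hw, map_zero]⟩
        · exact ⟨x, ⟨1, one_smul _ _⟩, by rw [hx, hw]⟩)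
      _ hzb
    obtain ⟨t, ht⟩ := this
    exact ⟨t, ht.symm⟩
  have hu1 : u = -1 := by
    have hh := hdet bg !![u, 0, 0; 0, 0, 1; 0, 1, 0] (fun j => by
      fin_cases j
      · simp [hu]
      · simp [hbr_def]
      · simp [hbr_def, hbb])
    rw [hom_bg, Matrix.det_fin_three] at hh
    simp at hh
    linear_combination -hh
  rw [hu1, neg_one_smul] at hu
  have hbr' : ρ bg br = r := by rw [hbr_def, hbb]
  -- the element `gg`
  obtain ⟨v, hv⟩ := e.surjective (ρ gg x)
  obtain ⟨w, hw⟩ := e.surjective (ρ gg r)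
  rw [he] at hv hw
  set α := v 0; set β := v 1; set δ := w 0; set ε := w 1; set ζ := w 2
  have hβ : IsUnit β := by
    refine hparunit _ ?_
    have h1 := hpwρ gg x e0 hx
    rw [← hv, ← hφ, hpar] at h1
    exact (congrFun (hι h1) 1).trans (by decide)
  have hγ : v 2 = -β := by
    have h1 := hgb x
    rw [hu, map_neg, ← hv, map_add, map_add, hlin, hlin, hlin, hu, hbr', ← hbr_def] at h1
    refine ((coord (-α) (-β) (-(v 2)) (-α) (v 2) β ?_).2.1).symm.trans rfl
    rw [neg_smul, neg_smul, neg_smul]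
    rw [smul_neg] at h1
    calc -(α • x) + -(β • r) + -(v 2 • br) = -(α • x + β • r + v 2 • br) := by abel
      _ = _ := by rw [h1]; abel
  have hgbr : ρ gg br = (-δ) • x + ζ • r + ε • br := by
    rw [hbr_def, hgb, ← hw, map_add, map_add, hlin, hlin, hlin, hu, hbr', ← hbr_def, smul_neg,
      neg_smul]
    abel
  have hgx : ρ gg x = α • x + β • r + (-β) • br := by rw [← hv, hγ]
  have hgr : ρ gg r = δ • x + ε • r + ζ • br := hw.symm
  -- `gg ^ 2 = bg`
  have h2 := hgg x
  rw [hu, hgx, map_add, map_add, hlin, hlin, hlin, hgx, hgr, hgbr] at h2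
  obtain ⟨q1, q2, -⟩ := coord (α * α + β * δ + β * δ) (α * β + β * ε - β * ζ)
    (-(α * β) + β * ζ - β * ε) (-1) 0 0 (by
      rw [zero_smul, zero_smul, add_zero, add_zero, neg_one_smul, ← h2]
      module)
  have q3 : ε - ζ = -α := by
    have : β * (α + ε - ζ) = 0 := by linear_combination q2
    have := (hβ.mul_right_eq_zero).1 this
    linear_combination this
  have hk : ε + ζ = 1 := by
    have hh := hdet gg !![α, δ, -δ; β, ε, ζ; -β, ζ, ε] (fun j => by
      fin_cases j
      · simpa using hgx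
      · simpa using hgr
      · simpa using hgbr)
    rw [hom_gg, Matrix.det_fin_three] at hh
    simp at hh
    have q4 : ζ = ε + α := by linear_combination -q3
    rw [q4] at hh ⊢
    linear_combination hh + (2 * ε + α) * q1
  -- the fixed element
  obtain ⟨a, ha⟩ := e.surjective c
  rw [he] at ha
  have hbc : ρ bg c = c := by rw [← hgg, hc, hc]
  obtain ⟨-, -, ha2⟩ := coord (-(a 0)) (a 2) (a 1) (a 0) (a 1) (a 2) (by
    rw [ha]
    conv_rhs => rw [← hbc, ← ha, map_add, map_add, hlin, hlin, hlin, hu, hbr', ← hbr_def]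
    module)
  obtain ⟨-, r2, -⟩ := coord (a 0 * α + a 1 * δ - a 2 * δ) (a 0 * β + a 1 * ε + a 2 * ζ)
    (-(a 0 * β) + a 1 * ζ + a 2 * ε) (a 0) (a 1) (a 2) (by
    rw [ha]
    conv_rhs => rw [← hc, ← ha, map_add, map_add, hlin, hlin, hlin, hgx, hgr, hgbr]
    module)
  have ha0 : a 0 = 0 := by
    have : β * a 0 = 0 := by
      rw [← ha2] at r2
      linear_combination r2 - a 1 * hk
    exact (hβ.mul_right_eq_zero).1 this
  refine ⟨a 1 • r, ?_⟩
  rw [hlin, ← hbr_def, ← ha, ha0, ← ha2]
  simp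

end Calc

/-- The computation in an abelian group of exponent `2 ^ m`. -/
theorem abelian_calc {A : Type*} [AddCommGroup A] {m : ℕ} (hm : 1 ≤ m)
    (hkill : ∀ a : A, 2 ^ m • a = 0) (ι : V3 →+ A) (hι : Function.Injective ι)
    (hinv : ∀ a : A, 2 • a = 0 → ∃ u, ι u = a)
    (hpw : ∀ u, ∃ a : A, 2 ^ (m - 1) • a = ι u)
    (ρ : G3 →* AddMonoid.End A) (hρ : ∀ g u, ρ g (ι u) = ι (g u))
    {c : A} (hc : ρ gg c = c) : ∃ s : A, c = s + ρ bg s := by
  let _ : Module (ZMod (2 ^ m)) A := AddCommGroup.zmodModule hkill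
  have hne : NeZero (2 ^ m) := ⟨by positivity⟩
  let par : ZMod (2 ^ m) →+* ZMod 2 :=
    ZMod.castHom (dvd_pow_self 2 (by omega)) (ZMod 2)
  have hval : ∀ t : ZMod (2 ^ m), par t = (t.val : ZMod 2) := fun t => by
    conv_lhs => rw [← ZMod.natCast_zmod_val t, map_natCast]
  refine abelian_calc_aux hm hkill (fun t => ?_) par (fun t ht => ?_) (fun t ht => ?_) ι hι
    (fun t u => ?_) hinv hpw ρ hρ (fun g t a => ZMod.map_smul (ρ g) t a) hc
  · rw [nsmul_eq_mul, ZMod.natCast_self, zero_mul]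
  · rw [← ZMod.natCast_zmod_val t]
    refine (ZMod.isUnit_iff_coprime _ _).2 (Nat.Coprime.pow_right _ ?_)
    rw [Nat.coprime_two_right]
    refine Nat.not_even_iff_odd.1 fun he => ?_
    rw [← ZMod.natCast_eq_zero_iff_even, ← hval, ht] at he
    exact one_ne_zero he
  · rw [hval, ZMod.natCast_eq_zero_iff] at ht
    refine ⟨((t.val / 2 : ℕ) : ZMod (2 ^ m)), ?_⟩
    rw [nsmul_eq_mul, ← Nat.cast_mul, Nat.mul_div_cancel' ht, ZMod.natCast_zmod_val]
  · rw [hval, Nat.cast_smul_eq_nsmul, map_nsmul, ← Nat.cast_smul_eq_nsmul (ZMod (2 ^ m)),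
      ZMod.natCast_zmod_val]

set_option maxHeartbeats 1000000 in
/-- The kernel of a minimal counterexample over `GL₃(2)` is not abelian. -/
theorem Three.not_abelian {K : Type*} [Group K] [Finite K] {π : K →* G3} {ι : V3 → K}
    (h : Three π ι) : ¬ ∀ s t : π.ker, s * t = t * s := by
  intro hab
  let _ : CommGroup π.ker := { (inferInstance : Group π.ker) with mul_comm := hab }
  let toEnd : MulAut π.ker →* AddMonoid.End (Additive π.ker) :=
    { toFun := fun f => MonoidHom.toAdditive (f.toMonoidHom : π.ker →* π.ker)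
      map_one' := rfl
      map_mul' := fun _ _ => rfl }
  let conjHom : K →* MulAut π.ker := MulAut.conjNormal
  have hker : π.ker ≤ conjHom.ker := by
    intro s hs
    refine MonoidHom.mem_ker.2 (MulEquiv.ext fun a => Subtype.ext ?_)
    have h2 := congrArg Subtype.val (hab ⟨s, hs⟩ a)
    simp only [Subgroup.coe_mul] at h2
    show (MulAut.conjNormal s a : K) = a
    rw [MulAut.conjNormal_apply, h2, mul_inv_cancel_right]
  let ρ0 : G3 →* MulAut π.ker := π.liftOfSurjective h.surj ⟨conjHom, hker⟩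
  have hρ0 : ∀ k, ρ0 (π k) = conjHom k := fun k =>
    MonoidHom.liftOfRightInverse_comp_apply π _ _ ⟨conjHom, hker⟩ k
  let ρ : G3 →* AddMonoid.End (Additive π.ker) := toEnd.comp ρ0
  have hρπ : ∀ k a, ρ (π k) a = Additive.ofMul (MulAut.conjNormal k a.toMul) := fun k a => by
    show toEnd (ρ0 (π k)) a = _
    rw [hρ0]
    rfl
  let ι' : V3 →+ Additive π.ker :=
    { toFun := fun u => Additive.ofMul ⟨ι u, h.mem_ker u⟩
      map_zero' := congrArg Additive.ofMul
        (Subtype.ext h.map_zero' : (⟨ι 0, h.mem_ker 0⟩ : π.ker) = 1)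
      map_add' := fun u v => congrArg Additive.ofMul
        (Subtype.ext (h.map_add u v) :
          (⟨ι (u + v), h.mem_ker _⟩ : π.ker) = ⟨ι u, h.mem_ker u⟩ * ⟨ι v, h.mem_ker v⟩) }
  have hρ : ∀ g u, ρ g (ι' u) = ι' (g u) := by
    intro g u
    obtain ⟨k, rfl⟩ := h.surj g
    rw [hρπ]
    have h1 : MulAut.conjNormal k (⟨ι u, h.mem_ker u⟩ : π.ker) = ⟨ι (π k u), h.mem_ker _⟩ :=
      Subtype.ext ((MulAut.conjNormal_apply k _).trans (h.conj k u))
    exact congrArg Additive.ofMul h1
  have hinj : Function.Injective ι' := fun u v huv =>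
    h.inj (congrArg (fun a : Additive π.ker => (a.toMul : K)) huv)
  have hinv : ∀ a : Additive π.ker, 2 • a = 0 → ∃ u, ι' u = a := by
    intro a ha
    obtain ⟨u, hu⟩ := h.invol (a.toMul : K) (by
      have := congrArg (fun a : Additive π.ker => (a.toMul : K)) ha
      simpa [pow_two] using this)
    exact ⟨u, congrArg Additive.ofMul (Subtype.ext hu : (⟨ι u, h.mem_ker u⟩ : π.ker) = a.toMul)⟩
  obtain ⟨N, hN⟩ := IsPGroup.iff_card.1 h.ker_two
  have hex : ∃ m, ∀ a : Additive π.ker, 2 ^ m • a = 0 := by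
    refine ⟨N, fun a => ?_⟩
    rw [← hN]
    show Nat.card π.ker • a = 0
    exact card_nsmul_eq_zero' (G := Additive π.ker) (x := a)
  classical
  set m := Nat.find hex with hm_def
  have hm : ∀ a : Additive π.ker, 2 ^ m • a = 0 := Nat.find_spec hex
  have hm1 : 1 ≤ m := by
    by_contra hlt
    have := hm (ι' e0)
    rw [show m = 0 by omega, pow_zero, one_nsmul, ← map_zero ι'] at this
    exact absurd (hinj this) (by decide)
  obtain ⟨a0, ha0⟩ : ∃ a : Additive π.ker, 2 ^ (m - 1) • a ≠ 0 := by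
    have := Nat.find_min hex (m := m - 1) (by omega)
    push Not at this
    exact this
  have h20 : 2 • (2 ^ (m - 1) • a0) = 0 := by
    rw [← mul_smul, ← pow_succ', show m - 1 + 1 = m by omega, hm]
  obtain ⟨u0, hu0⟩ := hinv _ h20
  have hu00 : u0 ≠ 0 := fun h0 => ha0 (by rw [← hu0, h0, map_zero])
  have hpw : ∀ u, ∃ a : Additive π.ker, 2 ^ (m - 1) • a = ι' u := by
    intro u
    by_cases hu : u = 0
    · exact ⟨0, by rw [hu, smul_zero, map_zero]⟩
    obtain ⟨i, hi⟩ := exists_sg_pow u hu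
    obtain ⟨j, hj⟩ := exists_sg_pow u0 hu00
    refine ⟨ρ (sg ^ (i : ℕ) * (sg ^ (j : ℕ))⁻¹) a0, ?_⟩
    rw [← map_nsmul, ← hu0, hρ, LinearEquiv.mul_apply, ← hj]
    exact congrArg _ ((congrArg _ ((sg ^ (j : ℕ)).symm_apply_apply e0)).trans hi)
  obtain ⟨gl, hgl⟩ := h.surj gg
  have hcker : (gl * gl) * (gl * gl) ∈ π.ker := by
    rw [MonoidHom.mem_ker, map_mul, map_mul, hgl, gg_sq, bg_bg]
  set c : π.ker := ⟨_, hcker⟩ with hc_def
  have hc : ρ gg (Additive.ofMul c) = Additive.ofMul c := by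
    rw [← hgl, hρπ]
    have h1 : MulAut.conjNormal gl c = c := by
      apply Subtype.ext
      rw [MulAut.conjNormal_apply, hc_def]
      group
    exact congrArg Additive.ofMul h1
  obtain ⟨s, hs⟩ := abelian_calc hm1 hm ι' hinj hinv hpw ρ hρ hc
  have hπt : π (gl * gl) = bg := by rw [map_mul, hgl, gg_sq]
  rw [← hπt, hρπ] at hs
  have hs' : (gl * gl) * (gl * gl) =
      (s.toMul : K) * ((gl * gl) * (s.toMul : K) * (gl * gl)⁻¹) :=
    congrArg (fun a : Additive π.ker => (a.toMul : K)) hs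
  set t := gl * gl
  set y := (s.toMul : K)⁻¹ * t with hy_def
  have hy : y * y = 1 := by
    have h1 : t * (s.toMul : K) * t⁻¹ ∈ π.ker :=
      (MonoidHom.normal_ker π).conj_mem _ s.toMul.2 t
    have h2 := congrArg Subtype.val (hab s.toMul ⟨_, h1⟩)
    simp only [Subgroup.coe_mul] at h2
    calc y * y = (s.toMul : K)⁻¹ * (t * (s.toMul : K) * t⁻¹)⁻¹ * (t * t) := by
          rw [hy_def]; group
      _ = 1 := by rw [hs', h2]; group
  obtain ⟨u, hu⟩ := h.invol y hy
  have hπy : π y = 1 := MonoidHom.mem_ker.1 (hu ▸ h.mem_ker u)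
  rw [hy_def, map_mul, map_inv, MonoidHom.mem_ker.1 s.toMul.2, inv_one, one_mul, hπt] at hπy
  exact absurd (LinearEquiv.congr_fun hπy e1) (by decide)

end Cfsg.Agent.H45.Pyramidal
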